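import Mathlib

/-!
# A 2-group with an involution whose centraliser is `⟨t⟩ × V`, `V` central

If an automorphism fixing `t` permutes `V` cyclically off the identity, the derived subgroup has index `2|V|`
and is inverted by `t`; the quotient is elementary, with an invariant complement to `t`.
-/

set_option autoImplicit false

namespace Cfsg.Agent.Fus.CentTwoPSL

open Subgroup
open scoped commutatorElement

universe u

variable {P : Type u} [Group P]

/-- The hypotheses. -/
structure LHyp (t : P) (V : Subgroup P) (d : MulAut P) : Prop where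
  two : IsPGroup 2 P
  t2 : t * t = 1
  tV : t ∉ V
  central : V ≤ center P
  elem : ∀ v ∈ V, v * v = 1
  dt : d t = t
  dV : ∀ v ∈ V, d v ∈ V
  trans : ∀ v ∈ V, v ≠ 1 → ∀ w ∈ V, w ≠ 1 → ∃ j : ℕ, (d ^ j) v = w
  big : 4 ≤ Nat.card V
  cent : ∀ x : P, x * t = t * x → x ∈ V ∨ x * t ∈ V

/-- The conclusion. -/
structure LOut (t : P) (V : Subgroup P) (d : MulAut P) : Prop where
  idx : (commutator P).index = 2 * Nat.card V
  sq : ∀ x : P, x * x ∈ commutator P
  notMem : t ∉ commutator P
  ex : ∃ W : Subgroup P, commutator P ≤ W ∧ V ≤ W ∧ W.index = 2 ∧ t ∉ W ∧ (∀ x ∈ W, d x ∈ W) ∧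
    ∀ a ∈ W, a ∉ commutator P → ∀ b ∈ W, b ∉ commutator P → ∃ j : ℕ, ((d ^ j) a)⁻¹ * b ∈ commutator P

variable {t : P} {V : Subgroup P} {d : MulAut P}

theorem mem_comm (x y : P) : ⁅x, y⁆ ∈ commutator P := by
  rw [commutator_def]; exact Subgroup.commutator_mem_commutator (mem_top x) (mem_top y)

theorem pow_mem_inv {S : Subgroup P} (h : ∀ x ∈ S, d x ∈ S) : ∀ (j : ℕ) (x : P), x ∈ S → (d ^ j) x ∈ S := by
  intro j
  induction j with
  | zero => exact fun x hx => by simpa using hx
  | succ j ih => exact fun x hx => by rw [pow_succ', MulAut.mul_apply]; exact h _ (ih x hx)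

theorem pow_fixed {x : P} (h : d x = x) : ∀ j : ℕ, (d ^ j) x = x := by
  intro j
  induction j with
  | zero => simp
  | succ j ih => rw [pow_succ', MulAut.mul_apply, ih, h]

namespace LHyp

variable (h : LHyp t V d)
include h

theorem no_fixed [Finite P] {v : P} (hv : v ∈ V) (hf : d v = v) : v = 1 := by
  classical
  by_contra hv1
  have hle : (V : Set P) ⊆ {1, v} := fun w hw => by
    by_cases hw1 : w = 1
    · exact Or.inl hw1
    · obtain ⟨j, hj⟩ := h.trans v hv hv1 w hw hw1
      exact Or.inr (hj ▸ pow_fixed hf j)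
  have := Set.ncard_le_ncard hle
  rw [← Nat.card_coe_set_eq] at this
  have h2 : ({1, v} : Set P).ncard ≤ 2 := (Set.ncard_insert_le _ _).trans (by rw [Set.ncard_singleton])
  have := h.big
  simp only [SetLike.coe_sort_coe] at *
  omega

theorem inv_t : t⁻¹ = t := inv_eq_of_mul_eq_one_right h.t2

theorem comm_V {v : P} (hv : v ∈ V) (x : P) : x * v = v * x := mem_center_iff.1 (h.central hv) x

theorem card_cent [Finite P] : Nat.card ↥(centralizer ({t} : Set P)) = 2 * Nat.card V := by
  have hVC : V ≤ centralizer ({t} : Set P) := fun v hv =>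
    mem_centralizer_singleton_iff.2 (h.comm_V hv t).symm
  have hi : (V.subgroupOf (centralizer ({t} : Set P))).index = 2 := by
    refine index_eq_two_iff.2 ⟨⟨t, mem_centralizer_singleton_iff.2 rfl⟩, fun x => ?_⟩
    have hx := mem_centralizer_singleton_iff.1 x.2
    rcases h.cent x.1 hx with h1 | h1
    · exact Or.inr ⟨h1, fun hxt => h.tV ((mul_mem_cancel_left h1).1 hxt)⟩
    · exact Or.inl ⟨h1, fun hx' => h.tV ((mul_mem_cancel_left (show x.1 ∈ V from hx')).1 h1)⟩
  have := (V.subgroupOf (centralizer ({t} : Set P))).card_mul_index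
  rw [Nat.card_congr (subgroupOfEquivOfLe hVC).toEquiv, hi] at this
  omega

theorem base [Finite P] (hP : Nat.card P = 2 * Nat.card V) : LOut t V d := by
  have htop : centralizer ({t} : Set P) = ⊤ := eq_top_of_card_eq _ (by rw [h.card_cent, hP])
  have hd : ∀ x : P, x ∈ V ∨ x * t ∈ V := fun x =>
    h.cent x (mem_centralizer_singleton_iff.1 (htop ▸ mem_top x))
  have hcom : ∀ x y : P, x * y = y * x := by
    intro x y
    rcases hd y with hy | hy
    · exact h.comm_V hy x
    · rcases hd x with hx | hx
      · exact (h.comm_V hx y).symm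
      · have ex : x = x * t * t := by rw [mul_assoc, h.t2, mul_one]
        have ey : y = y * t * t := by rw [mul_assoc, h.t2, mul_one]
        have ht : Commute t t := Commute.refl t
        have c1 : Commute (x * t) (y * t) := h.comm_V hy _
        have c2 : Commute (x * t) t := (h.comm_V hx t).symm
        have c3 : Commute t (y * t) := h.comm_V hy t
        rw [ex, ey]
        exact ((c1.mul_right c2).mul_left (c3.mul_right ht)).eq
  have hbot : commutator P = ⊥ := by
    rw [commutator_def, eq_bot_iff, Subgroup.commutator_le]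
    intro x _ y _
    rw [mem_bot, commutatorElement_eq_one_iff_mul_comm]
    exact hcom x y
  have hidx : V.index = 2 := by
    have := V.card_mul_index
    rw [hP, mul_comm 2] at this
    exact Nat.eq_of_mul_eq_mul_left Nat.card_pos this
  refine ⟨by rw [hbot, index_bot, hP], fun x => ?_, by rw [hbot, mem_bot]; exact fun e => h.tV (e ▸ one_mem V),
    V, by rw [hbot]; exact bot_le, le_refl V, hidx, h.tV, h.dV, fun a ha ha1 b hb hb1 => ?_⟩
  · rw [hbot, mem_bot]
    rcases hd x with hx | hx
    · exact h.elem x hx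
    · have := h.elem _ hx
      calc x * x = x * x * (t * t) := by rw [h.t2, mul_one]
        _ = x * (x * t) * t := by group
        _ = x * (t * x) * t := by rw [hcom x t]
        _ = x * t * (x * t) := by group
        _ = 1 := this
  · rw [hbot, mem_bot] at ha1 hb1
    obtain ⟨j, hj⟩ := h.trans a ha ha1 b hb hb1
    exact ⟨j, by rw [hj, inv_mul_cancel]; exact one_mem _⟩

end LHyp

theorem level (n : ℕ) : ∀ {P : Type u} [Group P] [Finite P], Nat.card P = n → ∀ {t : P} {V : Subgroup P}
    {d : MulAut P}, LHyp t V d → LOut t V d := by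
  induction n using Nat.strong_induction_on with
  | _ n ih =>
    intro P _ _ hn t V d h
    classical
    haveI : Fact (Nat.Prime 2) := ⟨Nat.prime_two⟩
    by_cases hP : Nat.card P = 2 * Nat.card V
    · exact h.base hP
    haveI hVn : V.Normal := ⟨fun v hv g => by rw [h.comm_V hv g, mul_inv_cancel_right]; exact hv⟩
    have hmap : V.map (d : P →* P) = V := by
      refine eq_of_le_of_card_ge ?_ (le_of_eq ?_)
      · rintro _ ⟨v, hv, rfl⟩; exact h.dV v hv
      · exact (card_map_of_injective d.injective).symm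
    let π : P →* P ⧸ V := QuotientGroup.mk' V
    let d' : MulAut (P ⧸ V) := QuotientGroup.congr V V d hmap
    have hd' : ∀ x : P, d' (π x) = π (d x) := fun x => rfl
    have hπ : ∀ x : P, π x = 1 ↔ x ∈ V := fun x => QuotientGroup.eq_one_iff x
    have hπs : Function.Surjective π := QuotientGroup.mk'_surjective V
    have htbar : π t ≠ 1 := fun e => h.tV ((hπ t).1 e)
    set C1 := (centralizer ({π t} : Set (P ⧸ V))).comap π with hC1
    have hC1m : ∀ x, x ∈ C1 ↔ x⁻¹ * t * x * t ∈ V := fun x => by
      rw [hC1, mem_comap, mem_centralizer_singleton_iff, ← hπ, map_mul, map_mul, map_mul, map_inv]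
      constructor
      · intro e
        rw [mul_assoc (π x)⁻¹, ← e, inv_mul_cancel_left, ← map_mul, h.t2, map_one]
      · intro e
        have e2 : (π t) * π x * π t = π x := by
          have := congrArg (π x * ·) e
          simpa [mul_assoc] using this
        have t2' : π t * π t = 1 := by rw [← map_mul, h.t2, map_one]
        calc π x * π t = π t * π x * π t * π t := by rw [e2]
          _ = π t * π x := by rw [mul_assoc _ (π t) (π t), t2', mul_one]
    have htt : ∀ y : P, y * t * t = y := fun y => by rw [mul_assoc, h.t2, mul_one]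
    -- the translation hom
    let τ : ↥C1 →* ↥V := MonoidHom.mk' (fun x => ⟨x.1⁻¹ * t * x.1 * t, (hC1m x.1).1 x.2⟩) fun x y => by
      refine Subtype.ext ?_
      show (x.1 * y.1)⁻¹ * t * (x.1 * y.1) * t = (x.1⁻¹ * t * x.1 * t) * (y.1⁻¹ * t * y.1 * t)
      have hv := h.comm_V ((hC1m x.1).1 x.2) (y.1⁻¹)
      calc (x.1 * y.1)⁻¹ * t * (x.1 * y.1) * t
          = y.1⁻¹ * ((x.1⁻¹ * t * x.1 * t) * t) * y.1 * t := by rw [htt]; group
        _ = y.1⁻¹ * (x.1⁻¹ * t * x.1 * t) * t * y.1 * t := by group
        _ = _ := by rw [hv]; group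
    have hτv : ∀ x : C1, (τ x : P) = x.1⁻¹ * t * x.1 * t := fun x => rfl
    have hτker : ∀ x : C1, τ x = 1 → x.1 ∈ V ∨ x.1 * t ∈ V := fun x hx => by
      refine h.cent x.1 ?_
      have e : x.1⁻¹ * t * x.1 * t = 1 := congrArg Subtype.val hx
      have := congrArg (fun y => x.1 * y * t) e
      simp only [mul_assoc, mul_inv_cancel_left, h.t2, mul_one] at this
      exact this.symm
    have hdC : ∀ x ∈ C1, d x ∈ C1 := fun x hx => by
      rw [hC1m] at hx ⊢
      have := h.dV _ hx
      rwa [map_mul, map_mul, map_mul, map_inv, h.dt] at this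
    have hdτ : ∀ x : C1, (τ ⟨d x.1, hdC _ x.2⟩ : P) = d (τ x : P) := fun x => by
      rw [hτv, hτv, map_mul, map_mul, map_mul, map_inv, h.dt]
    have htC : t ∈ C1 := (hC1m t).2 (by rw [inv_mul_cancel, one_mul, h.t2]; exact one_mem V)
    have hbig : ∃ x : C1, τ x ≠ 1 := by
      by_contra hcon
      push Not at hcon
      have hC : centralizer ({π t} : Set (P ⧸ V)) = Subgroup.zpowers (π t) := by
        refine le_antisymm (fun y hy => ?_) (zpowers_le.2 (mem_centralizer_singleton_iff.2 rfl))
        obtain ⟨x, rfl⟩ := hπs y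
        rcases hτker ⟨x, hy⟩ (hcon _) with hx | hx
        · rw [(hπ x).2 hx]; exact one_mem _
        · have e := (hπ _).2 hx
          rw [map_mul, mul_eq_one_iff_eq_inv] at e
          rw [e]; exact inv_mem (mem_zpowers _)
      have h2 : orderOf (π t) = 2 := orderOf_eq_prime (by rw [pow_two, ← map_mul, h.t2, map_one]) htbar
      haveI : Nontrivial (P ⧸ V) := ⟨⟨_, _, htbar⟩⟩
      haveI : Nontrivial (center (P ⧸ V)) := (h.two.to_quotient V).center_nontrivial
      obtain ⟨⟨z, hz⟩, hz1'⟩ := exists_ne (α := center (P ⧸ V)) 1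
      have hz1 : z ≠ 1 := fun e => hz1' (Subtype.ext e)
      have hzz : z ∈ Subgroup.zpowers (π t) := hC ▸ mem_centralizer_singleton_iff.2 (mem_center_iff.1 hz (π t)).symm
      have hzt : z = π t := by
        rcases (mem_zpowers_iff_mem_range_orderOf.1 hzz) with hh
        rw [h2] at hh
        simp [Finset.range_add_one] at hh
        rcases hh with e | e
        all_goals first | exact e | exact e.symm | exact absurd e hz1 | exact absurd e.symm hz1
      have htop : centralizer ({π t} : Set (P ⧸ V)) = ⊤ := eq_top_iff.2 fun y _ =>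
        mem_centralizer_singleton_iff.2 (hzt ▸ mem_center_iff.1 hz y)
      have hc2 : Nat.card (P ⧸ V) = 2 := by rw [← Subgroup.card_top, ← htop, hC, Nat.card_zpowers, h2]
      exact hP (by rw [Subgroup.card_eq_card_quotient_mul_card_subgroup V, hc2])
    obtain ⟨x₀, hx₀⟩ := hbig
    have hτsurj : Function.Surjective τ := by
      intro w
      by_cases hw : w = 1
      · exact ⟨1, by rw [map_one, hw]⟩
      obtain ⟨j, hj⟩ := h.trans _ (τ x₀).2 (fun e => hx₀ (Subtype.ext e)) _ w.2 (fun e => hw (Subtype.ext e))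
      refine ⟨⟨(d ^ j) x₀.1, pow_mem_inv hdC j _ x₀.2⟩, Subtype.ext ?_⟩
      rw [← hj, hτv, hτv, map_mul, map_mul, map_mul, map_inv, pow_fixed h.dt j]
    have hVcomm : V ≤ commutator P := fun v hv => by
      obtain ⟨x, hx⟩ := hτsurj ⟨v, hv⟩
      have e : x.1⁻¹ * t * x.1 * t = v := congrArg Subtype.val hx
      rw [← e, show x.1⁻¹ * t * x.1 * t = ⁅x.1⁻¹, t⁆ from by
        rw [commutatorElement_def, inv_inv, h.inv_t]]
      exact mem_comm _ _
    -- the centraliser of the image of `t`
    set C := centralizer ({π t} : Set (P ⧸ V)) with hCdef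
    have hsq : ∀ y ∈ C, y * y = 1 := fun y hy => by
      obtain ⟨x, rfl⟩ := hπs y
      rw [← map_mul, hπ]
      have hx2 : τ (⟨x, hy⟩ * ⟨x, hy⟩ : C1) = 1 := by
        rw [map_mul]; exact Subtype.ext (h.elem _ (τ ⟨x, hy⟩).2)
      rcases hτker _ hx2 with h1 | h1
      · exact h1
      · exfalso
        have h1' : x * x * t ∈ V := h1
        have e : t = (x * x)⁻¹ * (x * x * t) := by group
        have hc : x * t = t * x := by
          rw [e]
          exact ((Commute.refl x).mul_right (Commute.refl x)).inv_right.mul_right (h.comm_V h1' x)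
        rcases h.cent x hc with h2 | h2
        · exact h.tV ((mul_mem_cancel_left (mul_mem h2 h2)).1 h1')
        · have h3 : x * x * t * t = x * t * (x * t) := by
            rw [htt]; calc x * x = x * x * (t * t) := by rw [h.t2, mul_one]
              _ = x * (x * t) * t := by group
              _ = x * (t * x) * t := by rw [hc]
              _ = x * t * (x * t) := by group
          have h4 : x * x * t * t ∈ V := h3 ▸ mul_mem h2 h2
          exact h.tV ((mul_mem_cancel_left h1').1 h4)
    have hCcom : ∀ y ∈ C, ∀ z ∈ C, y * z = z * y := fun y hy z hz => by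
      have e := hsq _ (mul_mem hy hz)
      rw [mul_eq_one_iff_eq_inv, mul_inv_rev, inv_eq_of_mul_eq_one_right (hsq y hy),
        inv_eq_of_mul_eq_one_right (hsq z hz)] at e
      exact e
    have hdt' : d' (π t) = π t := by rw [hd', h.dt]
    have hd'C : ∀ y ∈ C, d' y ∈ C := fun y hy => by
      obtain ⟨x, rfl⟩ := hπs y
      rw [hd']; exact hdC x hy
    let δ : ↥C →* P ⧸ V := MonoidHom.mk' (fun y => y.1⁻¹ * d' y.1) fun y z => by
      show (y.1 * z.1)⁻¹ * d' (y.1 * z.1) = (y.1⁻¹ * d' y.1) * (z.1⁻¹ * d' z.1)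
      rw [map_mul, mul_inv_rev,
        show z.1⁻¹ * y.1⁻¹ * (d' y.1 * d' z.1) = z.1⁻¹ * (y.1⁻¹ * d' y.1) * d' z.1 by group,
        hCcom _ (inv_mem z.2) _ (mul_mem (inv_mem y.2) (hd'C _ y.2))]
      group
    let W1 : Subgroup (P ⧸ V) := δ.range
    have hW1C : ∀ w ∈ W1, w ∈ C := by rintro _ ⟨y, rfl⟩; exact mul_mem (inv_mem y.2) (hd'C _ y.2)
    have hfix : ∀ y : C, δ y = 1 → y.1 = 1 ∨ y.1 = π t := fun y hy => by
      obtain ⟨y, hyC⟩ := y
      obtain ⟨x, rfl⟩ := hπs y
      have hf : (π x)⁻¹ * π (d x) = 1 := hy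
      rw [inv_mul_eq_one] at hf
      have hf : d x / x ∈ V := QuotientGroup.eq_iff_div_mem.1 hf.symm
      have hτx : τ ⟨x, hyC⟩ = 1 := Subtype.ext (h.no_fixed (τ ⟨x, hyC⟩).2 (by
        rw [← hdτ, hτv, hτv]
        show (d x)⁻¹ * t * d x * t = x⁻¹ * t * x * t
        have e : d x = d x / x * x := by rw [div_mul_cancel]
        rw [e, mul_inv_rev]
        have hc := h.comm_V hf
        calc x⁻¹ * (d x / x)⁻¹ * t * (d x / x * x) * t
            = x⁻¹ * (d x / x)⁻¹ * (t * (d x / x)) * x * t := by group
          _ = _ := by rw [hc t]; group))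
      rcases hτker _ hτx with h1 | h1
      · exact Or.inl ((hπ x).2 h1)
      · right
        have e := (hπ _).2 h1
        rw [map_mul, mul_eq_one_iff_eq_inv, ← map_inv, h.inv_t] at e
        exact e
    have hcC : Nat.card C = 2 * Nat.card V := by
      have h1 : Nat.card C1 = Nat.card V * Nat.card τ.ker := by
        rw [← Nat.card_congr (QuotientGroup.quotientKerEquivOfSurjective τ hτsurj).toEquiv,
          ← Subgroup.card_eq_card_quotient_mul_card_subgroup]
      have hker : Nat.card τ.ker = 2 * Nat.card V := by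
        rw [← h.card_cent]
        refine Nat.card_congr
          { toFun := fun x => ⟨x.1.1, mem_centralizer_singleton_iff.2 ?_⟩
            invFun := fun x => ⟨⟨x.1, ?_⟩, ?_⟩
            left_inv := fun x => rfl
            right_inv := fun x => rfl }
        · rcases hτker x.1 x.2 with h2 | h2
          · exact (h.comm_V h2 t).symm
          · have := (h.comm_V h2 t)
            have e := congrArg (· * t) this
            simp only [mul_assoc, h.t2, mul_one] at e
            exact e.symm
        · rw [hC1m]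
          have hc := mem_centralizer_singleton_iff.1 x.2
          rw [mul_assoc (x.1⁻¹) t, ← hc, inv_mul_cancel_left, h.t2]; exact one_mem V
        · rw [MonoidHom.mem_ker]
          refine Subtype.ext ?_
          have hc := mem_centralizer_singleton_iff.1 x.2
          show (x : P)⁻¹ * t * x * t = 1
          rw [mul_assoc (x.1⁻¹) t, ← hc, inv_mul_cancel_left, h.t2]
      let π₁ : ↥C1 →* ↥C := MonoidHom.mk' (fun x => ⟨π x.1, x.2⟩) fun x y => Subtype.ext (map_mul π _ _)
      have h2 : Nat.card C1 = Nat.card C * Nat.card V := by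
        rw [Subgroup.card_eq_card_quotient_mul_card_subgroup π₁.ker,
          Nat.card_congr (QuotientGroup.quotientKerEquivOfSurjective π₁ (fun y => by
            obtain ⟨x, hx⟩ := hπs y.1
            exact ⟨⟨x, by rw [hC1, mem_comap, hx]; exact y.2⟩, Subtype.ext hx⟩)).toEquiv]
        congr 1
        refine Nat.card_congr
          { toFun := fun x => ⟨x.1.1, (hπ _).1 (congrArg Subtype.val x.2)⟩
            invFun := fun v => ⟨⟨v.1, by rw [hC1, mem_comap, (hπ _).2 v.2]; exact one_mem _⟩,
              Subtype.ext ((hπ _).2 v.2)⟩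
            left_inv := fun x => rfl
            right_inv := fun x => rfl }
      rw [h1, hker, mul_comm] at h2
      exact Nat.eq_of_mul_eq_mul_right Nat.card_pos h2.symm
    have htW : π t ∉ W1 := by
      rintro ⟨y, hy⟩
      obtain ⟨y, hyC⟩ := y
      obtain ⟨x, rfl⟩ := hπs y
      have he : (π x)⁻¹ * π (d x) = π t := hy
      have hxC1 : x ∈ C1 := hyC
      have hτ1 : τ ⟨d x, hdC x hxC1⟩ = τ ⟨x, hxC1⟩ := by
        have hm : x⁻¹ * d x * t ∈ V := by
          rw [← hπ, map_mul, map_mul, map_inv, he, ← map_mul, h.t2, map_one]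
        have e : (⟨d x, hdC x hxC1⟩ : C1) =
            ⟨x, hxC1⟩ * (⟨x⁻¹ * d x * t, (hC1m _).2 (by
              have := h.comm_V hm t
              rw [mul_assoc (x⁻¹ * d x * t)⁻¹, this, inv_mul_cancel_left, h.t2]; exact one_mem V)⟩ *
              ⟨t, htC⟩) := Subtype.ext (by simp [mul_assoc, h.t2])
        rw [e, map_mul, map_mul,
          show τ ⟨t, htC⟩ = 1 from Subtype.ext (by show t⁻¹ * t * t * t = 1; rw [inv_mul_cancel, one_mul, h.t2]),
          mul_one]
        conv_rhs => rw [← mul_one (τ ⟨x, hxC1⟩)]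
        congr 1
        refine Subtype.ext ?_
        show (x⁻¹ * d x * t)⁻¹ * t * (x⁻¹ * d x * t) * t = 1
        rw [mul_assoc _ t, h.comm_V hm t, inv_mul_cancel_left, h.t2]
      have h1 : τ ⟨x, hxC1⟩ = 1 := Subtype.ext (h.no_fixed (τ _).2 (by rw [← hdτ, hτ1]))
      rcases hτker _ h1 with h2 | h2
      · have h2' : x ∈ V := h2
        rw [(hπ x).2 h2', (hπ _).2 (h.dV x h2'), inv_one, one_mul] at he
        exact htbar he.symm
      · have h2' : x * t ∈ V := h2
        have h3 : d x * t ∈ V := by have := h.dV _ h2'; rwa [map_mul, h.dt] at this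
        have ex : π x = (π t)⁻¹ := by rw [← mul_eq_one_iff_eq_inv, ← map_mul, hπ]; exact h2'
        have edx : π (d x) = (π t)⁻¹ := by rw [← mul_eq_one_iff_eq_inv, ← map_mul, hπ]; exact h3
        rw [ex, edx, inv_mul_cancel] at he
        exact htbar he.symm
    have hker2 : Nat.card δ.ker ≤ 2 := by
      have h1 : ((↑) '' (δ.ker : Set C) : Set (P ⧸ V)) ⊆ {1, π t} := by
        rintro _ ⟨y, hy, rfl⟩
        exact hfix y hy
      have h2 := (Set.ncard_le_ncard h1).trans ((Set.ncard_insert_le _ _).trans (le_of_eq (by rw [Set.ncard_singleton])))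
      rwa [Set.ncard_image_of_injective _ Subtype.val_injective, ← Nat.card_coe_set_eq] at h2
    have hW1card : Nat.card V ≤ Nat.card W1 := by
      have e : Nat.card C = Nat.card W1 * Nat.card δ.ker := by
        rw [Subgroup.card_eq_card_quotient_mul_card_subgroup δ.ker,
          Nat.card_congr (QuotientGroup.quotientKerEquivRange δ).toEquiv]
      rw [hcC] at e
      nlinarith
    have hWsub : W1 ≤ C := hW1C
    have hWi : (W1.subgroupOf C).index = 2 ∧ Nat.card W1 = Nat.card V := by
      have e := (W1.subgroupOf C).card_mul_index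
      rw [Nat.card_congr (subgroupOfEquivOfLe hWsub).toEquiv, hcC] at e
      have hne : (W1.subgroupOf C).index ≠ 1 := fun e1 =>
        htW (mem_subgroupOf.1 (by rw [index_eq_one.1 e1]; exact mem_top (⟨π t, mem_centralizer_singleton_iff.2 rfl⟩ : C)))
      have hne0 := (W1.subgroupOf C).index_ne_zero_of_finite
      have hle : (W1.subgroupOf C).index ≤ 2 := by nlinarith [h.big]
      have hi : (W1.subgroupOf C).index = 2 := by omega
      rw [hi] at e
      exact ⟨hi, by omega⟩
    have hsplit : ∀ y ∈ C, y ∈ W1 ∨ y * π t ∈ W1 := fun y hy => by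
      by_cases hy1 : y ∈ W1
      · exact Or.inl hy1
      · right
        have := (mul_mem_iff_of_index_two hWi.1 (a := (⟨y, hy⟩ : C)) (b := ⟨π t, mem_centralizer_singleton_iff.2 rfl⟩)).2
          (iff_of_false (fun e => hy1 e) fun e => htW e)
        exact this
    have hW1d : ∀ w ∈ W1, d' w ∈ W1 := by
      rintro _ ⟨z, rfl⟩
      exact ⟨⟨d' z.1, hd'C _ z.2⟩, by simp [δ]⟩
    have hW1trans : ∀ a ∈ W1, a ≠ 1 → ∀ b ∈ W1, b ≠ 1 → ∃ j : ℕ, (d' ^ j) a = b := by
      intro a ha ha1 b hb hb1
      obtain ⟨x, rfl⟩ := hπs a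
      obtain ⟨y, rfl⟩ := hπs b
      have hx := hW1C _ ha
      have hy := hW1C _ hb
      have hne : ∀ z : C1, π z.1 ∈ W1 → π z.1 ≠ 1 → τ z ≠ 1 := fun z hz hz1 e => by
        rcases hτker z e with h1 | h1
        · exact hz1 ((hπ _).2 h1)
        · apply htW
          have e1 := (hπ _).2 h1
          rw [map_mul, mul_eq_one_iff_eq_inv'] at e1
          rw [e1]; exact inv_mem hz
      obtain ⟨j, hj⟩ := h.trans _ (τ ⟨x, hx⟩).2 (fun e => hne ⟨x, hx⟩ ha ha1 (Subtype.ext e)) _
        (τ ⟨y, hy⟩).2 (fun e => hne ⟨y, hy⟩ hb hb1 (Subtype.ext e))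
      refine ⟨j, ?_⟩
      have hjC := pow_mem_inv hdC j x hx
      have hπj : ∀ i : ℕ, (d' ^ i) (π x) = π ((d ^ i) x) := fun i => by
        induction i with
        | zero => simp
        | succ i ih => rw [pow_succ', pow_succ', MulAut.mul_apply, MulAut.mul_apply, ih, hd']
      by_contra hne'
      refine hne (⟨y, hy⟩ * ⟨(d ^ j) x, hjC⟩⁻¹) ?_ ?_ ?_
      · show π (y * ((d ^ j) x)⁻¹) ∈ W1
        rw [map_mul, map_inv, ← hπj]
        exact mul_mem hb (inv_mem (pow_mem_inv hW1d j _ ha))
      · show π (y * ((d ^ j) x)⁻¹) ≠ 1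
        rw [map_mul, map_inv, ← hπj]; exact fun e => hne' (mul_inv_eq_one.1 e).symm
      · have he : τ ⟨(d ^ j) x, hjC⟩ = τ ⟨y, hy⟩ := Subtype.ext (by
          rw [← hj, hτv, hτv, map_mul, map_mul, map_mul, map_inv, pow_fixed h.dt j])
        rw [map_mul, map_inv, he, mul_inv_cancel]
    have hcentral : W1 ≤ center (P ⧸ V) := by
      by_cases hC : C = ⊤
      · exact fun w hw => mem_center_iff.2 fun g => hCcom g (hC ▸ mem_top g) w (hW1C w hw)
      · haveI : Nontrivial (P ⧸ V) := ⟨⟨_, _, htbar⟩⟩
        haveI : Nontrivial (center (P ⧸ V)) := (h.two.to_quotient V).center_nontrivial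
        obtain ⟨⟨z, hz⟩, hz1'⟩ := exists_ne (α := center (P ⧸ V)) 1
        have hz1 : z ≠ 1 := fun e => hz1' (Subtype.ext e)
        have htnc : π t ∉ center (P ⧸ V) := fun hc => hC (eq_top_iff.2 fun y _ =>
          mem_centralizer_singleton_iff.2 (mem_center_iff.1 hc y))
        have hzC : z ∈ C := mem_centralizer_singleton_iff.2 (mem_center_iff.1 hz (π t)).symm
        have hdz : d' z ∈ center (P ⧸ V) := mem_center_iff.2 fun g => by
          obtain ⟨g, rfl⟩ := d'.surjective g
          rw [← map_mul, ← map_mul, mem_center_iff.1 hz g]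
        obtain ⟨u, huW, huZ, hu1⟩ : ∃ u, u ∈ W1 ∧ u ∈ center (P ⧸ V) ∧ u ≠ 1 := by
          refine ⟨δ ⟨z, hzC⟩, ⟨_, rfl⟩, mul_mem (inv_mem hz) hdz, fun e => ?_⟩
          rcases hfix _ e with e1 | e1
          · exact hz1 e1
          · exact htnc (show π t ∈ center (P ⧸ V) from e1 ▸ hz)
        intro w hw
        by_cases hw1 : w = 1
        · rw [hw1]; exact one_mem _
        · obtain ⟨j, hj⟩ := hW1trans u huW hu1 w hw hw1
          rw [← hj]
          refine pow_mem_inv (fun x hx => mem_center_iff.2 fun g => ?_) j u huZ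
          obtain ⟨g, rfl⟩ := d'.surjective g
          rw [← map_mul, ← map_mul, mem_center_iff.1 hx g]
    have hbar : LHyp (π t) W1 d' :=
      ⟨h.two.to_quotient V, by rw [← map_mul, h.t2, map_one], htW, hcentral, fun w hw => hsq w (hW1C w hw),
        hdt', hW1d, hW1trans, by rw [hWi.2]; exact h.big,
        fun y hy => hsplit y (mem_centralizer_singleton_iff.2 hy)⟩
    have hlt : Nat.card (P ⧸ V) < n := by
      rw [← hn, Subgroup.card_eq_card_quotient_mul_card_subgroup V]
      exact lt_mul_of_one_lt_right Nat.card_pos (by have := h.big; omega)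
    obtain ⟨hidx, hsq', hnot, W, hcW, -, hWidx, htW', hdW, hWt⟩ := ih _ hlt rfl hbar
    have hcomm : commutator (P ⧸ V) = (commutator P).map π := by
      rw [_root_.commutator_def, _root_.commutator_def, Subgroup.map_commutator, Subgroup.map_top_of_surjective π hπs]
    have hcomap : (commutator (P ⧸ V)).comap π = commutator P := by
      rw [hcomm, comap_map_eq, QuotientGroup.ker_mk', sup_eq_left]; exact hVcomm
    refine ⟨?_, fun x => ?_, fun hm => hnot ?_, W.comap π, ?_, fun v hv => ?_, ?_, htW', fun x hx => ?_, ?_⟩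
    · rw [← hcomap, index_comap_of_surjective _ hπs, hidx, hWi.2]
    · rw [← hcomap, mem_comap, map_mul]; exact hsq' _
    · rwa [← hcomap, mem_comap] at hm
    · rw [← hcomap]; exact comap_mono hcW
    · rw [mem_comap, (hπ v).2 hv]; exact one_mem W
    · rw [index_comap_of_surjective _ hπs]; exact hWidx
    · rw [mem_comap, ← hd']; exact hdW _ hx
    · intro a ha ha1 b hb hb1
      rw [← hcomap, mem_comap] at ha1 hb1
      obtain ⟨j, hj⟩ := hWt _ ha ha1 _ hb hb1
      refine ⟨j, ?_⟩
      have hπj : ∀ i : ℕ, (d' ^ i) (π a) = π ((d ^ i) a) := fun i => by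
        induction i with
        | zero => simp
        | succ i ih' => rw [pow_succ', pow_succ', MulAut.mul_apply, MulAut.mul_apply, ih', hd']
      rw [← hcomap, mem_comap, map_mul, map_inv, ← hπj]
      exact hj

/-- The main statement of the level induction with its consequences. -/
theorem LHyp.out [Finite P] (h : LHyp t V d) : LOut t V d := level _ rfl h

theorem LHyp.class_eq [Finite P] (h : LHyp t V d) : ∀ m ∈ commutator P, ∃ x : P, x⁻¹ * t * x = t * m := by
  classical
  have ho := h.out
  let f : P ⧸ centralizer ({t} : Set P) → P := Quotient.lift (fun x => t * (x * t * x⁻¹)) fun a b hab => by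
    have hc := mem_centralizer_singleton_iff.1 (QuotientGroup.leftRel_apply.1 hab)
    have : a * t * a⁻¹ = b * t * b⁻¹ := by
      calc a * t * a⁻¹ = a * ((a⁻¹ * b) * t * (a⁻¹ * b)⁻¹) * a⁻¹ := by rw [hc, mul_inv_cancel_right]
        _ = _ := by group
    exact congrArg (t * ·) this
  have hinj : Function.Injective f := by
    intro p q
    induction p using QuotientGroup.induction_on with
    | H a => induction q using QuotientGroup.induction_on with
      | H b =>
        intro e
        have e' : a * t * a⁻¹ = b * t * b⁻¹ := mul_left_cancel e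
        refine QuotientGroup.eq.2 (mem_centralizer_singleton_iff.2 ?_)
        calc a⁻¹ * b * t = a⁻¹ * (b * t * b⁻¹) * b := by group
          _ = _ := by rw [← e']; group
  have hsub : Set.range f ⊆ (commutator P : Set P) := by
    rintro _ ⟨p, rfl⟩
    induction p using QuotientGroup.induction_on with
    | H a =>
      show t * (a * t * a⁻¹) ∈ commutator P
      rw [show t * (a * t * a⁻¹) = ⁅t, a⁆ from by rw [commutatorElement_def, h.inv_t]; group]
      exact mem_comm _ _
  have hle : (commutator P : Set P).ncard ≤ (Set.range f).ncard := by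
    rw [Set.ncard_range_of_injective hinj, ← Nat.card_coe_set_eq]
    have e1 := (commutator P).card_mul_index
    have e2 := (centralizer ({t} : Set P)).card_mul_index
    rw [ho.idx] at e1
    rw [h.card_cent, ← Subgroup.index_eq_card] at *
    simp only [SetLike.coe_sort_coe]
    exact le_of_eq (Nat.eq_of_mul_eq_mul_left (show 0 < 2 * Nat.card V by have := h.big; omega)
      (by rw [e2, mul_comm]; exact e1))
  have heq := Set.eq_of_subset_of_ncard_le hsub hle
  intro m hm
  obtain ⟨p, hp⟩ : m ∈ Set.range f := heq ▸ hm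
  induction p using QuotientGroup.induction_on with
  | H a =>
    refine ⟨a⁻¹, ?_⟩
    rw [inv_inv, ← hp]
    show a * t * a⁻¹ = t * (t * (a * t * a⁻¹))
    rw [← mul_assoc, h.t2, one_mul]

theorem LHyp.inverts [Finite P] (h : LHyp t V d) {m : P} (hm : m ∈ commutator P) : t * m * t = m⁻¹ := by
  obtain ⟨x, hx⟩ := h.class_eq m hm
  have h2 : (t * m) * (t * m) = 1 := by
    rw [← hx, show x⁻¹ * t * x * (x⁻¹ * t * x) = x⁻¹ * (t * t) * x by group, h.t2]; group
  exact eq_inv_of_mul_eq_one_left (by rw [← mul_assoc] at h2; exact h2)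

theorem LHyp.comm_abelian [Finite P] (h : LHyp t V d) {a b : P} (ha : a ∈ commutator P) (hb : b ∈ commutator P) :
    a * b = b * a := by
  have e := h.inverts (mul_mem ha hb)
  rw [show t * (a * b) * t = (t * a * t) * (t * b * t) from by
    simp [mul_assoc, ← mul_assoc t t, h.t2], h.inverts ha, h.inverts hb, mul_inv_rev] at e
  have := congrArg (fun y : P => y⁻¹) e
  simpa using this.symm

end Cfsg.Agent.Fus.CentTwoPSL
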