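import Mathlib
import Cfsg.Agent.Lib.Fus.CentTwoPSL.Level

/-!
# Conjugates of `t` in a 2-subgroup centralising `V`

The conjugates form whole cosets of the derived subgroup; at most one of the two non-trivial families of
cosets occurs.
-/

set_option autoImplicit false

namespace Cfsg.Agent.Fus.CentTwoPSL

open Subgroup
open scoped commutatorElement

variable {G : Type*} [Group G]

/-- The ambient hypotheses on `t` and `V`. -/
structure Base (t : G) (V : Subgroup G) : Prop where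
  t2 : t * t = 1
  tV : t ∉ V
  comm : ∀ v ∈ V, v * t = t * v
  abel : ∀ v ∈ V, ∀ w ∈ V, v * w = w * v
  elem : ∀ v ∈ V, v * v = 1
  big : 4 ≤ Nat.card V
  /-- a 2-group centralising `V` and a conjugate of `t` is small -/
  bound : ∀ x : G, IsConj t x → x ∈ centralizer (V : Set G) →
    ∀ R : Subgroup G, IsPGroup 2 R → R ≤ centralizer (V : Set G) → R ≤ centralizer ({x} : Set G) →
      Nat.card R ≤ 2 * Nat.card V
  apart : ∀ v ∈ V, ¬ IsConj t v

/-- `g` fixes `t` and `P` and permutes `V ∖ 1` cyclically. -/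
structure Turn (t : G) (V P : Subgroup G) (g : G) : Prop where
  comm : g * t = t * g
  normV : g ∈ normalizer (V : Set G)
  normP : g ∈ normalizer (P : Set G)
  trans : ∀ v ∈ V, v ≠ 1 → ∀ w ∈ V, w ≠ 1 → ∃ j : ℕ, g ^ j * v * (g ^ j)⁻¹ = w

/-- The structure of a turned 2-subgroup. -/
structure Dat (t : G) (V P : Subgroup G) (g : G) (Q W : Subgroup G) : Prop where
  two : IsPGroup 2 P
  tP : t ∈ P
  VP : V ≤ P
  PX : P ≤ centralizer (V : Set G)
  turn : Turn t V P g
  QP : Q ≤ P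
  Qdef : Q = ⁅P, P⁆
  card_eq : Nat.card P = 2 * Nat.card V * Nat.card Q
  sq : ∀ x ∈ P, x * x ∈ Q
  tQ : t ∉ Q
  cls : ∀ m ∈ Q, ∃ x ∈ P, x⁻¹ * t * x = t * m
  inv : ∀ m ∈ Q, t * m * t = m⁻¹
  QW : Q ≤ W
  VW : V ≤ W
  WP : W ≤ P
  tW : t ∉ W
  cardW : Nat.card W = Nat.card V * Nat.card Q
  split : ∀ x ∈ P, x ∈ W ∨ x * t ∈ W
  gW : g ∈ normalizer (W : Set G)
  wtrans : ∀ a ∈ W, a ∉ Q → ∀ b ∈ W, b ∉ Q → ∃ j : ℕ, (g ^ j * a * (g ^ j)⁻¹)⁻¹ * b ∈ Q

theorem mem_normalizer_of_forall [Finite G] {H : Subgroup G} {g : G} (h : ∀ x ∈ H, g * x * g⁻¹ ∈ H) :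
    g ∈ normalizer (H : Set G) := by
  have hle : H.map (MulAut.conj g).toMonoidHom ≤ H := by rintro _ ⟨x, hx, rfl⟩; exact h x hx
  have heq := eq_of_le_of_card_ge hle (le_of_eq (card_map_of_injective (MulAut.conj g).injective).symm)
  rw [Subgroup.mem_normalizer_iff]
  intro x
  refine ⟨h x, fun hx => ?_⟩
  have hx' : g * x * g⁻¹ ∈ H.map (MulAut.conj g).toMonoidHom := by rw [heq]; exact hx
  obtain ⟨y, hy, e⟩ := hx'
  exact ((MulAut.conj g).injective (show MulAut.conj g y = MulAut.conj g x from e)) ▸ hy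

theorem conj_mem_of_normalizer {H : Subgroup G} {g x : G} (hg : g ∈ normalizer (H : Set G)) (hx : x ∈ H) :
    g * x * g⁻¹ ∈ H :=
  (Subgroup.mem_normalizer_iff.1 hg x).1 hx

variable [Finite G] {t : G} {V P : Subgroup G} {g : G}

theorem Base.cent (h : Base t V) (hP : IsPGroup 2 P) (htP : t ∈ P) (hVP : V ≤ P)
    (hPX : P ≤ centralizer (V : Set G)) {x : G} (hx : x ∈ P) (hc : x * t = t * x) : x ∈ V ∨ x * t ∈ V := by
  classical
  set R := P ⊓ centralizer ({t} : Set G) with hR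
  have hVR : V ≤ R := le_inf hVP fun v hv => mem_centralizer_singleton_iff.2 (h.comm v hv)
  have hcard := h.bound t (IsConj.refl t) (hPX htP) R (hP.to_le inf_le_left) (inf_le_left.trans hPX) inf_le_right
  have hi := (V.subgroupOf R).card_mul_index
  rw [Nat.card_congr (subgroupOfEquivOfLe hVR).toEquiv] at hi
  have hpos : 0 < Nat.card V := Nat.card_pos
  have htR : t ∈ R := ⟨htP, mem_centralizer_singleton_iff.2 rfl⟩
  have hne : (V.subgroupOf R).index ≠ 1 := fun e =>
    h.tV (mem_subgroupOf.1 (index_eq_one.1 e ▸ mem_top (⟨t, htR⟩ : R)))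
  have h0 := (V.subgroupOf R).index_ne_zero_of_finite
  have h2 : (V.subgroupOf R).index = 2 := by
    have : (V.subgroupOf R).index ≤ 2 := by nlinarith
    omega
  by_cases hxV : x ∈ V
  · exact Or.inl hxV
  · right
    have := (mul_mem_iff_of_index_two h2 (a := (⟨x, hx, mem_centralizer_singleton_iff.2 hc⟩ : R))
      (b := ⟨t, htR⟩)).2 (iff_of_false (fun e => hxV e) fun e => h.tV e)
    exact this

theorem Base.dat (h : Base t V) (hP : IsPGroup 2 P) (htP : t ∈ P) (hVP : V ≤ P)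
    (hPX : P ≤ centralizer (V : Set G)) (hg : Turn t V P g) :
    ∃ Q W : Subgroup G, Dat t V P g Q W := by
  classical
  let d : MulAut P := P.normalizerMonoidHom ⟨g, hg.normP⟩
  have hd : ∀ x : P, (d x : G) = g * x * g⁻¹ := fun x => rfl
  have hdp : ∀ (j : ℕ) (x : P), ((d ^ j) x : G) = g ^ j * x * (g ^ j)⁻¹ := by
    intro j
    induction j with
    | zero => intro x; simp
    | succ j ih => intro x; rw [pow_succ', MulAut.mul_apply, hd, ih, pow_succ']; group
  have hL : LHyp (⟨t, htP⟩ : P) (V.subgroupOf P) d := by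
    refine ⟨hP, Subtype.ext h.t2, fun e => h.tV e, fun v hv => ?_, fun v hv => Subtype.ext (h.elem _ hv), ?_,
      fun v hv => ?_, fun v hv hv1 w hw hw1 => ?_, ?_, fun x hx => ?_⟩
    · exact mem_center_iff.2 fun x => Subtype.ext (mem_centralizer_iff.1 (hPX x.2) _ hv).symm
    · exact Subtype.ext (by rw [hd]; show g * t * g⁻¹ = t; rw [hg.comm, mul_inv_cancel_right])
    · rw [mem_subgroupOf, hd]; exact conj_mem_of_normalizer hg.normV hv
    · obtain ⟨j, hj⟩ := hg.trans _ hv (fun e => hv1 (Subtype.ext e)) _ hw (fun e => hw1 (Subtype.ext e))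
      exact ⟨j, Subtype.ext (by rw [hdp]; exact hj)⟩
    · rw [Nat.card_congr (subgroupOfEquivOfLe hVP).toEquiv]; exact h.big
    · exact h.cent hP htP hVP hPX x.2 (congrArg Subtype.val hx)
  have ho := hL.out
  obtain ⟨W, hQW, hVW, hWi, htW, hdW, hWt⟩ := ho.ex
  have hmem : ∀ {H : Subgroup P} {x : P}, (x : G) ∈ H.map P.subtype ↔ x ∈ H := fun {H x} =>
    ⟨fun ⟨y, hy, e⟩ => Subtype.ext e ▸ hy, fun hx => ⟨x, hx, rfl⟩⟩
  have hcV : Nat.card (V.subgroupOf P) = Nat.card V := Nat.card_congr (subgroupOfEquivOfLe hVP).toEquiv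
  have hcm : ∀ H : Subgroup P, Nat.card (H.map P.subtype) = Nat.card H := fun H =>
    card_map_of_injective P.subtype_injective
  refine ⟨(_root_.commutator P).map P.subtype, W.map P.subtype, hP, htP, hVP, hPX, hg, map_subtype_le _,
    map_subtype_commutator P, ?_, fun x hx => ?_, fun e => ho.notMem (hmem.1 (show ((⟨t, htP⟩ : P) : G) ∈ _ from e)),
    fun m hm => ?_, fun m hm => ?_, map_mono hQW, fun v hv => ⟨⟨v, hVP hv⟩, hVW hv, rfl⟩, map_subtype_le _,
    fun e => htW (hmem.1 (show ((⟨t, htP⟩ : P) : G) ∈ _ from e)), ?_, fun x hx => ?_, mem_normalizer_of_forall ?_,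
    fun a ha ha1 b hb hb1 => ?_⟩
  · have := (_root_.commutator P).card_mul_index
    rw [ho.idx, hcV] at this
    rw [hcm, ← this, mul_comm]
  · exact hmem.2 (ho.sq ⟨x, hx⟩)
  · obtain ⟨m, hm', rfl⟩ := hm
    obtain ⟨x, hx⟩ := hL.class_eq m hm'
    exact ⟨x, x.2, congrArg Subtype.val hx⟩
  · obtain ⟨m, hm', rfl⟩ := hm
    exact congrArg Subtype.val (hL.inverts hm')
  · rw [hcm, hcm]
    have e1 := (_root_.commutator P).card_mul_index
    have e2 := W.card_mul_index
    rw [ho.idx, hcV] at e1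
    rw [hWi] at e2
    have e3 : 2 * (Nat.card V * Nat.card (_root_.commutator P)) = Nat.card P := by rw [← e1]; ring
    omega
  · by_cases hxW : (⟨x, hx⟩ : P) ∈ W
    · exact Or.inl (hmem.2 hxW)
    · exact Or.inr (hmem.2 (show (⟨x, hx⟩ : P) * ⟨t, htP⟩ ∈ W from
        (mul_mem_iff_of_index_two hWi).2 (iff_of_false hxW htW)))
  · rintro _ ⟨x, hx, rfl⟩
    exact ⟨d x, hdW x hx, hd x⟩
  · obtain ⟨a, ha', rfl⟩ := ha
    obtain ⟨b, hb', rfl⟩ := hb
    obtain ⟨j, hj⟩ := hWt a ha' (fun e => ha1 (hmem.2 e)) b hb' (fun e => hb1 (hmem.2 e))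
    exact ⟨j, ⟨_, hj, by simp only [coe_subtype, Subgroup.coe_mul, InvMemClass.coe_inv, hdp]⟩⟩

namespace Dat

variable {Q W : Subgroup G} (hd : Dat t V P g Q W)
include hd

theorem Q_normal {x : G} (hx : x ∈ normalizer (P : Set G)) : x ∈ normalizer (Q : Set G) := by
  refine mem_normalizer_of_forall fun m hm => ?_
  have hmap : Q.map (MulAut.conj x).toMonoidHom = Q := by
    rw [hd.Qdef, map_commutator]
    have : P.map (MulAut.conj x).toMonoidHom = P := by
      refine eq_of_le_of_card_ge ?_ (le_of_eq (card_map_of_injective (MulAut.conj x).injective).symm)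
      rintro _ ⟨y, hy, rfl⟩
      exact conj_mem_of_normalizer hx hy
    rw [this]
  exact hmap ▸ ⟨m, hm, rfl⟩

theorem pow_normP (j : ℕ) : g ^ j ∈ normalizer (P : Set G) := pow_mem hd.turn.normP j

theorem mem_T (hb : Base t V) {x : G} (hx : x ∈ P) (hc : x * t = t * x) : x ∈ V ∨ x * t ∈ V :=
  hb.cent hd.two hd.tP hd.VP hd.PX hx hc

theorem W_cent (hb : Base t V) {x : G} (hx : x ∈ W) (hc : x * t = t * x) : x ∈ V := by
  rcases hd.mem_T hb (hd.WP hx) hc with h | h
  · exact h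
  · exact absurd ((mul_mem_cancel_left hx).1 (hd.VW h)) hd.tW

theorem V_le_Q (hb : Base t V) (hne : Q ≠ ⊥) : V ≤ Q := by
  classical
  haveI : Fact (Nat.Prime 2) := ⟨Nat.prime_two⟩
  obtain ⟨k, hk⟩ := IsPGroup.iff_card.1 (hd.two.to_le hd.QP)
  have hk0 : k ≠ 0 := fun e => hne (Subgroup.card_eq_one.1 (by rw [hk, e, pow_zero]))
  obtain ⟨a, ha⟩ := exists_prime_orderOf_dvd_card' (G := Q) 2 (by rw [hk]; exact dvd_pow_self 2 hk0)
  have ha2 : (a : G) * a = 1 := by
    have := pow_orderOf_eq_one a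
    rw [ha, pow_two] at this
    exact congrArg Subtype.val this
  have hc : (a : G) * t = t * a := by
    have e := hd.inv a a.2
    rw [inv_eq_of_mul_eq_one_right ha2] at e
    calc (a : G) * t = t * a * t * t := by rw [e]
      _ = t * a := by rw [mul_assoc _ t t, hb.t2, mul_one]
  have haV := hd.W_cent hb (hd.QW a.2) hc
  have ha1 : (a : G) ≠ 1 := fun e => by
    rw [Subtype.ext e (a2 := (1 : Q)), orderOf_one] at ha; norm_num at ha
  intro v hv
  by_cases hv1 : v = 1
  · rw [hv1]; exact one_mem _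
  · obtain ⟨j, hj⟩ := hd.turn.trans _ haV ha1 v hv hv1
    rw [← hj]
    exact conj_mem_of_normalizer (hd.Q_normal (hd.pow_normP j)) a.2

/-- A conjugate of `t` in `P` carries its coset of the derived subgroup. -/
theorem coset (hb : Base t V) {x m : G} (hx : x ∈ P) (hK : IsConj t x) (hm : m ∈ Q) : IsConj t (x * m) := by
  classical
  let f : P ⧸ centralizer ({⟨x, hx⟩} : Set P) → G := Quotient.lift
    (fun y : P => x⁻¹ * ((y : G) * x * (y : G)⁻¹)) fun a b hab => by
      have hc := congrArg Subtype.val (mem_centralizer_singleton_iff.1 (QuotientGroup.leftRel_apply.1 hab))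
      simp only [Subgroup.coe_mul, InvMemClass.coe_inv] at hc
      show x⁻¹ * ((a : G) * x * (a : G)⁻¹) = x⁻¹ * ((b : G) * x * (b : G)⁻¹)
      have e : (a : G) * x * (a : G)⁻¹ = (b : G) * x * (b : G)⁻¹ := by
        calc (a : G) * x * (a : G)⁻¹ = a * (((a : G)⁻¹ * b) * x * ((a : G)⁻¹ * b)⁻¹) * (a : G)⁻¹ := by
              rw [hc, mul_inv_cancel_right]
          _ = _ := by group
      rw [e]
  have hinj : Function.Injective f := by
    intro p q
    induction p using QuotientGroup.induction_on with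
    | H a => induction q using QuotientGroup.induction_on with
      | H b =>
        intro e
        have e' : (a : G) * x * (a : G)⁻¹ = b * x * (b : G)⁻¹ := mul_left_cancel e
        refine QuotientGroup.eq.2 (mem_centralizer_singleton_iff.2 (Subtype.ext ?_))
        simp only [Subgroup.coe_mul, InvMemClass.coe_inv]
        calc (a : G)⁻¹ * b * x = (a : G)⁻¹ * ((b : G) * x * (b : G)⁻¹) * b := by group
          _ = _ := by rw [← e']; group
  have hsub : Set.range f ⊆ (Q : Set G) := by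
    rintro _ ⟨p, rfl⟩
    induction p using QuotientGroup.induction_on with
    | H a =>
      show x⁻¹ * ((a : G) * x * (a : G)⁻¹) ∈ Q
      rw [hd.Qdef, show x⁻¹ * ((a : G) * x * (a : G)⁻¹) = ⁅x⁻¹, (a : G)⁆ by
        rw [commutatorElement_def, inv_inv]; group]
      exact commutator_mem_commutator (inv_mem hx) a.2
  have hC : Nat.card (centralizer ({⟨x, hx⟩} : Set P)) ≤ 2 * Nat.card V := by
    rw [← Subgroup.card_map_of_injective (K := centralizer ({⟨x, hx⟩} : Set P)) P.subtype_injective]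
    refine hb.bound x hK (hd.PX hx) _ (hd.two.to_le (map_subtype_le _)) ((map_subtype_le _).trans hd.PX) ?_
    rintro _ ⟨y, hy, rfl⟩
    exact mem_centralizer_singleton_iff.2 (congrArg Subtype.val (mem_centralizer_singleton_iff.1 hy))
  have hle : (Q : Set G).ncard ≤ (Set.range f).ncard := by
    rw [Set.ncard_range_of_injective hinj, ← Nat.card_coe_set_eq, ← Subgroup.index_eq_card]
    have e := (centralizer ({⟨x, hx⟩} : Set P)).card_mul_index
    rw [hd.card_eq] at e
    have hV := hb.big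
    simp only [SetLike.coe_sort_coe]
    nlinarith [Nat.mul_le_mul_right (centralizer ({⟨x, hx⟩} : Set P)).index hC]
  obtain ⟨p, hp⟩ : m ∈ Set.range f := (Set.eq_of_subset_of_ncard_le hsub hle) ▸ hm
  induction p using QuotientGroup.induction_on with
  | H a =>
    rw [← hp]
    show IsConj t (x * (x⁻¹ * ((a : G) * x * (a : G)⁻¹)))
    rw [mul_inv_cancel_left]
    exact hK.trans (_root_.isConj_iff.2 ⟨a, rfl⟩)

theorem notQ (hb : Base t V) {x : G} (hx : x ∈ Q) : ¬ IsConj t x := fun hK => by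
  obtain ⟨c, hc⟩ := _root_.isConj_iff.1 hK
  have h2 : x * x = 1 := by
    rw [← hc, show c * t * c⁻¹ * (c * t * c⁻¹) = c * (t * t) * c⁻¹ by group, hb.t2]; group
  have e := hd.inv x hx
  rw [inv_eq_of_mul_eq_one_right h2] at e
  refine hb.apart x (hd.W_cent hb (hd.QW hx) ?_) hK
  calc x * t = t * x * t * t := by rw [e]
    _ = t * x := by rw [mul_assoc _ t t, hb.t2, mul_one]

theorem tcoset (hb : Base t V) {m : G} (hm : m ∈ Q) : IsConj t (t * m) := hd.coset hb hd.tP (IsConj.refl t) hm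

theorem W_all (hb : Base t V) {a b : G} (ha : a ∈ W) (haQ : a ∉ Q) (hbW : b ∈ W) (hbQ : b ∉ Q)
    (hK : IsConj t a) : IsConj t b := by
  obtain ⟨j, hj⟩ := hd.wtrans a ha haQ b hbW hbQ
  have hc : IsConj t (g ^ j * a * (g ^ j)⁻¹) := hK.trans (_root_.isConj_iff.2 ⟨g ^ j, rfl⟩)
  have := hd.coset hb (conj_mem_of_normalizer (hd.pow_normP j) (hd.WP ha)) hc hj
  rwa [mul_inv_cancel_left] at this

theorem tW_all (hb : Base t V) {a b : G} (ha : a ∈ W) (haQ : a ∉ Q) (hbW : b ∈ W) (hbQ : b ∉ Q)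
    (hK : IsConj t (t * a)) : IsConj t (t * b) := by
  obtain ⟨j, hj⟩ := hd.wtrans a ha haQ b hbW hbQ
  have hgj : g ^ j * t = t * g ^ j := (Commute.pow_left hd.turn.comm j : Commute (g ^ j) t)
  have e : g ^ j * (t * a) * (g ^ j)⁻¹ = t * (g ^ j * a * (g ^ j)⁻¹) := by
    rw [← mul_assoc, hgj]; group
  have hc : IsConj t (t * (g ^ j * a * (g ^ j)⁻¹)) := hK.trans (_root_.isConj_iff.2 ⟨g ^ j, e⟩)
  have := hd.coset hb (mul_mem hd.tP (conj_mem_of_normalizer (hd.pow_normP j) (hd.WP ha))) hc hj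
  rwa [mul_assoc, mul_inv_cancel_left] at this

/-- The two families do not both occur. -/
theorem not_both (hb : Base t V) {a : G} (ha : a ∈ W) (hK : IsConj t a) (hK' : IsConj t (t * a)) :
    False := by
  obtain ⟨c, hc⟩ := _root_.isConj_iff.1 hK
  have h2 : a * a = 1 := by
    rw [← hc, show c * t * c⁻¹ * (c * t * c⁻¹) = c * (t * t) * c⁻¹ by group, hb.t2]; group
  obtain ⟨c', hc'⟩ := _root_.isConj_iff.1 hK'
  have h3 : (t * a) * (t * a) = 1 := by
    rw [← hc', show c' * t * c'⁻¹ * (c' * t * c'⁻¹) = c' * (t * t) * c'⁻¹ by group, hb.t2]; group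
  refine hb.apart a (hd.W_cent hb ha ?_) hK
  calc a * t = (t * a) * (t * a) * (a * t) := by rw [h3, one_mul]
    _ = t * a * t * (a * a) * t := by group
    _ = t * a := by rw [h2, mul_one, mul_assoc _ t t, hb.t2, mul_one]

end Dat

end Cfsg.Agent.Fus.CentTwoPSL
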