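import Mathlib
import Cfsg.Agent.Lib.Fus.CentTwoPSL.Classes

/-!
# Growing a turned 2-subgroup to a Sylow 2-subgroup of the centraliser of `V`

If the normalizer moves the coset of `t`, all of `t W` is conjugate to `t` and `W` is inverted; the
translations then enlarge the group.
-/

set_option autoImplicit false
set_option linter.style.haveILetI false

namespace Cfsg.Agent.Fus.CentTwoPSL

open Subgroup
open scoped commutatorElement

variable {G : Type*} [Group G] [Finite G] {t : G} {V P : Subgroup G} {g : G} {Q W : Subgroup G}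

/-- All of `t W` is conjugate to `t` and nothing in `W` is. -/
structure Aff (t : G) (W : Subgroup G) : Prop where
  all : ∀ w ∈ W, IsConj t (t * w)
  none : ∀ w ∈ W, ¬ IsConj t w

namespace Dat

variable (hd : Dat t V P g Q W)
include hd

theorem cases (hb : Base t V) {x : G} (hx : x ∈ P) (hK : IsConj t x) :
    t * x ∈ Q ∨ (x ∈ W ∧ x ∉ Q) ∨ (t * x ∈ W ∧ t * x ∉ Q) := by
  by_cases h1 : t * x ∈ Q
  · exact Or.inl h1
  rcases hd.split (t * x) (mul_mem hd.tP hx) with h2 | h2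
  · exact Or.inr (Or.inr ⟨h2, h1⟩)
  · rcases hd.split x hx with h3 | h3
    · exact Or.inr (Or.inl ⟨h3, fun e => hd.notQ hb e hK⟩)
    · exfalso
      have h4 : t ∈ W := by
        have := mul_mem h2 (inv_mem h3)
        rwa [show t * x * t * (x * t)⁻¹ = t by group] at this
      exact hd.tW h4

theorem exists_third {a : G} (hb : Base t V) : ∃ b ∈ W, b ∉ Q ∧ a⁻¹ * b ∉ Q := by
  classical
  by_contra hcon
  push Not at hcon
  have hsub : (W : Set G) ⊆ (Q : Set G) ∪ (a * ·) '' (Q : Set G) := fun b hbW => by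
    by_cases hbQ : b ∈ Q
    · exact Or.inl hbQ
    · exact Or.inr ⟨a⁻¹ * b, hcon b hbW hbQ, by group⟩
  have h1 := (Set.ncard_le_ncard hsub).trans (Set.ncard_union_le _ _)
  rw [Set.ncard_image_of_injective _ (mul_right_injective a), ← Nat.card_coe_set_eq, ← Nat.card_coe_set_eq] at h1
  simp only [SetLike.coe_sort_coe] at h1
  rw [hd.cardW] at h1
  have := hb.big
  have hQ : 0 < Nat.card Q := Nat.card_pos
  nlinarith

/-- An element moving the coset of `t` forces the affine configuration. -/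
theorem aff_of_moved (hb : Base t V) {n : G} (hn : n ∈ normalizer (P : Set G))
    (hmove : t * (n * t * n⁻¹) ∉ Q) : Aff t W := by
  have hnK : ∀ {y : G}, y ∈ P → IsConj t y → n * y * n⁻¹ ∈ P ∧ IsConj t (n * y * n⁻¹) := fun hy hK =>
    ⟨conj_mem_of_normalizer hn hy, hK.trans (_root_.isConj_iff.2 ⟨n, rfl⟩)⟩
  have hnQ : ∀ {y : G}, y ∈ Q → n * y * n⁻¹ ∈ Q := fun hy => conj_mem_of_normalizer (hd.Q_normal hn) hy
  have hnQ' : ∀ {y : G}, y ∈ Q → n⁻¹ * y * n ∈ Q := fun hy => by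
    simpa using conj_mem_of_normalizer (hd.Q_normal (inv_mem hn)) hy
  have hnone : ∀ w ∈ W, ¬ IsConj t w := by
    intro a ha hK
    have haQ : a ∉ Q := fun e => hd.notQ hb e hK
    have hA : ∀ b ∈ W, b ∉ Q → IsConj t b := fun b hbW hbQ => hd.W_all hb ha haQ hbW hbQ hK
    have hfam : ∀ {y : G}, y ∈ P → IsConj t y → t * y ∈ Q ∨ (y ∈ W ∧ y ∉ Q) := fun {y} hy hyK => by
      rcases hd.cases hb hy hyK with h1 | h1 | ⟨h1, h2⟩
      · exact Or.inl h1
      · exact Or.inr h1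
      · exfalso
        have e : t * (t * y) = y := by rw [← mul_assoc, hb.t2, one_mul]
        exact hd.not_both hb h1 (hA _ h1 h2) (by rw [e]; exact hyK)
    set a₀ := n⁻¹ * t * n with ha₀
    have ha₀P : a₀ ∈ P := by
      rw [ha₀]; simpa using conj_mem_of_normalizer (inv_mem hn) hd.tP
    have ha₀K : IsConj t a₀ := _root_.isConj_iff.2 ⟨n⁻¹, by rw [ha₀, inv_inv]⟩
    obtain ⟨ha₀W, ha₀Q⟩ := (hfam ha₀P ha₀K).resolve_left fun e => hmove (by
      have h1 := hnQ e
      rw [ha₀, show n * (t * (n⁻¹ * t * n)) * n⁻¹ = n * t * n⁻¹ * t by group] at h1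
      have := hd.inv _ h1
      rw [show t * (n * t * n⁻¹ * t) * t = t * (n * t * n⁻¹) * (t * t) by group, hb.t2, mul_one] at this
      rw [this]; exact inv_mem h1)
    obtain ⟨b, hbW, hbQ, habQ⟩ := hd.exists_third (a := a₀) hb
    obtain ⟨hbP, hbK⟩ := hnK (hd.WP hbW) (hA b hbW hbQ)
    have hprod : n * (a₀⁻¹ * b) * n⁻¹ = t * (n * b * n⁻¹) := by
      rw [ha₀, mul_inv_rev, mul_inv_rev, inv_inv, inv_eq_of_mul_eq_one_right hb.t2]; group
    obtain ⟨hbW', -⟩ := (hfam hbP hbK).resolve_left fun e => habQ (by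
      have := hnQ' (hprod.symm ▸ e : n * (a₀⁻¹ * b) * n⁻¹ ∈ Q)
      rwa [show n⁻¹ * (n * (a₀⁻¹ * b) * n⁻¹) * n = a₀⁻¹ * b by group] at this)
    obtain ⟨hcP, hcK⟩ := hnK (hd.WP (mul_mem (inv_mem ha₀W) hbW)) (hA _ (mul_mem (inv_mem ha₀W) hbW) habQ)
    rw [hprod] at hcP hcK
    rcases hfam hcP hcK with e | ⟨e, -⟩
    · rw [← mul_assoc, hb.t2, one_mul] at e
      exact hd.notQ hb e hbK
    · exact hd.tW ((mul_mem_cancel_right hbW').1 e)
  refine ⟨?_, hnone⟩
  have hcP := (hnK hd.tP (IsConj.refl t)).1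
  have hcK := (hnK hd.tP (IsConj.refl t)).2
  rcases hd.cases hb hcP hcK with h1 | ⟨h1, -⟩ | ⟨h1, h2⟩
  · exact absurd h1 hmove
  · exact absurd hcK (hnone _ h1)
  intro w hw
  by_cases hwQ : w ∈ Q
  · exact hd.tcoset hb hwQ
  · refine hd.tW_all hb h1 h2 hw hwQ ?_
    rwa [← mul_assoc, hb.t2, one_mul]

variable (ha : Aff t W) (hb : Base t V)
include ha hb

omit hd in
theorem W_inv {w : G} (hw : w ∈ W) : t * w * t = w⁻¹ := by
  obtain ⟨c, hc⟩ := _root_.isConj_iff.1 (ha.all w hw)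
  have h : (t * w) * (t * w) = 1 := by
    rw [← hc, show c * t * c⁻¹ * (c * t * c⁻¹) = c * (t * t) * c⁻¹ by group, hb.t2]; group
  exact eq_inv_of_mul_eq_one_left (by rw [← mul_assoc] at h; exact h)

omit hd in
theorem W_comm {a b : G} (h1 : a ∈ W) (h2 : b ∈ W) : a * b = b * a := by
  have e := W_inv ha hb (mul_mem h1 h2)
  rw [show t * (a * b) * t = (t * a * t) * (t * b * t) from by
    simp [mul_assoc, ← mul_assoc t t, hb.t2], W_inv ha hb h1, W_inv ha hb h2, mul_inv_rev] at e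
  simpa using (congrArg (fun y : G => y⁻¹) e).symm

theorem conj_iff {x : G} (hx : x ∈ P) : IsConj t x ↔ t * x ∈ W := by
  constructor
  · intro hK
    rcases hd.cases hb hx hK with h1 | ⟨h1, -⟩ | ⟨h1, -⟩
    · exact hd.QW h1
    · exact absurd hK (ha.none x h1)
    · exact h1
  · intro h
    have := ha.all _ h
    rwa [← mul_assoc, hb.t2, one_mul] at this

theorem W_normal {n : G} (hn : n ∈ normalizer (P : Set G)) : n ∈ normalizer (W : Set G) := by
  refine mem_normalizer_of_forall fun w hw => ?_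
  rcases hd.split _ (conj_mem_of_normalizer hn (hd.WP hw)) with h1 | h1
  · exact h1
  · exfalso
    have e : t * (n * w * n⁻¹) = t * (n * w * n⁻¹ * t) * t := by simp [mul_assoc, hb.t2]
    have h2 : t * (n * w * n⁻¹) ∈ W := by rw [e, W_inv ha hb h1]; exact inv_mem h1
    have hK := (hd.conj_iff ha hb (conj_mem_of_normalizer hn (hd.WP hw))).2 h2
    exact ha.none w hw (hK.trans (_root_.isConj_iff.2 ⟨n⁻¹, by group⟩))

theorem exists_level : ∃ k : ℕ, (∀ w ∈ W, w ^ 2 ^ k ∈ V) ∧ ∀ w ∈ W, w ^ 2 ^ k = 1 ↔ w ∈ Q := by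
  classical
  have hp : ∀ (w : G) (k : ℕ), w ^ 2 ^ (k + 1) = w ^ 2 ^ k * w ^ 2 ^ k := fun w k => by
    rw [pow_succ, pow_mul, pow_two]
  have hex : ∃ k : ℕ, ∀ w ∈ W, w ^ 2 ^ (k + 1) = 1 := by
    obtain ⟨k, hk⟩ := IsPGroup.iff_card.1 (hd.two.to_le hd.WP)
    refine ⟨k, fun w hw => ?_⟩
    have hdvd : orderOf (⟨w, hw⟩ : W) ∣ 2 ^ (k + 1) :=
      (_root_.orderOf_dvd_natCard _).trans (hk ▸ pow_dvd_pow 2 (Nat.le_succ k))
    exact congrArg Subtype.val (orderOf_dvd_iff_pow_eq_one.1 hdvd)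
  let sq : ↥W →* ↥Q := MonoidHom.mk' (fun w => ⟨(w : G) * w, hd.sq _ (hd.WP w.2)⟩) fun a b => Subtype.ext (by
    show (a : G) * b * (a * b) = a * a * (b * b)
    rw [show (a : G) * b * (a * b) = a * (b * a) * b by group, W_comm ha hb b.2 a.2]; group)
  have hsurj : Function.Surjective sq := by
    have hker : Nat.card sq.ker ≤ Nat.card V := by
      refine Nat.card_le_card_of_injective (fun w => (⟨w.1.1, hd.W_cent hb w.1.2 ?_⟩ : V)) ?_
      · have e := W_inv ha hb w.1.2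
        rw [inv_eq_of_mul_eq_one_right (congrArg Subtype.val w.2 : (w.1 : G) * w.1 = 1)] at e
        calc (w.1 : G) * t = t * w.1 * t * t := by rw [e]
          _ = t * w.1 := by rw [mul_assoc _ t t, hb.t2, mul_one]
      · intro a b e
        exact Subtype.ext (Subtype.ext (congrArg (fun v : V => (v : G)) e))
    rw [← MonoidHom.range_eq_top]
    refine eq_top_of_le_card _ ?_
    have e : Nat.card W = Nat.card sq.range * Nat.card sq.ker := by
      rw [Subgroup.card_eq_card_quotient_mul_card_subgroup sq.ker,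
        Nat.card_congr (QuotientGroup.quotientKerEquivRange sq).toEquiv]
    rw [hd.cardW] at e
    have := hb.big
    nlinarith
  set k := Nat.find hex with hk
  have hspec := Nat.find_spec hex
  refine ⟨k, fun w hw => hd.W_cent hb (pow_mem hw _) ?_, fun w hw => ⟨fun h1 => ?_, fun h1 => ?_⟩⟩
  · have h2 := hspec w hw
    rw [hp] at h2
    have e := W_inv ha hb (pow_mem hw (2 ^ k))
    rw [inv_eq_of_mul_eq_one_right h2] at e
    calc w ^ 2 ^ k * t = t * w ^ 2 ^ k * t * t := by rw [e]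
      _ = t * w ^ 2 ^ k := by rw [mul_assoc _ t t, hb.t2, mul_one]
  · by_contra hwQ
    have hQk : ∀ m ∈ Q, m ^ 2 ^ k = 1 := fun m hm => by
      obtain ⟨u, hu⟩ := hsurj ⟨m, hm⟩
      rw [← show (u : G) * u = m from congrArg Subtype.val hu, ← pow_two, ← pow_mul, ← pow_succ']
      exact hspec _ u.2
    have hall : ∀ b ∈ W, b ^ 2 ^ k = 1 := fun b hbW => by
      by_cases hbQ : b ∈ Q
      · exact hQk b hbQ
      obtain ⟨j, hj⟩ := hd.wtrans w hw hwQ b hbW hbQ
      have hc : g ^ j * w * (g ^ j)⁻¹ ∈ W := conj_mem_of_normalizer (pow_mem hd.gW j) hw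
      have hcm : Commute (g ^ j * w * (g ^ j)⁻¹) ((g ^ j * w * (g ^ j)⁻¹)⁻¹ * b) :=
        W_comm ha hb hc (mul_mem (inv_mem hc) hbW)
      rw [show b = g ^ j * w * (g ^ j)⁻¹ * ((g ^ j * w * (g ^ j)⁻¹)⁻¹ * b) by rw [mul_inv_cancel_left],
        hcm.mul_pow, conj_pow, h1, mul_one, mul_inv_cancel, one_mul, hQk _ hj]
    rcases Nat.eq_zero_or_pos k with h0 | h0
    · have hW1 : W = ⊥ := (eq_bot_iff_forall W).2 fun b hbW => by simpa [h0] using hall b hbW
      exact hwQ (hW1.le hw |> fun e => by rw [mem_bot] at e; rw [e]; exact one_mem _)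
    · exact Nat.find_min hex (m := k - 1) (by omega) fun b hbW => by
        rw [Nat.sub_add_cancel h0]; exact hall b hbW
  · obtain ⟨u, hu⟩ := hsurj ⟨w, h1⟩
    rw [← show (u : G) * u = w from congrArg Subtype.val hu, ← pow_two, ← pow_mul, ← pow_succ']
    exact hspec _ u.2

/-- An element centralising `V` fixes each coset in `W`. -/
theorem fix_cosets {n w : G} (hn : n ∈ normalizer (P : Set G)) (hnV : n ∈ centralizer (V : Set G)) (hw : w ∈ W) :
    n * w * n⁻¹ * w⁻¹ ∈ Q := by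
  obtain ⟨k, hkV, hk⟩ := hd.exists_level ha hb
  have hnw := conj_mem_of_normalizer (hd.W_normal ha hb hn) hw
  refine (hk _ (mul_mem hnw (inv_mem hw))).1 ?_
  have hc : Commute (n * w * n⁻¹) w⁻¹ := W_comm ha hb hnw (inv_mem hw)
  rw [hc.mul_pow, conj_pow, ← mem_centralizer_iff.1 hnV _ (hkV w hw), mul_inv_cancel_right, inv_pow,
    mul_inv_cancel]

end Dat

/-- A turned 2-subgroup that is maximal among those centralising `V`, with fixed coset of `t`. -/
structure Top (t : G) (V P : Subgroup G) (g : G) (Q W : Subgroup G) : Prop extends Dat t V P g Q W where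
  fix : ∀ n ∈ normalizer (P : Set G), n ∈ centralizer (V : Set G) → t * (n * t * n⁻¹) ∈ Q
  maximal : ∀ R : Subgroup G, IsPGroup 2 R → R ≤ centralizer (V : Set G) → P ≤ R → R = P

/-- An element fixing the coset of `t` is a product with an element centralising `t`. -/
theorem Dat.exists_mul (hd : Dat t V P g Q W) (hb : Base t V) {n : G} (h : t * (n * t * n⁻¹) ∈ Q) :
    ∃ x ∈ P, (x * n) * t = t * (x * n) := by
  obtain ⟨x, hx, e⟩ := hd.cls _ h
  refine ⟨x, hx, ?_⟩
  rw [← mul_assoc, hb.t2, one_mul] at e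
  calc x * n * t = x * (n * t * n⁻¹) * n := by group
    _ = t * (x * n) := by rw [← e]; group

/-- A 2-element of a 2-group normalising `P` that fixes the coset of `t` lies in `P`. -/
theorem Dat.mem_of_fix (hd : Dat t V P g Q W) (hb : Base t V) {R : Subgroup G} (hR : IsPGroup 2 R)
    (hRX : R ≤ centralizer (V : Set G)) (hPR : P ≤ R) {n : G} (hn : n ∈ R) (h : t * (n * t * n⁻¹) ∈ Q) :
    n ∈ P := by
  obtain ⟨x, hx, hc⟩ := hd.exists_mul hb h
  have hxn : x * n ∈ P := by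
    rcases hb.cent hR (hPR hd.tP) (hd.VP.trans hPR) hRX (mul_mem (hPR hx) hn) hc with h1 | h1
    · exact hd.VP h1
    · have := mul_mem (hd.VP h1) hd.tP
      rwa [mul_assoc _ t t, hb.t2, mul_one] at this
  exact (mul_mem_cancel_left hx).1 hxn

/-- The translations enlarge `P`. -/
theorem Dat.grow (hd : Dat t V P g Q W) (hb : Base t V) {n₀ : G} (hn₀ : n₀ ∈ normalizer (P : Set G))
    (hn₀V : n₀ ∈ centralizer (V : Set G)) (hmove : t * (n₀ * t * n₀⁻¹) ∉ Q) :
    ∃ (R : Subgroup G) (g' : G), Nat.card P < Nat.card R ∧ IsPGroup 2 R ∧ t ∈ R ∧ V ≤ R ∧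
      R ≤ centralizer (V : Set G) ∧ Turn t V R g' := by
  classical
  haveI : Fact (Nat.Prime 2) := ⟨Nat.prime_two⟩
  have ha := hd.aff_of_moved hb hn₀ hmove
  set N := normalizer (P : Set G) ⊓ centralizer (V : Set G) with hN
  have hPN : P ≤ N := le_inf le_normalizer hd.PX
  letI : (Q.subgroupOf W).Normal :=
    ⟨fun m hm w => by
      rw [mem_subgroupOf] at hm ⊢
      simp only [Subgroup.coe_mul, InvMemClass.coe_inv]
      rw [Dat.W_comm ha hb w.2 (hd.QW hm), mul_inv_cancel_right]; exact hm⟩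
  have hmem : ∀ n : N, t * ((n : G) * t * (n : G)⁻¹) ∈ W := fun n =>
    (hd.conj_iff ha hb (conj_mem_of_normalizer n.2.1 hd.tP)).1 (_root_.isConj_iff.2 ⟨n, rfl⟩)
  let φ : ↥N →* ↥W ⧸ Q.subgroupOf W := MonoidHom.mk' (fun n => QuotientGroup.mk ⟨_, hmem n⟩) fun a b => by
    rw [← QuotientGroup.mk_mul, QuotientGroup.eq, mem_subgroupOf]
    simp only [Subgroup.coe_mul, InvMemClass.coe_inv]
    set r := t * ((b : G) * t * (b : G)⁻¹) with hr
    have hrW : r ∈ W := hmem b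
    have e : t * ((a : G) * b * t * ((a : G) * b)⁻¹) = t * ((a : G) * t * (a : G)⁻¹) * ((a : G) * r * (a : G)⁻¹) := by
      rw [hr, show t * ((a : G) * t * (a : G)⁻¹) * ((a : G) * (t * ((b : G) * t * (b : G)⁻¹)) * (a : G)⁻¹) =
        t * (a : G) * (t * t) * ((b : G) * t * (b : G)⁻¹ * (a : G)⁻¹) by group, hb.t2]
      group
    rw [e, mul_inv_rev, mul_assoc, inv_mul_cancel_left]
    have h1 := hd.fix_cosets ha hb a.2.1 a.2.2 hrW
    have h2 : ((a : G) * r * (a : G)⁻¹)⁻¹ * r = ((a : G) * r * (a : G)⁻¹ * r⁻¹)⁻¹ := by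
      rw [mul_inv_rev _ r⁻¹, inv_inv]
      exact Dat.W_comm ha hb (inv_mem (conj_mem_of_normalizer (hd.W_normal ha hb a.2.1) hrW)) hrW
    rw [h2]; exact inv_mem h1
  have hker : ∀ n : N, φ n = 1 ↔ t * ((n : G) * t * (n : G)⁻¹) ∈ Q := fun n =>
    (QuotientGroup.eq_one_iff _).trans mem_subgroupOf
  have hgN : ∀ j : ℕ, ∀ n ∈ N, g ^ j * n * (g ^ j)⁻¹ ∈ N := fun j n hn => by
    refine ⟨mul_mem (mul_mem (pow_mem hd.turn.normP j) hn.1) ((normalizer (P : Set G)).inv_mem (pow_mem hd.turn.normP j)),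
      mem_centralizer_iff.2 fun v hv => ?_⟩
    have hv' : (g ^ j)⁻¹ * v * g ^ j ∈ V := by
      simpa using conj_mem_of_normalizer (inv_mem (pow_mem hd.turn.normV j)) hv
    have := mem_centralizer_iff.1 hn.2 _ hv'
    calc v * (g ^ j * n * (g ^ j)⁻¹) = g ^ j * ((g ^ j)⁻¹ * v * g ^ j * n) * (g ^ j)⁻¹ := by group
      _ = g ^ j * (n * ((g ^ j)⁻¹ * v * g ^ j)) * (g ^ j)⁻¹ := by rw [this]
      _ = _ := by group
  have hφsurj : Function.Surjective φ := by
    intro y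
    induction y using QuotientGroup.induction_on with
    | H w =>
      by_cases hwQ : (w : G) ∈ Q
      · exact ⟨1, by rw [map_one]; exact ((QuotientGroup.eq_one_iff _).2 (mem_subgroupOf.2 hwQ)).symm⟩
      obtain ⟨j, hj⟩ := hd.wtrans _ (hmem ⟨n₀, hn₀, hn₀V⟩) hmove _ w.2 hwQ
      refine ⟨⟨_, hgN j n₀ ⟨hn₀, hn₀V⟩⟩, ?_⟩
      have hc : g ^ j * t = t * g ^ j := (Commute.pow_left hd.turn.comm j : Commute (g ^ j) t)
      have hc' : (g ^ j)⁻¹ * t = t * (g ^ j)⁻¹ := ((Commute.pow_left hd.turn.comm j).inv_left : Commute _ t)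
      refine (QuotientGroup.eq.2 ?_)
      rw [mem_subgroupOf]
      simp only [Subgroup.coe_mul, InvMemClass.coe_inv]
      have e : t * (g ^ j * n₀ * (g ^ j)⁻¹ * t * (g ^ j * n₀ * (g ^ j)⁻¹)⁻¹) =
          g ^ j * (t * (n₀ * t * n₀⁻¹)) * (g ^ j)⁻¹ := by
        rw [mul_assoc (g ^ j * n₀), hc', ← mul_assoc (g ^ j) t, hc]; group
      rw [e]; exact hj
  obtain ⟨R₀, hR₀⟩ := (hd.two.comap_subtype (K := N)).exists_le_sylow
  have hPR : P ≤ (R₀ : Subgroup N).map N.subtype := fun x hx =>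
    ⟨⟨x, hPN hx⟩, hR₀ (mem_subgroupOf.2 hx), rfl⟩
  set R := (R₀ : Subgroup N).map N.subtype with hRdef
  have hRN : R ≤ N := map_subtype_le _
  have hR2 : IsPGroup 2 R := R₀.isPGroup'.map _
  have hcardR : Nat.card R = Nat.card (R₀ : Subgroup N) := card_map_of_injective N.subtype_injective
  have hcq : Nat.card (↥W ⧸ Q.subgroupOf W) = Nat.card V := by
    have := Subgroup.card_eq_card_quotient_mul_card_subgroup (Q.subgroupOf W)
    rw [Nat.card_congr (subgroupOfEquivOfLe hd.QW).toEquiv, hd.cardW] at this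
    exact (Nat.eq_of_mul_eq_mul_right Nat.card_pos this).symm
  have hcN : Nat.card N = Nat.card V * Nat.card φ.ker := by
    rw [Subgroup.card_eq_card_quotient_mul_card_subgroup φ.ker,
      Nat.card_congr (QuotientGroup.quotientKerEquivOfSurjective φ hφsurj).toEquiv, hcq]
  have hPker : P.subgroupOf N ≤ φ.ker := fun x hx => (hker x).2 (by
    have h1 : (x : G) ∈ P := mem_subgroupOf.1 hx
    rw [hd.Qdef, show t * ((x : G) * t * (x : G)⁻¹) = ⁅t, (x : G)⁆ by
      rw [commutatorElement_def, inv_eq_of_mul_eq_one_right hb.t2]; group]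
    exact commutator_mem_commutator hd.tP h1)
  have hdvd : Nat.card V * Nat.card P ∣ Nat.card (R₀ : Subgroup N) := by
    have h1 : Nat.card V * Nat.card P ∣ Nat.card N := by
      rw [hcN]
      refine Nat.mul_dvd_mul_left _ ?_
      rw [← Nat.card_congr (subgroupOfEquivOfLe hPN).toEquiv]
      exact card_dvd_of_le hPker
    obtain ⟨a, ha'⟩ := IsPGroup.iff_card.1 hd.two
    obtain ⟨b, hb'⟩ := IsPGroup.iff_card.1 (hd.two.to_le hd.VP)
    rw [ha', hb', ← pow_add] at h1 ⊢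
    exact R₀.pow_dvd_card_of_pow_dvd_card h1
  have hlt : Nat.card P < Nat.card R := by
    rw [hcardR]
    have := Nat.le_of_dvd Nat.card_pos hdvd
    have := hb.big
    have : 0 < Nat.card P := Nat.card_pos
    nlinarith
  have hφR : ∀ y, ∃ r : N, (r : G) ∈ R ∧ φ r = y := by
    let φR : ↥(R₀ : Subgroup N) →* ↥W ⧸ Q.subgroupOf W := φ.comp (R₀ : Subgroup N).subtype
    have hk : Nat.card φR.ker ≤ Nat.card P := by
      refine Nat.card_le_card_of_injective (fun r => (⟨((r.1 : N) : G),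
        hd.mem_of_fix hb hR2 (hRN.trans inf_le_right) hPR ⟨r.1.1, r.1.2, rfl⟩ ((hker _).1 r.2)⟩ : P)) ?_
      intro a b e
      exact Subtype.ext (Subtype.ext (Subtype.ext (congrArg (fun v : P => (v : G)) e)))
    have hs : Function.Surjective φR := by
      rw [← MonoidHom.range_eq_top]
      refine eq_top_of_le_card _ ?_
      have e : Nat.card (R₀ : Subgroup N) = Nat.card φR.range * Nat.card φR.ker := by
        rw [Subgroup.card_eq_card_quotient_mul_card_subgroup φR.ker,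
          Nat.card_congr (QuotientGroup.quotientKerEquivRange φR).toEquiv]
      have := Nat.le_of_dvd Nat.card_pos hdvd
      rw [e] at this
      rw [hcq]
      have : 0 < Nat.card P := Nat.card_pos
      nlinarith
    intro y
    obtain ⟨r, hr⟩ := hs y
    exact ⟨r.1, ⟨r.1, r.2, rfl⟩, hr⟩
  have hgN' : g ∈ normalizer (N : Set G) := mem_normalizer_of_forall fun x hx => by simpa using hgN 1 x hx
  let δ : MulAut N := N.normalizerMonoidHom ⟨g, hgN'⟩
  have hδ : ∀ x : N, (δ x : G) = g * x * g⁻¹ := fun x => rfl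
  have hR' : IsPGroup 2 ((R₀ : Subgroup N).map δ.toMonoidHom) := R₀.isPGroup'.map _
  let R₁ : Sylow 2 N := R₀.isPGroup'.map δ.toMonoidHom |>.exists_le_sylow.choose
  obtain ⟨n, hn⟩ := MulAction.exists_smul_eq N R₁ R₀
  have hR₁ : ∀ x ∈ (R₀ : Subgroup N), δ x ∈ (R₁ : Subgroup N) := fun x hx =>
    (R₀.isPGroup'.map δ.toMonoidHom).exists_le_sylow.choose_spec ⟨x, hx, rfl⟩
  have hnR : ∀ x ∈ R, ((n : G) * g) * x * ((n : G) * g)⁻¹ ∈ R := by
    rintro _ ⟨x, hx, rfl⟩
    refine ⟨n * δ x * n⁻¹, ?_, by simp only [map_mul, map_inv, coe_subtype, hδ]; group⟩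
    rw [← hn]
    exact ⟨δ x, hR₁ x hx, rfl⟩
  obtain ⟨q, hqR, hq⟩ := hφR (φ n)
  have hc : φ (q⁻¹ * n) = 1 := by rw [map_mul, map_inv, hq, inv_mul_cancel]
  obtain ⟨x, hx, hxc⟩ := hd.exists_mul hb ((hker _).1 hc)
  set c := x * ((q : G)⁻¹ * n) with hcdef
  have hct : c * t = t * c := hxc
  have hcX : c ∈ centralizer (V : Set G) := mul_mem (hd.PX hx) (mul_mem (inv_mem q.2.2) n.2.2)
  have hcV : ∀ v ∈ V, c * v = v * c := fun v hv => (mem_centralizer_iff.1 hcX v hv).symm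
  refine ⟨R, c * g, hlt, hR2, hPR hd.tP, hd.VP.trans hPR, hRN.trans inf_le_right,
    ⟨(Commute.mul_left hct hd.turn.comm : Commute (c * g) t), mem_normalizer_of_forall fun v hv => ?_, ?_, ?_⟩⟩
  · have h1 := conj_mem_of_normalizer hd.turn.normV hv
    rw [show c * g * v * (c * g)⁻¹ = c * (g * v * g⁻¹) * c⁻¹ by group, hcV _ h1, mul_inv_cancel_right]
    exact h1
  · refine mem_normalizer_of_forall fun y hy => ?_
    rw [hcdef, show x * ((q : G)⁻¹ * n) * g * y * (x * ((q : G)⁻¹ * n) * g)⁻¹ =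
      (x * (q : G)⁻¹) * ((n : G) * g * y * ((n : G) * g)⁻¹) * (x * (q : G)⁻¹)⁻¹ by group]
    have hxq : x * (q : G)⁻¹ ∈ R := mul_mem (hPR hx) (inv_mem hqR)
    exact mul_mem (mul_mem hxq (hnR y hy)) (inv_mem hxq)
  · have hpow : ∀ (j : ℕ) (v : G), v ∈ V → (c * g) ^ j * v * ((c * g) ^ j)⁻¹ = g ^ j * v * (g ^ j)⁻¹ := by
      intro j
      induction j with
      | zero => intro v _; simp
      | succ j ih =>
        intro v hv
        rw [pow_succ', mul_inv_rev, show c * g * (c * g) ^ j * v * (((c * g) ^ j)⁻¹ * (c * g)⁻¹) =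
          c * g * ((c * g) ^ j * v * ((c * g) ^ j)⁻¹) * (c * g)⁻¹ by group, ih v hv, pow_succ', mul_inv_rev]
        have h1 : g * (g ^ j * v * (g ^ j)⁻¹) * g⁻¹ ∈ V :=
          conj_mem_of_normalizer hd.turn.normV (conj_mem_of_normalizer (pow_mem hd.turn.normV j) hv)
        rw [show c * g * (g ^ j * v * (g ^ j)⁻¹) * (g⁻¹ * c⁻¹) = c * (g * (g ^ j * v * (g ^ j)⁻¹) * g⁻¹) * c⁻¹ by group,
          hcV _ h1, mul_inv_cancel_right]
        group
    intro v hv hv1 w hw hw1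
    obtain ⟨j, hj⟩ := hd.turn.trans v hv hv1 w hw hw1
    exact ⟨j, by rw [hpow j v hv]; exact hj⟩

/-- A turned 2-subgroup lies in one of maximal order. -/
theorem Base.exists_top (hb : Base t V) {P₀ : Subgroup G} (hP : IsPGroup 2 P₀) (htP : t ∈ P₀) (hVP : V ≤ P₀)
    (hPX : P₀ ≤ centralizer (V : Set G)) (hg : Turn t V P₀ g) :
    ∃ (P : Subgroup G) (g : G) (Q W : Subgroup G), Top t V P g Q W := by
  classical
  haveI : Fact (Nat.Prime 2) := ⟨Nat.prime_two⟩
  let S := {R : Subgroup G // ∃ g, IsPGroup 2 R ∧ t ∈ R ∧ V ≤ R ∧ R ≤ centralizer (V : Set G) ∧ Turn t V R g}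
  haveI : Nonempty S := ⟨⟨P₀, g, hP, htP, hVP, hPX, hg⟩⟩
  haveI : Finite (Subgroup G) := Finite.of_injective _ SetLike.coe_injective
  haveI : Finite S := Subtype.finite
  obtain ⟨⟨P, g', h2, ht, hV, hX, hg'⟩, hmax⟩ := Finite.exists_max fun R : S => Nat.card R.1
  obtain ⟨Q, W, hd⟩ := hb.dat h2 ht hV hX hg'
  have hfix : ∀ n ∈ normalizer (P : Set G), n ∈ centralizer (V : Set G) → t * (n * t * n⁻¹) ∈ Q := by
    intro n hn hnV
    by_contra hmove
    obtain ⟨R, g'', hlt, h'⟩ := hd.grow hb hn hnV hmove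
    exact absurd (hmax ⟨R, g'', h'⟩) (not_le.2 hlt)
  refine ⟨P, g', Q, W, hd, hfix, fun R hR hRX hPR => ?_⟩
  by_contra hne
  haveI : Finite R := inferInstance
  haveI : Group.IsNilpotent R := hR.isNilpotent
  have hlt : P.subgroupOf R < ⊤ := lt_top_iff_ne_top.2 fun e => hne (le_antisymm (subgroupOf_eq_top.1 e) hPR)
  obtain ⟨n, hn, hnP⟩ := SetLike.exists_of_lt (normalizerCondition_of_isNilpotent _ hlt)
  refine hnP (mem_subgroupOf.2 (hd.mem_of_fix hb hR hRX hPR n.2 (hfix _ ?_ (hRX n.2))))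
  refine mem_normalizer_of_forall fun y hy => ?_
  exact mem_subgroupOf.1 ((Subgroup.mem_normalizer_iff.1 hn ⟨y, hPR hy⟩).1 (mem_subgroupOf.2 hy))

end Cfsg.Agent.Fus.CentTwoPSL
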