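import Mathlib
import Cfsg.Agent.Lib.Fus.CentTwoPSL.Grow

/-!
# The affine action of the normalizer

If an element normalising `P` and `V` moves the coset of `t`, the automorphisms of `V` induced by the normalizer
carry a surjective crossed homomorphism to `V`, with kernel induced by the centraliser of `t`.
-/

set_option autoImplicit false
set_option linter.style.haveILetI false

namespace Cfsg.Agent.Fus.CentTwoPSL

open Subgroup
open scoped commutatorElement

/-- A surjective crossed homomorphism on a group of automorphisms with a cyclically transitive element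
in its kernel. -/
structure Crossed {A : Type*} [Group A] (H : Subgroup (MulAut A)) (c : MulAut A → A) : Prop where
  mul : ∀ a ∈ H, ∀ b ∈ H, c (a * b) = c a * a (c b)
  surj : ∀ v, ∃ h ∈ H, c h = v
  turn : ∃ d ∈ H, c d = 1 ∧ ∀ v w : A, v ≠ 1 → w ≠ 1 → ∃ j : ℕ, (d ^ j) v = w

variable {G : Type*} [Group G] [Finite G] {t : G} {V P : Subgroup G} {g : G} {Q W : Subgroup G}

/-- The action of the normalizer of `V` on `V`. -/
def actV (V : Subgroup G) : ↥(normalizer (V : Set G)) →* MulAut V := V.normalizerMonoidHom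

omit [Finite G] in
theorem actV_apply {V : Subgroup G} (n : ↥(normalizer (V : Set G))) (v : V) :
    (actV V n v : G) = n * v * (n : G)⁻¹ := rfl

omit [Finite G] in
theorem actV_eq_one {V : Subgroup G} {n : ↥(normalizer (V : Set G))} (h : actV V n = 1) :
    (n : G) ∈ centralizer (V : Set G) := by
  refine mem_centralizer_iff.2 fun v hv => ?_
  have e : (n : G) * v * (n : G)⁻¹ = v := congrArg (fun f : MulAut V => (f ⟨v, hv⟩ : G)) h
  conv_lhs => rw [← e]
  group

theorem Dat.stab_eq (hd : Dat t V P g Q W) (hb : Base t V) {n : ↥(normalizer (V : Set G))}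
    (hn : (n : G) ∈ normalizer (P : Set G)) (h : t * ((n : G) * t * (n : G)⁻¹) ∈ Q) :
    ∃ y : ↥(normalizer (V : Set G)), (y : G) * t = t * y ∧ (y : G) ∈ normalizer (P : Set G) ∧
      actV V y = actV V n := by
  obtain ⟨x, hx, hc⟩ := hd.exists_mul hb h
  have hxV : x ∈ normalizer (V : Set G) := mem_normalizer_of_forall fun v hv => by
    rw [← mem_centralizer_iff.1 (hd.PX hx) v hv, mul_inv_cancel_right]; exact hv
  refine ⟨⟨x, hxV⟩ * n, hc, mul_mem (le_normalizer hx) hn, ?_⟩
  have hx1 : actV V ⟨x, hxV⟩ = 1 := MulEquiv.ext fun v => Subtype.ext (by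
    rw [actV_apply]
    show x * v * x⁻¹ = v
    rw [← mem_centralizer_iff.1 (hd.PX hx) v v.2, mul_inv_cancel_right])
  rw [map_mul, hx1, one_mul]

theorem Top.crossed (hd : Top t V P g Q W) (hb : Base t V) {n₀ : G} (hn₀V : n₀ ∈ normalizer (V : Set G))
    (hn₀ : n₀ ∈ normalizer (P : Set G)) (hmove : t * (n₀ * t * n₀⁻¹) ∉ Q) :
    ∃ (H : Subgroup (MulAut V)) (c : MulAut V → V), Crossed H c ∧
      (∀ h ∈ H, ∃ n : ↥(normalizer (V : Set G)), (n : G) ∈ normalizer (P : Set G) ∧ actV V n = h) ∧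
      ∀ h ∈ H, c h = 1 →
      ∃ y : ↥(normalizer (V : Set G)), (y : G) * t = t * y ∧ (y : G) ∈ normalizer (P : Set G) ∧ actV V y = h := by
  classical
  have ha := hd.toDat.aff_of_moved hb hn₀ hmove
  obtain ⟨k, hkV, hk⟩ := hd.toDat.exists_level ha hb
  set N := (normalizer (P : Set G)).subgroupOf (normalizer (V : Set G)) with hN
  set H := N.map (actV V) with hH
  have hmem : ∀ n : ↥(normalizer (V : Set G)), n ∈ N → t * ((n : G) * t * (n : G)⁻¹) ∈ W := fun n hn =>
    (hd.toDat.conj_iff ha hb (conj_mem_of_normalizer hn hd.tP)).1 (_root_.isConj_iff.2 ⟨n, rfl⟩)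
  have hW : ∀ {a b : G}, a ∈ W → b ∈ W → Commute a b := fun ha' hb' => Dat.W_comm ha hb ha' hb'
  let c₀ : (n : ↥(normalizer (V : Set G))) → n ∈ N → V := fun n hn =>
    ⟨(t * ((n : G) * t * (n : G)⁻¹)) ^ 2 ^ k, hkV _ (hmem n hn)⟩
  have hmul : ∀ (a b : ↥(normalizer (V : Set G))) (ha' : a ∈ N) (hb' : b ∈ N),
      c₀ (a * b) (mul_mem ha' hb') = c₀ a ha' * actV V a (c₀ b hb') := by
    intro a b ha' hb'
    refine Subtype.ext ?_
    show (t * (((a : G) * b) * t * ((a : G) * b)⁻¹)) ^ 2 ^ k =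
      (t * ((a : G) * t * (a : G)⁻¹)) ^ 2 ^ k * ((a : G) * (t * ((b : G) * t * (b : G)⁻¹)) ^ 2 ^ k * (a : G)⁻¹)
    rw [← conj_pow]
    have h1 := hmem a ha'
    have h2 : (a : G) * (t * ((b : G) * t * (b : G)⁻¹)) * (a : G)⁻¹ ∈ W :=
      conj_mem_of_normalizer (hd.toDat.W_normal ha hb ha') (hmem b hb')
    rw [← (hW h1 h2).mul_pow]
    congr 1
    rw [show t * ((a : G) * t * (a : G)⁻¹) * ((a : G) * (t * ((b : G) * t * (b : G)⁻¹)) * (a : G)⁻¹) =
        t * (a : G) * (t * t) * ((b : G) * t * (b : G)⁻¹ * (a : G)⁻¹) by group, hb.t2]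
    group
  have hker : ∀ (a : ↥(normalizer (V : Set G))) (ha' : a ∈ N),
      c₀ a ha' = 1 ↔ t * ((a : G) * t * (a : G)⁻¹) ∈ Q := fun a ha' =>
    Subtype.ext_iff.trans (hk _ (hmem a ha'))
  have hwd : ∀ (a b : ↥(normalizer (V : Set G))) (ha' : a ∈ N) (hb' : b ∈ N),
      actV V a = actV V b → c₀ a ha' = c₀ b hb' := by
    intro a b ha' hb' e
    have h1 : a⁻¹ * b ∈ N := mul_mem (inv_mem ha') hb'
    have h2 : c₀ (a⁻¹ * b) h1 = 1 := (hker _ h1).2 (hd.fix _ h1 (actV_eq_one (by
      rw [map_mul, map_inv, e, inv_mul_cancel])))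
    have h3 := hmul a (a⁻¹ * b) ha' h1
    rw [h2, map_one, mul_one] at h3
    rw [← h3]
    exact Subtype.ext (by simp [c₀])
  let c : MulAut V → V := fun h => if hh : h ∈ H then c₀ hh.choose hh.choose_spec.1 else 1
  have hc : ∀ (a : ↥(normalizer (V : Set G))) (ha' : a ∈ N), c (actV V a) = c₀ a ha' := by
    intro a ha'
    have hh : actV V a ∈ H := ⟨a, ha', rfl⟩
    simp only [c, dif_pos hh]
    exact hwd _ a hh.choose_spec.1 ha' hh.choose_spec.2
  have hgN : (⟨g, hd.turn.normV⟩ : ↥(normalizer (V : Set G))) ∈ N := hd.turn.normP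
  have hn₀N : (⟨n₀, hn₀V⟩ : ↥(normalizer (V : Set G))) ∈ N := hn₀
  have hg1 : ∀ j, c₀ ((⟨g, hd.turn.normV⟩ : ↥(normalizer (V : Set G))) ^ j) (pow_mem hgN j) = 1 := fun j =>
    (hker _ (pow_mem hgN j)).2 (by
      simp only [SubmonoidClass.coe_pow]
      rw [show g ^ j * t = t * g ^ j from (Commute.pow_left hd.turn.comm j : Commute (g ^ j) t),
        mul_inv_cancel_right, hb.t2]
      exact one_mem _)
  refine ⟨H, c, ⟨?_, ?_, ⟨actV V ⟨g, hd.turn.normV⟩, ⟨_, hgN, rfl⟩, ?_, ?_⟩⟩,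
    fun h hh => let ⟨n, hn, e⟩ := hh; ⟨n, hn, e⟩, ?_⟩
  · rintro _ ⟨a, ha', rfl⟩ _ ⟨b, hb', rfl⟩
    rw [← map_mul, hc _ (mul_mem ha' hb'), hc a ha', hc b hb']
    exact hmul a b ha' hb'
  · intro v
    by_cases hv : v = 1
    · exact ⟨1, one_mem _, by
        rw [← map_one (actV V), hc 1 (one_mem N), hv]
        exact (hker 1 (one_mem N)).2 (by simp [hb.t2])⟩
    have hne : c₀ _ hn₀N ≠ 1 := fun e => hmove ((hker _ hn₀N).1 e)
    obtain ⟨j, hj⟩ := hd.turn.trans _ (c₀ _ hn₀N).2 (fun e => hne (Subtype.ext e)) _ v.2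
      (fun e => hv (Subtype.ext e))
    refine ⟨actV V ((⟨g, hd.turn.normV⟩ : ↥(normalizer (V : Set G))) ^ j * ⟨n₀, hn₀V⟩),
      ⟨_, mul_mem (pow_mem hgN j) hn₀N, rfl⟩, ?_⟩
    rw [hc _ (mul_mem (pow_mem hgN j) hn₀N), hmul _ _ (pow_mem hgN j) hn₀N, hg1, one_mul]
    exact Subtype.ext (by rw [actV_apply]; simp only [SubmonoidClass.coe_pow]; exact hj)
  · rw [hc _ hgN]
    simpa using hg1 1
  · intro v w hv hw
    obtain ⟨j, hj⟩ := hd.turn.trans _ v.2 (fun e => hv (Subtype.ext e)) _ w.2 (fun e => hw (Subtype.ext e))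
    refine ⟨j, Subtype.ext ?_⟩
    rw [← map_pow, actV_apply]
    simp only [SubmonoidClass.coe_pow]
    exact hj
  · rintro _ ⟨a, ha', rfl⟩ h1
    rw [hc a ha', hker a ha'] at h1
    exact hd.toDat.stab_eq hb ha' h1

variable {A : Type*} [Group A] [Finite A] {H : Subgroup (MulAut A)} {c : MulAut A → A}

namespace Crossed

variable (hc : Crossed H c)
include hc

omit [Finite A] in
theorem one : c 1 = 1 := by
  have h := hc.mul 1 (one_mem _) 1 (one_mem _)
  rwa [mul_one, MulAut.one_apply, left_eq_mul] at h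

omit [Finite A] in
/-- The kernel of the crossed homomorphism. -/
theorem exists_ker : ∃ F : Subgroup H, ∀ h : H, h ∈ F ↔ c h = 1 :=
  ⟨{ carrier := {h | c h = 1}
     one_mem' := hc.one
     mul_mem' := fun {a b} ha hb => by
       show c ((a : MulAut A) * b) = 1
       rw [hc.mul _ a.2 _ b.2, show c a = 1 from ha, show c b = 1 from hb, map_one, mul_one]
     inv_mem' := fun {a} ha => by
       show c ((a : MulAut A)⁻¹) = 1
       have h := hc.mul _ (inv_mem a.2) _ a.2
       rw [inv_mul_cancel, hc.one, show c a = 1 from ha, map_one, mul_one] at h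
       exact h.symm }, fun h => Iff.rfl⟩

omit [Finite A] in
theorem eq_iff {F : Subgroup H} (hF : ∀ h : H, h ∈ F ↔ c h = 1) (a b : H) : a⁻¹ * b ∈ F ↔ c a = c b := by
  rw [hF]
  constructor
  · intro e
    have h := hc.mul _ a.2 _ (a⁻¹ * b : H).2
    rw [← Subgroup.coe_mul, mul_inv_cancel_left, e, map_one, mul_one] at h
    exact h.symm
  · intro e
    have h := hc.mul _ a.2 _ (a⁻¹ * b : H).2
    rw [← Subgroup.coe_mul, mul_inv_cancel_left, ← e, left_eq_mul] at h
    exact (a : MulAut A).injective (h.trans (map_one _).symm)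

theorem index_ker {F : Subgroup H} (hF : ∀ h : H, h ∈ F ↔ c h = 1) : F.index = Nat.card A := by
  let f : H ⧸ F → A := Quotient.lift (fun h : H => c h) fun a b hab =>
    (hc.eq_iff hF a b).1 (QuotientGroup.leftRel_apply.1 hab)
  refine Nat.card_congr (Equiv.ofBijective f ⟨fun p q => ?_, fun v => ?_⟩)
  · induction p using QuotientGroup.induction_on with
    | H a => induction q using QuotientGroup.induction_on with
      | H b => exact fun e => QuotientGroup.eq.2 ((hc.eq_iff hF a b).2 e)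
  · obtain ⟨h, hh, e⟩ := hc.surj v
    exact ⟨QuotientGroup.mk (⟨h, hh⟩ : H), e⟩

/-- There is none when `|A| = 4`. -/
theorem card_ne_four : Nat.card A ≠ 4 := by
  classical
  intro h4
  haveI := Fintype.ofFinite A
  obtain ⟨F, hF⟩ := hc.exists_ker
  obtain ⟨d, hdH, hcd, htr⟩ := hc.turn
  have hd3 : 3 ≤ Nat.card F := by
    obtain ⟨v, hv⟩ : ∃ v : A, v ≠ 1 := by
      haveI : Nontrivial A := Finite.one_lt_card_iff_nontrivial.1 (by omega)
      exact exists_ne 1
    have hpow : ∀ j : ℕ, (⟨d ^ j, pow_mem hdH j⟩ : H) ∈ F := fun j => by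
      rw [show (⟨d ^ j, pow_mem hdH j⟩ : H) = ⟨d, hdH⟩ ^ j from Subtype.ext (by simp)]
      exact pow_mem ((hF _).2 hcd) j
    have hsurj : ∀ w : {w : A // w ≠ 1}, ∃ f : F, ((f : H) : MulAut A) v = w := fun w => by
      obtain ⟨j, hj⟩ := htr v w hv w.2
      exact ⟨⟨_, hpow j⟩, hj⟩
    choose f hf using hsurj
    have hinj : Function.Injective f := fun a b e => Subtype.ext (by rw [← hf a, ← hf b, e])
    have := Nat.card_le_card_of_injective f hinj
    rw [Nat.card_eq_fintype_card, Fintype.card_subtype_compl, Fintype.card_subtype_eq, ← Nat.card_eq_fintype_card,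
      h4] at this
    omega
  have hH : Nat.card H ≤ 6 := by
    let r : MulAut A → Equiv.Perm {a : A // a ≠ 1} := fun φ => φ.toEquiv.subtypeEquiv fun a => by simp
    have hinj : Function.Injective r := fun φ ψ e => MulEquiv.ext fun a => by
      by_cases ha : a = 1
      · rw [ha, map_one, map_one]
      · exact congrArg Subtype.val (Equiv.ext_iff.1 e ⟨a, ha⟩)
    calc Nat.card H ≤ Nat.card (MulAut A) := Nat.card_le_card_of_injective _ Subtype.val_injective
      _ ≤ Nat.card (Equiv.Perm {a : A // a ≠ 1}) := Nat.card_le_card_of_injective r hinj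
      _ = 6 := by
        rw [Nat.card_perm, Nat.card_eq_fintype_card, Fintype.card_subtype_compl, Fintype.card_subtype_eq,
          ← Nat.card_eq_fintype_card, h4]
        rfl
  have := F.card_mul_index
  rw [hc.index_ker hF, h4] at this
  omega

end Crossed

/-- For `|V| = 4` the coset of `t` is fixed by the whole normalizer. -/
theorem Top.fix_four (hd : Top t V P g Q W) (hb : Base t V) (h4 : Nat.card V = 4) {n : G}
    (hnV : n ∈ normalizer (V : Set G)) (hn : n ∈ normalizer (P : Set G)) : t * (n * t * n⁻¹) ∈ Q := by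
  by_contra hmove
  obtain ⟨H, c, hc, -, -⟩ := hd.crossed hb hnV hn hmove
  exact hc.card_ne_four h4

end Cfsg.Agent.Fus.CentTwoPSL
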