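import Cfsg.Agent.Lib.Fus.CentTwoPSL.Semi

/-!
# A group of automorphisms with a bijective crossed homomorphism modulo an odd subgroup

`Γ` acts on the elementary abelian group `A` and, affinely, on the points of `A`; the kernel `F` of the
crossed homomorphism is the stabiliser of a point.  A Sylow 2-subgroup is regular on the points.
-/

set_option autoImplicit false
set_option linter.style.haveILetI false

namespace Cfsg.Agent.Fus.CentTwoPSL

open Subgroup

universe u v

/-- The configuration. -/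
structure AffGroup {Γ : Type u} [Group Γ] {A : Type v} [CommGroup A] (φ : Γ →* MulAut A) (c : Γ → A)
    (F : Subgroup Γ) (d : Γ) (n : ℕ) : Prop where
  inj : Function.Injective φ
  mul : ∀ a b, c (a * b) = c a * φ a (c b)
  surj : Function.Surjective c
  ker : ∀ a, a ∈ F ↔ c a = 1
  mem : d ∈ F
  trans : ∀ v w : A, v ≠ 1 → w ≠ 1 → ∃ j : ℕ, φ (d ^ j) v = w
  odd : Odd (Nat.card F)
  expo : ∀ a : A, a * a = 1
  cardA : Nat.card A = 2 ^ n
  big : 3 ≤ n

variable {Γ : Type u} [Group Γ] [Finite Γ] {A : Type v} [CommGroup A] [Finite A] {φ : Γ →* MulAut A}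
  {c : Γ → A} {F : Subgroup Γ} {d : Γ} {n : ℕ}

namespace AffGroup

variable (h : AffGroup φ c F d n)
include h

theorem index_F : F.index = 2 ^ n := by
  have heq : ∀ a b : Γ, a⁻¹ * b ∈ F ↔ c a = c b := fun a b => by
    have e := h.mul a (a⁻¹ * b)
    rw [mul_inv_cancel_left] at e
    rw [h.ker]
    constructor
    · intro h1; rw [e, h1, map_one, mul_one]
    · intro h1
      rw [← h1, left_eq_mul] at e
      exact (φ a).injective (e.trans (map_one _).symm)
  let f : Γ ⧸ F → A := Quotient.lift c fun a b hab => (heq a b).1 (QuotientGroup.leftRel_apply.1 hab)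
  rw [← h.cardA]
  refine Nat.card_eq_of_bijective f ⟨fun p q => ?_, fun v => ?_⟩
  · induction p using QuotientGroup.induction_on with
    | H a => induction q using QuotientGroup.induction_on with
      | H b => exact fun e => QuotientGroup.eq.2 ((heq a b).2 e)
  · obtain ⟨a, ha⟩ := h.surj v
    exact ⟨QuotientGroup.mk a, ha⟩

theorem card_eq : Nat.card Γ = 2 ^ n * Nat.card F := by
  rw [← h.index_F, mul_comm, F.card_mul_index]

theorem facts : ((Subgroup.zpowers d).subgroupOf F).Normal ∧ Nat.card (Subgroup.zpowers d) = 2 ^ n - 1 ∧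
    (∃ e, Nat.card F = (2 ^ n - 1) * e ∧ e ∣ n ∧ Odd e) ∧ ⁅F, F⁆ ≤ Subgroup.zpowers d := by
  obtain ⟨h1, h2, ⟨e, he, hen⟩, h3⟩ := semi_facts h.cardA (by have := h.big; omega) h.expo (φ.comp F.subtype)
    (fun a b hab => Subtype.ext (h.inj hab)) h.odd ⟨d, h.mem⟩ (fun v w hv hw => h.trans v w hv hw)
  have hsub : (Subgroup.zpowers d).subgroupOf F = Subgroup.zpowers ⟨d, h.mem⟩ := by
    apply map_injective F.subtype_injective
    rw [subgroupOf_map_subtype, MonoidHom.map_zpowers, inf_eq_left.2 (zpowers_le.2 h.mem)]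
    rfl
  have hmap : Subgroup.zpowers d = (Subgroup.zpowers (⟨d, h.mem⟩ : F)).map F.subtype := by
    rw [MonoidHom.map_zpowers]; rfl
  refine ⟨hsub ▸ h1, ?_, ⟨e, he, hen, (Nat.odd_mul.1 (he ▸ h.odd)).2⟩, ?_⟩
  · rw [hmap, card_map_of_injective F.subtype_injective]; exact h2
  · rw [hmap, ← map_subtype_commutator]
    exact map_mono h3

theorem conj_zpowers {f x : Γ} (hf : f ∈ F) (hx : x ∈ Subgroup.zpowers d) :
    f * x * f⁻¹ ∈ Subgroup.zpowers d :=
  mem_subgroupOf.1 (h.facts.1.conj_mem ⟨x, zpowers_le.2 h.mem hx⟩ (mem_subgroupOf.2 hx) ⟨f, hf⟩)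

/-- A non-trivial normal subgroup is transitive on the points. -/
theorem normal_trans {N : Subgroup Γ} [N.Normal] (hN : N ≠ ⊥) :
    (∀ g : Γ, ∃ m ∈ N, m⁻¹ * g ∈ F) ∧ 2 ^ n ∣ Nat.card N := by
  obtain ⟨m₀, hm₀, hm₀1⟩ : ∃ m ∈ N, c m ≠ 1 := by
    by_contra hcon
    push Not at hcon
    refine hN ((eq_bot_iff_forall N).2 fun m hm => h.inj (MulEquiv.ext fun v => ?_))
    rw [map_one, MulAut.one_apply]
    obtain ⟨g, rfl⟩ := h.surj v
    have h1 := h.mul g (g⁻¹ * m * g)
    rw [show g * (g⁻¹ * m * g) = m * g by group, h.mul m g, hcon m hm, one_mul,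
      hcon _ (Subgroup.Normal.conj_mem' inferInstance m hm g), map_one, mul_one] at h1
    exact h1
  have hall : ∀ v : A, ∃ m ∈ N, c m = v := fun v => by
    by_cases hv : v = 1
    · exact ⟨1, one_mem _, by rw [hv]; exact (h.ker 1).1 (one_mem F)⟩
    · obtain ⟨j, hj⟩ := h.trans _ _ hm₀1 hv
      refine ⟨d ^ j * m₀ * (d ^ j)⁻¹, Subgroup.Normal.conj_mem inferInstance _ hm₀ _, ?_⟩
      rw [h.mul, h.mul, (h.ker _).1 (pow_mem h.mem j), one_mul, (h.ker _).1 (inv_mem (pow_mem h.mem j)), map_one,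
        mul_one, hj]
  have hmul : ∀ g : Γ, ∃ m ∈ N, m⁻¹ * g ∈ F := fun g => by
    obtain ⟨m, hm, hcm⟩ := hall (c g)
    refine ⟨m, hm, (h.ker _).2 ?_⟩
    have e := h.mul m (m⁻¹ * g)
    rw [mul_inv_cancel_left, hcm, left_eq_mul] at e
    exact (φ m).injective (e.trans (map_one _).symm)
  refine ⟨hmul, ?_⟩
  have hsurj : Function.Surjective (fun m : N => (QuotientGroup.mk (m : Γ) : Γ ⧸ F)) := fun q => by
    induction q using QuotientGroup.induction_on with
    | H g =>
      obtain ⟨m, hm, hmg⟩ := hmul g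
      exact ⟨⟨m, hm⟩, QuotientGroup.eq.2 hmg⟩
  have hrel : (F.subgroupOf N).index = F.index := by
    refine Nat.card_eq_of_bijective (Quotient.lift (fun m : N => (QuotientGroup.mk (m : Γ) : Γ ⧸ F))
      fun a b hab => QuotientGroup.eq.2 (QuotientGroup.leftRel_apply.1 hab : a⁻¹ * b ∈ F.subgroupOf N)) ⟨?_, ?_⟩
    · intro p q
      induction p using QuotientGroup.induction_on with
      | H a => induction q using QuotientGroup.induction_on with
        | H b => exact fun e => QuotientGroup.eq.2 (mem_subgroupOf.2 (QuotientGroup.eq.1 e))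
    · intro q
      obtain ⟨m, hm⟩ := hsurj q
      exact ⟨QuotientGroup.mk m, hm⟩
  rw [← h.index_F, ← hrel]
  exact index_dvd_card _

theorem no_two {N : Subgroup Γ} [N.Normal] (h2 : IsPGroup 2 N) : N = ⊥ := by
  classical
  haveI : Fact (Nat.Prime 2) := ⟨Nat.prime_two⟩
  by_contra hN
  letI : MulAction N A := MulAction.compHom A (φ.comp N.subtype)
  have hone : (1 : A) ∈ MulAction.fixedPoints N A := fun m => map_one (φ m.1)
  obtain ⟨v, hv, hv1⟩ := h2.exists_fixed_point_of_prime_dvd_card_of_fixed_point A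
    (by rw [h.cardA]; exact dvd_pow_self 2 (by have := h.big; omega)) hone
  refine hN ((eq_bot_iff_forall N).2 fun m hm => h.inj (MulEquiv.ext fun w => ?_))
  rw [map_one, MulAut.one_apply]
  by_cases hw : w = 1
  · rw [hw, map_one]
  obtain ⟨j, rfl⟩ := h.trans v w (Ne.symm hv1) hw
  have h1 : φ ((d ^ j)⁻¹ * m * d ^ j) v = v := hv ⟨_, Subgroup.Normal.conj_mem' inferInstance m hm _⟩
  rw [← MulAut.mul_apply, ← map_mul,
    show m * d ^ j = d ^ j * ((d ^ j)⁻¹ * m * d ^ j) by group, map_mul, MulAut.mul_apply, h1]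

theorem not_solvable : ¬ Group.IsSolvable Γ := by
  classical
  intro hs
  haveI := hs
  haveI : Fact (Nat.Prime 2) := ⟨Nat.prime_two⟩
  haveI : Nontrivial A := Finite.one_lt_card_iff_nontrivial.1 (by
    rw [h.cardA]; exact Nat.one_lt_two_pow (by have := h.big; omega))
  obtain ⟨v, hv⟩ := exists_ne (1 : A)
  obtain ⟨g, hg⟩ := h.surj v
  haveI : Nontrivial Γ := ⟨g, 1, fun e => hv (by rw [← hg, e]; exact (h.ker 1).1 (one_mem F))⟩
  obtain ⟨m, hm⟩ := (Group.isSolvable_def Γ).1 hs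
  obtain ⟨k, hk, hk'⟩ : ∃ k, derivedSeries Γ k ≠ ⊥ ∧ derivedSeries Γ (k + 1) = ⊥ := by
    by_contra hcon
    push Not at hcon
    have : ∀ k, derivedSeries Γ k ≠ ⊥ := fun k => by
      induction k with
      | zero => rw [derivedSeries_zero]; exact top_ne_bot
      | succ k ih => exact hcon k ih
    exact this m hm
  set N := derivedSeries Γ k with hN
  haveI : N.Normal := derivedSeries_normal Γ k
  have hcomm : ∀ a ∈ N, ∀ b ∈ N, a * b = b * a := fun a ha b hb => by
    rw [derivedSeries_succ] at hk'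
    have := (eq_bot_iff_forall _).1 hk' _ (Subgroup.commutator_mem_commutator ha hb)
    rwa [commutatorElement_eq_one_iff_mul_comm] at this
  have hpow : ∀ a b : Γ, a ∈ N → b ∈ N → ∀ j : ℕ, (a * b) ^ j = a ^ j * b ^ j := fun a b ha hb j =>
    (show Commute a b from hcomm a ha b hb).mul_pow j
  obtain ⟨x, hx⟩ := exists_prime_orderOf_dvd_card' (G := N) 2
    ((dvd_pow_self 2 (show n ≠ 0 by have := h.big; omega)).trans (h.normal_trans hk).2)
  let R : Subgroup Γ :=
    { carrier := {a | a ∈ N ∧ a * a = 1}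
      one_mem' := ⟨one_mem N, one_mul 1⟩
      mul_mem' := fun {a b} ha hb => ⟨mul_mem ha.1 hb.1, by
        rw [← pow_two, hpow a b ha.1 hb.1, pow_two, pow_two, ha.2, hb.2, one_mul]⟩
      inv_mem' := fun {a} ha => ⟨inv_mem ha.1, by rw [← mul_inv_rev, ha.2, inv_one]⟩ }
  haveI : R.Normal := ⟨fun a ha b => ⟨Subgroup.Normal.conj_mem inferInstance a ha.1 b, by
    rw [show b * a * b⁻¹ * (b * a * b⁻¹) = b * (a * a) * b⁻¹ by group, ha.2, mul_one, mul_inv_cancel]⟩⟩
  have hR : IsPGroup 2 R := fun a => ⟨1, Subtype.ext (by rw [pow_one]; show (a : Γ) ^ 2 = 1; rw [pow_two]; exact a.2.2)⟩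
  have hxR : (x : Γ) ∈ R := ⟨x.2, by
    have := pow_orderOf_eq_one x
    rw [hx, pow_two] at this
    exact congrArg Subtype.val this⟩
  rw [h.no_two hR, mem_bot] at hxR
  rw [show x = 1 from Subtype.ext hxR, orderOf_one] at hx
  exact absurd hx (by norm_num)

theorem sylow_card (Q : Sylow 2 Γ) : Nat.card (Q : Subgroup Γ) = 2 ^ n := by
  haveI : Fact (Nat.Prime 2) := ⟨Nat.prime_two⟩
  rw [Sylow.card_eq_multiplicity, h.card_eq, Nat.factorization_mul (by positivity) (Nat.card_pos.ne'),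
    Finsupp.add_apply, Nat.prime_two.factorization_pow, Finsupp.single_eq_same,
    Nat.factorization_eq_zero_of_not_dvd (fun e => Nat.not_even_iff_odd.2 h.odd (even_iff_two_dvd.2 e)),
    add_zero]

/-- Every element is an element of the point stabiliser times an element of the Sylow 2-subgroup. -/
theorem factor (Q : Sylow 2 Γ) (g : Γ) : ∃ f ∈ F, f⁻¹ * g ∈ (Q : Subgroup Γ) := by
  have hdis : Disjoint F (Q : Subgroup Γ) := by
    rw [disjoint_iff, ← Subgroup.card_eq_one, ← Nat.dvd_one]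
    have h1 := card_dvd_of_le (inf_le_left : F ⊓ (Q : Subgroup Γ) ≤ F)
    have h2 := card_dvd_of_le (inf_le_right : F ⊓ (Q : Subgroup Γ) ≤ (Q : Subgroup Γ))
    rw [h.sylow_card Q] at h2
    exact ((Nat.coprime_two_right.2 h.odd).pow_right n) ▸ Nat.dvd_gcd h1 h2
  have hcompl : F.IsComplement' (Q : Subgroup Γ) := Subgroup.isComplement'_of_card_mul_and_disjoint
    (by rw [h.sylow_card Q, h.card_eq, mul_comm]) hdis
  obtain ⟨⟨f, q⟩, hfq⟩ := hcompl.surjective g
  have hfq' : (f : Γ) * q = g := hfq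
  exact ⟨f, f.2, by rw [← hfq', inv_mul_cancel_left]; exact q.2⟩

theorem no_scalar_normalizer (Q : Sylow 2 Γ) :
    Subgroup.zpowers d ⊓ normalizer ((Q : Subgroup Γ) : Set Γ) = ⊥ := by
  haveI : Fact (Nat.Prime 2) := ⟨Nat.prime_two⟩
  set D := Subgroup.zpowers d with hD
  set N := normalizer ((Q : Subgroup Γ) : Set Γ) with hN
  have hle : D ⊓ N ≤ N.normalCore := fun x hx g => by
    obtain ⟨f, hf, hfg⟩ := h.factor Q g⁻¹
    -- `g⁻¹ = f q`
    have hq : f⁻¹ * g⁻¹ ∈ N := le_normalizer hfg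
    have hc : f⁻¹ * x * f ∈ D ⊓ N := by
      have hD' : f⁻¹ * x * f ∈ D := by simpa using h.conj_zpowers (inv_mem hf) hx.1
      refine ⟨hD', ?_⟩
      obtain ⟨b, hb⟩ := mem_powers_iff_mem_zpowers.2 hx.1
      have hb' : d ^ b = x := hb
      obtain ⟨k, hk⟩ : f⁻¹ * d * f ∈ Submonoid.powers d :=
        mem_powers_iff_mem_zpowers.2 (by simpa using h.conj_zpowers (inv_mem hf) (mem_zpowers d))
      have hk' : d ^ k = f⁻¹ * d * f := hk
      have e : f⁻¹ * x * f = x ^ k := by
        rw [← hb', ← pow_mul, mul_comm, pow_mul, hk',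
          show f⁻¹ * d * f = f⁻¹ * d * f⁻¹⁻¹ by rw [inv_inv], conj_pow, inv_inv]
      rw [e]; exact pow_mem hx.2 k
    have hfin := mul_mem (mul_mem (inv_mem hq) hc.2) hq
    rwa [show (f⁻¹ * g⁻¹)⁻¹ * (f⁻¹ * x * f) * (f⁻¹ * g⁻¹) = g * x * g⁻¹ by group] at hfin
  by_contra hne
  have hJ : N.normalCore ≠ ⊥ := fun e => hne (le_bot_iff.1 (e ▸ hle))
  obtain ⟨-, hdvd⟩ := h.normal_trans hJ
  have hJN : N.normalCore ≤ N := normalCore_le N
  obtain ⟨P⟩ : Nonempty (Sylow 2 N.normalCore) := inferInstance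
  have hP2 : IsPGroup 2 ((P : Subgroup N.normalCore).map N.normalCore.subtype) := P.isPGroup'.map _
  have hPQ : (P : Subgroup N.normalCore).map N.normalCore.subtype ≤ (Q : Subgroup Γ) := by
    obtain ⟨R, hR⟩ := (IsPGroup.to_sup_of_normal_right' hP2 Q.isPGroup' ((map_subtype_le _).trans hJN)).exists_le_sylow
    have hRQ : R = Q := Sylow.ext (Q.3 R.isPGroup' (le_sup_right.trans hR)).symm.symm
    exact le_sup_left.trans (hRQ ▸ hR)
  have hQJ : (Q : Subgroup Γ) ≤ N.normalCore := by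
    have hcard : Nat.card (Q : Subgroup Γ) ≤ Nat.card ((P : Subgroup N.normalCore).map N.normalCore.subtype) := by
      rw [card_map_of_injective N.normalCore.subtype_injective, h.sylow_card Q]
      exact Nat.le_of_dvd Nat.card_pos (P.pow_dvd_card_of_pow_dvd_card hdvd)
    exact (eq_of_le_of_card_ge hPQ hcard) ▸ map_subtype_le _
  haveI : ((Q : Subgroup Γ)).Normal := by
    refine ⟨fun x hx g => ?_⟩
    have hgx : ∀ y ∈ (Q : Subgroup Γ), g * y * g⁻¹ ∈ N := fun y hy =>
      hJN ((normalCore_normal N).conj_mem y (hQJ hy) g)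
    have hmap : IsPGroup 2 ((Q : Subgroup Γ).map (MulAut.conj g).toMonoidHom) := Q.isPGroup'.map _
    obtain ⟨R, hR⟩ := (IsPGroup.to_sup_of_normal_right' hmap Q.isPGroup'
      (by rintro _ ⟨y, hy, rfl⟩; exact hgx y hy)).exists_le_sylow
    have hRQ : (R : Subgroup Γ) = Q := (Q.3 R.isPGroup' (le_sup_right.trans hR)).symm.symm
    exact hRQ ▸ (le_sup_left.trans hR) ⟨x, hx, rfl⟩
  have := h.sylow_card Q
  rw [h.no_two Q.isPGroup', Subgroup.card_bot] at this
  exact absurd this.symm (Nat.one_lt_two_pow (by have := h.big; omega)).ne'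

end AffGroup

end Cfsg.Agent.Fus.CentTwoPSL
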