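import Mathlib

/-!
# Arithmetic of the block system
-/

set_option autoImplicit false

namespace Cfsg.Agent.Fus.CentTwoPSL

theorem arith_small : ∀ n e c : Fin 13, ¬ (3 ≤ n.val ∧ 1 ≤ e.val ∧ e.val % 2 = 1 ∧ n.val % e.val = 0 ∧
    1 ≤ c.val ∧ (c.val = 1 ∨ e.val % c.val = 0) ∧ (2 ^ n.val - 1) % c.val = 0 ∧
      (2 ^ n.val * e.val) % ((2 ^ n.val - 1) / c.val - 1) = 0 ∧ ¬ (n.val = 3 ∧ e.val = 3)) := by
  decide +kernel

theorem arith {n e c b : ℕ} (hn : 3 ≤ n) (he : e ∣ n) (hodd : Odd e) (hb : 2 ≤ b) (hcb : b * c = 2 ^ n - 1)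
    (hc : c = 1 ∨ c ∣ e) (hdvd : b - 1 ∣ 2 ^ n * e) : n = 3 ∧ e = 3 := by
  have hen : e ≤ n := Nat.le_of_dvd (by omega) he
  have hc1 : 1 ≤ c := Nat.pos_of_ne_zero fun h => by
    rw [h, mul_zero] at hcb
    have := Nat.one_lt_two_pow (n := n) (by omega)
    omega
  have hcn : c ≤ n := by
    rcases hc with h | h
    · omega
    · exact (Nat.le_of_dvd hodd.pos h).trans hen
  have hsplit : n ≤ 12 := by
    obtain ⟨d₁, d₂, h1, h2, h3⟩ := exists_dvd_and_dvd_of_dvd_mul hdvd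
    obtain ⟨a, -, rfl⟩ := (Nat.dvd_prime_pow Nat.prime_two).1 h1
    have hd2 : d₂ ≤ n := (Nat.le_of_dvd hodd.pos h2).trans hen
    have han : a ≤ n := by
      by_contra hcon
      push Not at hcon
      have : 2 ^ n < 2 ^ a := Nat.pow_lt_pow_right (by norm_num) hcon
      have h5 := Nat.le_of_dvd (Nat.two_pow_pos n) h1
      omega
    obtain ⟨r, hr⟩ := pow_dvd_pow 2 han
    have hd : 2 ^ a ∣ c + 1 := by
      have h5 : 1 ≤ 2 ^ n := Nat.one_le_two_pow
      have h4 : (b - 1) * c + (c + 1) = 2 ^ n := by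
        obtain ⟨b', rfl⟩ := Nat.exists_eq_add_of_le hb
        rw [show 2 + b' - 1 = 1 + b' by omega]
        have : (2 + b') * c = (1 + b') * c + c := by ring
        omega
      rw [h3, hr] at h4
      have : 2 ^ a ∣ 2 ^ a * d₂ * c + (c + 1) := ⟨r, h4⟩
      exact (Nat.dvd_add_right (by rw [mul_assoc]; exact dvd_mul_right _ _)).1 this
    have ha : 2 ^ a ≤ n + 1 := (Nat.le_of_dvd (by omega) hd).trans (by omega)
    have hb' : b ≤ (n + 1) * n + 1 := by
      have : 2 ^ a * d₂ ≤ (n + 1) * n := Nat.mul_le_mul ha hd2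
      omega
    have hq : 2 ^ n - 1 ≤ ((n + 1) * n + 1) * n := hcb ▸ Nat.mul_le_mul hb' hcn
    by_contra hbig
    push Not at hbig
    have hgrow : ∀ m, 13 ≤ m → ((m + 1) * m + 1) * m + 1 < 2 ^ m := by
      intro m hm
      induction m, hm using Nat.le_induction with
      | base => norm_num
      | succ m hm ih => rw [pow_succ]; nlinarith [Nat.mul_le_mul hm (Nat.mul_le_mul hm (Nat.le_refl m))]
    have := hgrow n hbig
    omega
  have hbval : (2 ^ n - 1) / c = b := by rw [← hcb, Nat.mul_div_cancel _ hc1]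
  by_contra hne
  exact arith_small ⟨n, by omega⟩ ⟨e, by omega⟩ ⟨c, by omega⟩ ⟨hn, hodd.pos, Nat.odd_iff.1 hodd,
    Nat.mod_eq_zero_of_dvd he, hc1, hc.imp id Nat.mod_eq_zero_of_dvd, by rw [← hcb, Nat.mul_mod_left],
    by rw [hbval]; exact Nat.mod_eq_zero_of_dvd hdvd, hne⟩

end Cfsg.Agent.Fus.CentTwoPSL
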