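import Cfsg.Agent.Lib.Fus.CentTwoPSL.Arith
import Cfsg.Agent.Lib.Fus.CentTwoPSL.Affine
import Cfsg.Agent.S3559
import Cfsg.Agent.S3972
import Cfsg.Agent.S0675

/-!
# The affine configuration is `GL(3,2)`

The cyclic group is regular on the non-identity elements.  On a minimal block the induced group is doubly
transitive or soluble; solubility is impossible, and double transitivity leaves dimension three.
-/

set_option autoImplicit false
set_option linter.style.haveILetI false

namespace Cfsg.Agent.Fus.CentTwoPSL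

open Subgroup MulAction
open scoped Pointwise

universe u v

variable {Γ : Type u} [Group Γ] [Finite Γ] {A : Type v} [CommGroup A] [Finite A] {φ : Γ →* MulAut A}
  {c : Γ → A} {F : Subgroup Γ} {d : Γ} {n : ℕ}

theorem isSolvable_of_maps {K : Type*} [Group K] {ι : Type*} {M : Type*} [Group M] [Group.IsSolvable M]
    (f : ι → K →* M) (hf : ∀ k, (∀ i, f i k = 1) → k = 1) : Group.IsSolvable K := by
  obtain ⟨m, hm⟩ := (Group.isSolvable_def M).1 inferInstance
  refine (Group.isSolvable_def K).2 ⟨m, (eq_bot_iff_forall _).2 fun k hk => hf k fun i => ?_⟩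
  have := map_derivedSeries_le_derivedSeries (f i) m ⟨k, hk, rfl⟩
  rwa [hm, mem_bot] at this

/-- The main theorem on the configuration. -/
theorem AffGroup.main (h : AffGroup φ c F d n) : n = 3 ∧ Nat.card Γ = 168 := by
  classical
  haveI : Fact (Nat.Prime 2) := ⟨Nat.prime_two⟩
  have := Fintype.ofFinite A
  obtain ⟨hDn, hDcard, ⟨e, hFcard, hen, heodd⟩, hFF⟩ := h.facts
  have hn := h.big
  let X := {a : A // a ≠ 1}
  letI : MulAction Γ X :=
    { smul := fun g x => ⟨φ g x.1, fun e => x.2 ((φ g).injective (e.trans (map_one _).symm))⟩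
      one_smul := fun x => Subtype.ext (show φ 1 x.1 = x.1 by rw [map_one]; rfl)
      mul_smul := fun g g' x => Subtype.ext (show φ (g * g') x.1 = φ g (φ g' x.1) by rw [map_mul]; rfl) }
  haveI : Finite X := Subtype.finite
  have hsmul : ∀ (g : Γ) (x : X), (g • x).1 = φ g x.1 := fun g x => rfl
  have htr : ∀ x y : X, ∃ j : ℕ, d ^ j • x = y := fun x y => by
    obtain ⟨j, hj⟩ := h.trans x.1 y.1 x.2 y.2
    exact ⟨j, Subtype.ext hj⟩
  haveI : IsPretransitive Γ X := ⟨fun x y => let ⟨j, hj⟩ := htr x y; ⟨d ^ j, hj⟩⟩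
  have hXcard : Nat.card X = 2 ^ n - 1 := by
    rw [Nat.card_eq_fintype_card, Fintype.card_subtype_compl, Fintype.card_subtype_eq, ← Nat.card_eq_fintype_card,
      h.cardA]
  have hq1 : 7 ≤ 2 ^ n - 1 := by
    have := Nat.pow_le_pow_right (show 2 > 0 by norm_num) hn
    omega
  have hqodd : Odd (2 ^ n - 1) := by
    refine Nat.odd_iff.2 ?_
    have h2 : 2 ∣ 2 ^ n := dvd_pow_self 2 (by omega)
    have := Nat.one_le_two_pow (n := n)
    omega
  have hfaith : ∀ g : Γ, (∀ x : X, g • x = x) → g = 1 := fun g hg => h.inj (MulEquiv.ext fun a => by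
    rw [map_one, MulAut.one_apply]
    by_cases ha : a = 1
    · rw [ha, map_one]
    · exact congrArg Subtype.val (hg ⟨a, ha⟩))
  have hdcomm : ∀ {x : Γ}, x ∈ Subgroup.zpowers d → ∀ j : ℕ, x * d ^ j = d ^ j * x := fun {x} hx j => by
    obtain ⟨k, rfl⟩ := Subgroup.mem_zpowers_iff.1 hx
    exact ((Commute.refl d).zpow_left k).pow_right j
  have hdfree : ∀ g ∈ Subgroup.zpowers d, ∀ x : X, g • x = x → g = 1 := fun g hg x hx => hfaith g fun y => by
    obtain ⟨j, rfl⟩ := htr x y
    rw [smul_smul, hdcomm hg, mul_smul, hx]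
  have hstab : ∀ x : X, Nat.card (stabilizer Γ x) = 2 ^ n * e := fun x => by
    have h1 := (stabilizer Γ x).card_mul_index
    rw [index_stabilizer_of_transitive, hXcard, h.card_eq, hFcard] at h1
    have h2 : 2 ^ n * ((2 ^ n - 1) * e) = 2 ^ n * e * (2 ^ n - 1) := by ring
    rw [h2] at h1
    exact Nat.eq_of_mul_eq_mul_right (by omega) h1
  -- a minimal block
  haveI : Finite (Set X) := inferInstance
  let BT := {B : Set X // IsBlock Γ B ∧ 2 ≤ B.ncard}
  haveI : Nonempty BT := ⟨⟨Set.univ, IsBlock.univ, by rw [Set.ncard_univ, hXcard]; omega⟩⟩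
  obtain ⟨⟨B, hB, hB2⟩, hmin⟩ := Finite.exists_min fun B : BT => B.1.ncard
  obtain ⟨x₀, hx₀⟩ : B.Nonempty := Set.nonempty_of_ncard_ne_zero (by omega)
  set SB := stabilizer Γ B with hSB
  let ψ : ↥SB →* Equiv.Perm ↥B :=
    { toFun := fun g =>
        { toFun := fun x => ⟨(g : Γ) • x.1, by
            have := Set.smul_mem_smul_set (a := (g : Γ)) x.2
            rwa [show (g : Γ) • B = B from g.2] at this⟩
          invFun := fun x => ⟨(g : Γ)⁻¹ • x.1, by
            have := Set.smul_mem_smul_set (a := (g : Γ)⁻¹) x.2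
            rwa [show (g : Γ)⁻¹ • B = B from (inv_mem g.2 : (g : Γ)⁻¹ ∈ SB)] at this⟩
          left_inv := fun x => Subtype.ext (inv_smul_smul _ _)
          right_inv := fun x => Subtype.ext (smul_inv_smul _ _) }
      map_one' := Equiv.ext fun x => Subtype.ext (one_smul Γ x.1)
      map_mul' := fun g g' => Equiv.ext fun x => Subtype.ext (mul_smul (g : Γ) g' x.1) }
  have hψ : ∀ (g : ↥SB) (x : B), ((ψ g x) : X) = (g : Γ) • x.1 := fun g x => rfl
  set GB := ψ.range with hGB
  have hBblock : ∀ {g : Γ} {x : X}, x ∈ B → g • x ∈ B → g ∈ SB := fun hx hgx =>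
    hB.smul_eq_of_nonempty ⟨_, Set.smul_mem_smul_set hx, hgx⟩
  have htrB : ∀ x y : B, ∃ j : ℕ, ∃ hj : d ^ j ∈ SB, ψ ⟨d ^ j, hj⟩ x = y := fun x y => by
    obtain ⟨j, hj⟩ := htr x.1 y.1
    exact ⟨j, hBblock x.2 (hj ▸ y.2), Subtype.ext hj⟩
  haveI : IsPretransitive GB B := ⟨fun x y => by
    obtain ⟨j, hj, e⟩ := htrB x y
    exact ⟨⟨_, _, rfl⟩, e⟩⟩
  haveI hprimGB : IsPreprimitive GB B :=
    { isTrivialBlock_of_isBlock := by
        intro B' hB'
        by_contra hnt
        rw [IsTrivialBlock, not_or, Set.not_subsingleton_iff, ← Set.one_lt_ncard_iff_nontrivial] at hnt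
        have hblock : IsBlock Γ ((↑) '' B' : Set X) := by
          rw [isBlock_iff_smul_eq_smul_of_nonempty]
          intro g₁ g₂ hne
          obtain ⟨_, ⟨_, ⟨y₁, hy₁, rfl⟩, rfl⟩, ⟨_, ⟨y₂, hy₂, rfl⟩, he⟩⟩ := hne
          have he' : g₂ • (y₂ : X) = g₁ • (y₁ : X) := he
          have hg : g₂⁻¹ * g₁ ∈ SB := hBblock y₁.2 (by rw [mul_smul, ← he', inv_smul_smul]; exact y₂.2)
          have hB'' : (⟨ψ ⟨_, hg⟩, _, rfl⟩ : GB) • B' = B' := by
            refine hB'.smul_eq_of_nonempty ⟨y₂, ⟨y₁, hy₁, Subtype.ext ?_⟩, hy₂⟩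
            show (g₂⁻¹ * g₁) • (y₁ : X) = y₂
            rw [mul_smul, ← he', inv_smul_smul]
          have heq : (g₂⁻¹ * g₁) • ((↑) '' B' : Set X) = (↑) '' B' := by
            conv_rhs => rw [← hB'']
            rw [← Set.image_smul, ← Set.image_smul, Set.image_image, Set.image_image]
            rfl
          conv_lhs => rw [show g₁ = g₂ * (g₂⁻¹ * g₁) by group, mul_smul, heq]
        have h2 : 2 ≤ ((↑) '' B' : Set X).ncard := by
          rw [Set.ncard_image_of_injective _ Subtype.val_injective]; exact hnt.1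
        have := hmin ⟨_, hblock, h2⟩
        simp only [Set.ncard_image_of_injective _ Subtype.val_injective] at this
        refine hnt.2 (Set.eq_univ_of_forall fun y => ?_)
        have hle : ((↑) '' B' : Set X) = B := Set.eq_of_subset_of_ncard_le (by rintro _ ⟨z, -, rfl⟩; exact z.2)
          (by rw [Set.ncard_image_of_injective _ Subtype.val_injective]; exact this)
        obtain ⟨z, hz, hzy⟩ := hle.ge y.2
        exact (Subtype.ext hzy : z = y) ▸ hz }
  -- the blocks
  have hblocks := hB.ncard_block_mul_ncard_orbit_eq ⟨x₀, hx₀⟩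
  set cc := (orbit Γ B).ncard with hcc
  set b := B.ncard with hb
  rw [hXcard] at hblocks
  have hBcard : Nat.card ↥B = b := Nat.card_coe_set_eq B
  haveI := Fintype.ofFinite ↥B
  -- `K` is the kernel of the action on the blocks
  set K := SB.normalCore with hK
  have hKne : K ≠ ⊥ := by
    obtain ⟨y, hy, hyx⟩ := Set.exists_ne_of_one_lt_ncard (a := x₀) (s := B) (by omega)
    obtain ⟨j, hj, hje⟩ := htrB ⟨x₀, hx₀⟩ ⟨y, hy⟩
    intro e0
    have hmem : d ^ j ∈ K := fun g => by
      obtain ⟨i, hi⟩ := htr x₀ (g⁻¹ • x₀)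
      have hBeq : g⁻¹ • B = d ^ i • B :=
        hB.smul_eq_smul_of_nonempty ⟨g⁻¹ • x₀, Set.smul_mem_smul_set hx₀, ⟨x₀, hx₀, hi⟩⟩
      show (g * d ^ j * g⁻¹) • B = B
      rw [mul_smul, hBeq, smul_smul, mul_assoc, hdcomm (pow_mem (Subgroup.mem_zpowers d) j) i, ← mul_assoc,
        mul_smul, show d ^ j • B = B from hj, mul_smul, ← hBeq, smul_inv_smul]
    rw [e0, mem_bot] at hmem
    have : (ψ ⟨d ^ j, hj⟩ ⟨x₀, hx₀⟩ : X) = x₀ := by rw [hψ]; simp [hmem]
    rw [hje] at this
    exact hyx this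
  have hFsol : Group.IsSolvable F := by
    haveI : Group.IsSolvable (Subgroup.zpowers (⟨d, h.mem⟩ : F)) :=
      Group.isSolvable_of_comm fun a b => IsCyclic.commGroup.mul_comm a b
    refine Group.isSolvable_of_ker_le_range (Subgroup.zpowers (⟨d, h.mem⟩ : F)).subtype
      (Abelianization.of : F →* Abelianization F) ?_
    rw [Abelianization.ker_of, Subgroup.range_subtype]
    intro x hx
    have h1 : (x : Γ) ∈ (_root_.commutator F).map F.subtype := ⟨x, hx, rfl⟩
    rw [map_subtype_commutator] at h1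
    obtain ⟨k, hk⟩ := Subgroup.mem_zpowers_iff.1 (hFF h1)
    exact Subgroup.mem_zpowers_iff.2 ⟨k, Subtype.ext (by simpa using hk)⟩
  have hnsol : ¬ Group.IsSolvable GB := by
    intro hs
    apply h.not_solvable
    haveI := hs
    haveI hKsol : Group.IsSolvable K := by
      refine isSolvable_of_maps (fun i : ℕ => ψ.rangeRestrict.comp
        ((((MulAut.conj (d ^ i)⁻¹).toMonoidHom).comp K.subtype).codRestrict SB fun k =>
          normalCore_le SB ((normalCore_normal SB).conj_mem _ k.2 _))) fun k hk => ?_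
      refine Subtype.ext (hfaith _ fun x => ?_)
      obtain ⟨i, rfl⟩ := htr x₀ x
      have := congrArg (fun p : GB => ((p.1 ⟨x₀, hx₀⟩ : B) : X)) (hk i)
      have h2 : ((d ^ i)⁻¹ * (k : Γ) * ((d ^ i)⁻¹)⁻¹) • x₀ = x₀ := this
      rw [inv_inv, mul_smul, mul_smul, inv_smul_eq_iff] at h2
      exact h2
    have hsurj : Function.Surjective ((QuotientGroup.mk' K).comp F.subtype) := fun q => by
      induction q using QuotientGroup.induction_on with
      | H g =>
        obtain ⟨m, hm, hmg⟩ := (h.normal_trans hKne).1 g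
        exact ⟨⟨_, hmg⟩, QuotientGroup.eq.2 (by
          show (m⁻¹ * g)⁻¹ * g ∈ K
          rw [show (m⁻¹ * g)⁻¹ * g = g⁻¹ * m * g by group]
          exact (normalCore_normal SB).conj_mem' m hm g)⟩
    haveI : Group.IsSolvable (Γ ⧸ K) := by haveI := hFsol; exact Group.isSolvable_of_surjective hsurj
    exact Group.isSolvable_of_ker_le_range K.subtype (QuotientGroup.mk' K) (by simp)
  -- double transitivity on the block
  have h2B : IsMultiplyPretransitive GB B 2 := by
    by_cases hpp : IsPrimePow b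
    · obtain ⟨p, m, hp, hm0, hpm⟩ := (isPrimePow_nat_iff b).1 hpp
      rcases Nat.lt_or_ge m 2 with hm | hm
      · obtain rfl : m = 1 := by omega
        exact (Cfsg.Agent.S0675.result (α := B) (by
          rw [← Nat.card_eq_fintype_card, hBcard, ← hpm, pow_one]; exact hp) GB).resolve_left hnsol
      · by_contra h2
        -- an element of `D` acting as a full cycle
        let DB : Subgroup SB := (Subgroup.zpowers d).subgroupOf SB
        let D' : Subgroup (Equiv.Perm B) := DB.map ψ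
        haveI : IsCyclic DB := isCyclic_of_injective
          ((SB.subtype.comp DB.subtype).codRestrict (Subgroup.zpowers d) fun z => mem_subgroupOf.1 z.2)
          (fun a b e => Subtype.ext (Subtype.ext (congrArg (fun z : Subgroup.zpowers d => (z : Γ)) e)))
        haveI : IsCyclic D' := isCyclic_of_surjective (ψ.subgroupMap DB) (ψ.subgroupMap_surjective DB)
        obtain ⟨g, hg⟩ := IsCyclic.exists_ofOrder_eq_natCard (α := D')
        have hD'card : Nat.card D' = b := by
          rw [← hBcard]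
          refine Nat.card_eq_of_bijective (fun s : D' => (s : Equiv.Perm B) ⟨x₀, hx₀⟩) ⟨?_, fun y => ?_⟩
          · rintro ⟨_, s, hs, rfl⟩ ⟨_, s', hs', rfl⟩ e
            have e' : (s : Γ) • x₀ = (s' : Γ) • x₀ := congrArg Subtype.val e
            have hss : ((s' : Γ)⁻¹ * s) = 1 := hdfree _ (mul_mem (inv_mem hs') hs) x₀ (by
              rw [mul_smul, e', inv_smul_smul])
            exact Subtype.ext (congrArg ψ (Subtype.ext (inv_mul_eq_one.1 hss).symm))
          · obtain ⟨j, hj, he⟩ := htrB ⟨x₀, hx₀⟩ y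
            exact ⟨⟨_, ⟨d ^ j, hj⟩, pow_mem (Subgroup.mem_zpowers d) j, rfl⟩, he⟩
        obtain ⟨s, -, hsψ⟩ := g.2
        refine (Cfsg.Agent.S3972.result (Ω := B) p m hp hm (by rw [← Nat.card_eq_fintype_card, hBcard, hpm]) GB
          inferInstance h2 ⟨ψ s, s, rfl⟩ ?_).1 hprimGB
        rw [← Subgroup.orderOf_coe]; show orderOf (ψ s) = _
        rw [hsψ, Subgroup.orderOf_coe, hg, hD'card, hpm]
    · haveI : FaithfulSMul GB B := ⟨fun {a a'} e => Subtype.ext (Equiv.ext e)⟩
      let D' : Subgroup GB := ((Subgroup.zpowers d).subgroupOf SB).map ψ.rangeRestrict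
      haveI hDBc : IsCyclic ((Subgroup.zpowers d).subgroupOf SB) := isCyclic_of_injective
          ((SB.subtype.comp ((Subgroup.zpowers d).subgroupOf SB).subtype).codRestrict (Subgroup.zpowers d)
            fun z => mem_subgroupOf.1 z.2)
          (fun a b e => Subtype.ext (Subtype.ext (congrArg (fun z : Subgroup.zpowers d => (z : Γ)) e)))
      have hcyc : IsCyclic D' := isCyclic_of_surjective (ψ.rangeRestrict.subgroupMap _)
        (ψ.rangeRestrict.subgroupMap_surjective _)
      refine (Cfsg.Agent.S3559.result (G := GB) (Ω := B) inferInstance (by rw [hBcard]; exact hB2)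
        (by rw [hBcard]; exact hpp) D' hcyc ⟨⟨fun x y => ?_⟩, fun x => ?_⟩).resolve_left (not_not.2 hprimGB)
      · obtain ⟨j, hj, he⟩ := htrB x y
        exact ⟨⟨_, ⟨d ^ j, hj⟩, pow_mem (Subgroup.mem_zpowers d) j, rfl⟩, he⟩
      · rw [eq_bot_iff_forall]
        rintro ⟨_, s, hs, rfl⟩ hfix
        have h1 : (s : Γ) • (x : X) = x := congrArg Subtype.val (hfix : ψ.rangeRestrict s • x = x)
        have : s = 1 := Subtype.ext (hdfree _ hs _ h1)
        subst this
        exact Subtype.ext (map_one _)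
  -- the stabiliser of a point of the block is transitive on the others
  have hdvd : b - 1 ∣ 2 ^ n * e := by
    let x : B := ⟨x₀, hx₀⟩
    obtain ⟨y, hy, hyx⟩ := Set.exists_ne_of_one_lt_ncard (a := x₀) (s := B) (by omega)
    have key : ∀ (a b c e : B), a ≠ b → c ≠ e → ∃ g : GB, g • a = c ∧ g • b = e :=
      fun _ _ _ _ e1 e2 => is_two_pretransitive_iff.1 h2B e1 e2
    have hxy : x ≠ ⟨y, hy⟩ := fun e => hyx (congrArg (fun z : B => (z : X)) e).symm
    have horb : orbit (stabilizer GB x) (⟨y, hy⟩ : B) = {z : B | z ≠ x} := by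
      ext z
      constructor
      · rintro ⟨⟨g, hg⟩, rfl⟩ (hz : g • (⟨y, hy⟩ : B) = x)
        have hg' : g • x = x := hg
        exact hxy (MulAction.injective g (hg'.trans hz.symm))
      · intro hz
        obtain ⟨g, hg1, hg2⟩ := key x ⟨y, hy⟩ x z hxy (Ne.symm hz)
        exact ⟨⟨g, hg1⟩, hg2⟩
    have hcard : Nat.card (orbit (stabilizer GB x) (⟨y, hy⟩ : B)) = b - 1 := by
      rw [horb, show {z : B | z ≠ x} = ({x} : Set B)ᶜ from rfl, Nat.card_coe_set_eq, Set.ncard_compl,
        Set.ncard_singleton, hBcard]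
    let f : stabilizer Γ x₀ →* stabilizer GB x :=
      (ψ.rangeRestrict.comp (Subgroup.inclusion (hB.stabilizer_le hx₀))).codRestrict _ fun g => Subtype.ext g.2
    have hf : Function.Surjective f := by
      rintro ⟨⟨_, g, rfl⟩, hg⟩
      have h1 : (g : Γ) • x₀ = x₀ := congrArg Subtype.val (hg : ψ.rangeRestrict g • x = x)
      exact ⟨⟨g, h1⟩, rfl⟩
    rw [← hstab x₀, ← hcard, Nat.card_congr (orbitEquivQuotientStabilizer _ _)]
    exact (card_quotient_dvd_card _).trans (card_dvd_of_surjective f hf)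
  have hcdvd : cc = 1 ∨ cc ∣ e := by
    right
    obtain ⟨Q⟩ : Nonempty (Sylow 2 Γ) := inferInstance
    obtain ⟨P⟩ : Nonempty (Sylow 2 K) := inferInstance
    have hPle : IsPGroup 2 ((P : Subgroup K).map K.subtype) := P.isPGroup'.map _
    obtain ⟨P', hP'⟩ := hPle.exists_le_sylow
    have hP'K : (P' : Subgroup Γ) ≤ K := by
      have := eq_of_le_of_card_ge hP' (by
        rw [h.sylow_card P', card_map_of_injective K.subtype_injective]
        exact Nat.le_of_dvd Nat.card_pos (P.pow_dvd_card_of_pow_dvd_card (h.normal_trans hKne).2))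
      exact this ▸ map_subtype_le _
    have hQK : (Q : Subgroup Γ) ≤ K := by
      obtain ⟨g, hg⟩ := MulAction.exists_smul_eq Γ P' Q
      rw [← hg]
      rintro _ ⟨z, hz, rfl⟩
      exact (normalCore_normal SB).conj_mem z (hP'K hz) g
    have hfixB : ∀ j : ℕ, ∃ u : X, u ∈ d ^ j • B ∧ ∀ q ∈ (Q : Subgroup Γ), q • u = u := by
      intro j
      have hmem : ∀ q ∈ (Q : Subgroup Γ), q • (d ^ j • B) = d ^ j • B := fun q hq => by
        have h1 : ((d ^ j)⁻¹ * q * ((d ^ j)⁻¹)⁻¹) • B = B := (hQK hq) ((d ^ j)⁻¹)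
        rw [inv_inv, mul_smul, mul_smul, inv_smul_eq_iff] at h1
        exact h1
      letI : MulAction (Q : Subgroup Γ) ↥(d ^ j • B) :=
        { smul := fun q u => ⟨(q : Γ) • u.1, by
            have := Set.smul_mem_smul_set (a := (q : Γ)) u.2
            rwa [hmem q q.2] at this⟩
          one_smul := fun u => Subtype.ext (one_smul Γ u.1)
          mul_smul := fun q q' u => Subtype.ext (mul_smul (q : Γ) q' u.1) }
      have hodd : ¬ 2 ∣ Nat.card ↥(d ^ j • B) := by
        rw [Nat.card_coe_set_eq, Set.ncard_smul_set]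
        intro h2
        exact Nat.not_even_iff_odd.2 hqodd (even_iff_two_dvd.2 (h2.trans ⟨_, hblocks.symm⟩))
      obtain ⟨u, hu⟩ := Q.isPGroup'.nonempty_fixed_point_of_prime_not_dvd_card ↥(d ^ j • B) hodd
      exact ⟨u.1, u.2, fun q hq => congrArg Subtype.val (hu ⟨q, hq⟩)⟩
    set L := F ⊓ normalizer ((Q : Subgroup Γ) : Set Γ) with hL
    have hLe : Nat.card L ∣ e := by
      let f : ↥L →* ↥F ⧸ (Subgroup.zpowers d).subgroupOf F :=
        (QuotientGroup.mk' _).comp (Subgroup.inclusion inf_le_left)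
      have hf : Function.Injective f := by
        rw [injective_iff_map_eq_one]
        intro l hl
        have h1 : (l : Γ) ∈ Subgroup.zpowers d ⊓ normalizer ((Q : Subgroup Γ) : Set Γ) :=
          ⟨mem_subgroupOf.1 ((QuotientGroup.eq_one_iff (N := (Subgroup.zpowers d).subgroupOf F) (Subgroup.inclusion (inf_le_left : L ≤ F) l)).1 hl), l.2.2⟩
        rw [h.no_scalar_normalizer Q, mem_bot] at h1
        exact Subtype.ext h1
      have h3 := Subgroup.card_eq_card_quotient_mul_card_subgroup ((Subgroup.zpowers d).subgroupOf F)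
      rw [Nat.card_congr (subgroupOfEquivOfLe (zpowers_le.2 h.mem)).toEquiv, hDcard, hFcard, mul_comm] at h3
      exact (card_dvd_of_injective f hf).trans (dvd_of_eq (Nat.eq_of_mul_eq_mul_right (by omega) h3).symm)
    have hLtr : ∀ v w : X, (∀ q ∈ (Q : Subgroup Γ), q • v = v) → (∀ q ∈ (Q : Subgroup Γ), q • w = w) →
        ∃ l ∈ L, l • v = w := by
      intro v w hv hw
      obtain ⟨j, hj⟩ := htr v w
      have hQw : (Q : Subgroup Γ) ≤ stabilizer Γ w := fun q hq => hw q hq
      have hQ' : ((d ^ j • Q : Sylow 2 Γ) : Subgroup Γ) ≤ stabilizer Γ w := by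
        rintro _ ⟨q, hq, rfl⟩
        show (d ^ j * q * (d ^ j)⁻¹) • w = w
        rw [← hj, mul_smul, mul_smul, inv_smul_smul, hv q hq]
      obtain ⟨k, hk⟩ := MulAction.exists_smul_eq (stabilizer Γ w) (Sylow.subtype (d ^ j • Q) hQ')
        (Sylow.subtype Q hQw)
      have hk' : ((k : Γ) * d ^ j) • Q = Q := by
        rw [Sylow.smul_subtype hQ' k] at hk
        rw [mul_smul]
        exact Sylow.subtype_injective hk
      have hN : (k : Γ) * d ^ j ∈ normalizer ((Q : Subgroup Γ) : Set Γ) := Sylow.smul_eq_iff_mem_normalizer.1 hk'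
      obtain ⟨f, hf, hfg⟩ := h.factor Q ((k : Γ) * d ^ j)⁻¹
      refine ⟨f⁻¹, ⟨F.inv_mem hf, ?_⟩, ?_⟩
      · have := (normalizer ((Q : Subgroup Γ) : Set Γ)).mul_mem (le_normalizer hfg) hN
        rwa [inv_mul_cancel_right] at this
      · have e : f⁻¹ = f⁻¹ * ((k : Γ) * d ^ j)⁻¹ * ((k : Γ) * d ^ j) := by rw [inv_mul_cancel_right]
        rw [e, mul_smul, mul_smul (k : Γ) (d ^ j), hj, show (k : Γ) • w = w from k.2]
        exact hw _ hfg
    have horbit : orbit L B = orbit Γ B := by
      refine Set.Subset.antisymm (fun _ ⟨l, hl⟩ => ⟨l.1, hl⟩) ?_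
      rintro _ ⟨g, rfl⟩
      obtain ⟨u, hu, huQ⟩ := hfixB 0
      rw [pow_zero, one_smul] at hu
      obtain ⟨i, hi⟩ := htr x₀ (g • x₀)
      obtain ⟨w, hw, hwQ⟩ := hfixB i
      have hBeq : g • B = d ^ i • B :=
        hB.smul_eq_smul_of_nonempty ⟨g • x₀, Set.smul_mem_smul_set hx₀, ⟨x₀, hx₀, hi⟩⟩
      obtain ⟨l, hl, hlu⟩ := hLtr u w huQ hwQ
      refine ⟨⟨l, hl⟩, ?_⟩
      show l • B = g • B
      rw [hBeq]
      exact hB.smul_eq_smul_of_nonempty ⟨w, ⟨u, hu, hlu⟩, hw⟩
    rw [hcc, ← horbit, ← Nat.card_coe_set_eq, Nat.card_congr (orbitEquivQuotientStabilizer _ _)]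
    exact (card_quotient_dvd_card _).trans hLe
  obtain ⟨rfl, rfl⟩ := arith hn hen heodd hB2 hblocks hcdvd hdvd
  exact ⟨rfl, by rw [h.card_eq, hFcard]; norm_num⟩

end Cfsg.Agent.Fus.CentTwoPSL
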