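import Mathlib

/-!
# Parity of the conjugates of an involution in a Sylow 2-subgroup

In a group without a character of order two an involution `t` moves an even number of pairs of cosets of a
maximal subgroup of a Sylow 2-subgroup `S`.  So `|t^G ∩ S|` is an odd multiple of `|S : C_S(t)|` when `C_S(t)` is
a Sylow 2-subgroup of `C(t)`, and outside a subgroup of index two there is an even multiple.
-/

set_option autoImplicit false

namespace Cfsg.Agent.Fus.CentTwoPSL

open Subgroup MulAction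
open scoped Classical

variable {G : Type*} [Group G] [Finite G]

/-- The conjugates of `t` in a subgroup. -/
def conjIn (t : G) (P : Subgroup G) : Set G := {x | IsConj t x ∧ x ∈ P}

theorem card_conjugators (t : G) (P : Subgroup G) :
    Nat.card {g : G // g⁻¹ * t * g ∈ P} =
      Nat.card ↥(centralizer ({t} : Set G)) * (conjIn t P).ncard := by
  let f : {g : G // g⁻¹ * t * g ∈ P} → conjIn t P := fun g =>
    ⟨g.1⁻¹ * t * g.1, _root_.isConj_iff.2 ⟨g.1⁻¹, by group⟩, g.2⟩
  have hex : ∀ x : conjIn t P, ∃ h : G, h⁻¹ * t * h = x.1 := fun x => by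
    obtain ⟨c, hc⟩ := _root_.isConj_iff.1 x.2.1
    exact ⟨c⁻¹, by rw [inv_inv]; exact hc⟩
  choose h hh using hex
  let e : ↥(centralizer ({t} : Set G)) × conjIn t P ≃ {g : G // g⁻¹ * t * g ∈ P} :=
    { toFun := fun p => ⟨p.1.1 * h p.2, by
        have hc := mem_centralizer_singleton_iff.1 p.1.2
        rw [show (p.1.1 * h p.2)⁻¹ * t * (p.1.1 * h p.2) = (h p.2)⁻¹ * (p.1.1⁻¹ * (t * p.1.1)) * h p.2 by group,
          ← hc, inv_mul_cancel_left, hh]
        exact p.2.2.2⟩
      invFun := fun g => (⟨g.1 * (h (f g))⁻¹, mem_centralizer_singleton_iff.2 (by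
          have hg : (h (f g))⁻¹ * t * h (f g) = g.1⁻¹ * t * g.1 := hh (f g)
          calc g.1 * (h (f g))⁻¹ * t = g.1 * ((h (f g))⁻¹ * t * h (f g)) * (h (f g))⁻¹ := by group
            _ = t * (g.1 * (h (f g))⁻¹) := by rw [hg]; group)⟩, f g)
      left_inv := fun p => by
        have hf : ∀ hm, f ⟨p.1.1 * h p.2, hm⟩ = p.2 := fun hm => Subtype.ext (by
          have hc := mem_centralizer_singleton_iff.1 p.1.2
          show (p.1.1 * h p.2)⁻¹ * t * (p.1.1 * h p.2) = _
          rw [show (p.1.1 * h p.2)⁻¹ * t * (p.1.1 * h p.2) = (h p.2)⁻¹ * (p.1.1⁻¹ * (t * p.1.1)) * h p.2 by group,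
            ← hc, inv_mul_cancel_left, hh])
        refine Prod.ext (Subtype.ext ?_) (hf _)
        show p.1.1 * h p.2 * (h (f _))⁻¹ = _
        rw [hf, mul_inv_cancel_right]
      right_inv := fun g => Subtype.ext (inv_mul_cancel_right _ _) }
  rw [← Nat.card_congr e, Nat.card_prod, ← Nat.card_coe_set_eq]

theorem card_fixed (t : G) (P : Subgroup G) :
    Nat.card {q : G ⧸ P // t • q = q} * Nat.card P =
      Nat.card ↥(centralizer ({t} : Set G)) * (conjIn t P).ncard := by
  rw [← card_conjugators, mul_comm]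
  have hiff : ∀ g : G, t • (g : G ⧸ P) = g ↔ g⁻¹ * t * g ∈ P := fun g => by
    rw [MulAction.Quotient.smul_coe, eq_comm, QuotientGroup.eq, smul_eq_mul, ← mul_assoc]
  have e : {g : G // g⁻¹ * t * g ∈ P} ≃ QuotientGroup.mk ⁻¹' {q : G ⧸ P | t • q = q} :=
    Equiv.subtypeEquivRight fun g => (hiff g).symm
  rw [Nat.card_congr e, Nat.card_congr (QuotientGroup.preimageMkEquivSubgroupProdSet P _), Nat.card_prod]
  rfl

/-- An involution acts on every finite set as an even permutation when there is no character of order two. -/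
theorem four_dvd_moved (hG : ∀ f : G →* ℤˣ, f = 1) {t : G} (ht : t * t = 1) {α : Type*} [Finite α]
    [MulAction G α] : ∃ k, Nat.card α = Nat.card {a : α // t • a = a} + 4 * k := by
  have := Fintype.ofFinite α
  let σ : Equiv.Perm α := MulAction.toPermHom G α t
  have h1 : Equiv.Perm.sign σ = 1 := by
    have := DFunLike.congr_fun (hG (Equiv.Perm.sign.comp (MulAction.toPermHom G α))) t
    exact this
  have h2 : σ ^ 2 = 1 := by rw [← map_pow, pow_two, ht, map_one]
  have hall : ∀ n ∈ σ.cycleType, n = 2 := fun n hn => by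
    have h3 := (Equiv.Perm.dvd_of_mem_cycleType hn).trans (orderOf_dvd_of_pow_eq_one h2)
    exact le_antisymm (Nat.le_of_dvd two_pos h3) (Equiv.Perm.two_le_of_mem_cycleType hn)
  have hrep : σ.cycleType = Multiset.replicate σ.cycleType.card 2 :=
    Multiset.eq_replicate_card.2 hall
  rw [Equiv.Perm.sign_of_cycleType, hrep, Multiset.sum_replicate, Multiset.card_replicate, smul_eq_mul] at h1
  have hev : Even σ.cycleType.card := by
    rcases Nat.even_or_odd σ.cycleType.card with h | h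
    · exact h
    · exfalso
      rw [Odd.neg_one_pow (by obtain ⟨m, hm⟩ := h; exact ⟨3 * m + 1, by omega⟩)] at h1
      exact absurd h1 (by decide)
  obtain ⟨k, hk⟩ := hev
  refine ⟨k, ?_⟩
  have hs : σ.support.card = 4 * k := by
    rw [← Equiv.Perm.sum_cycleType, hrep, Multiset.sum_replicate, smul_eq_mul]; omega
  have hfix : Nat.card {a : α // t • a = a} = σ.supportᶜ.card := by
    rw [Nat.card_eq_fintype_card, Fintype.card_subtype]
    congr 1
    ext a
    simp [σ]
  rw [hfix, Finset.card_compl, hs, Nat.card_eq_fintype_card]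
  have := Finset.card_le_univ σ.support
  omega

theorem two_power_odd {a b c d : ℕ} (e : c * a = 2 ^ b * d) (hc : Odd c) (hd : Odd d) :
    ∃ m, Odd m ∧ a = 2 ^ b * m := by
  obtain ⟨m, rfl⟩ : 2 ^ b ∣ a :=
    ((Nat.Coprime.pow_left b (Nat.coprime_two_left.2 hc))).dvd_of_dvd_mul_left ⟨d, e⟩
  refine ⟨m, ?_, rfl⟩
  have h : c * m = d := mul_left_cancel₀ (pow_ne_zero b two_ne_zero) (by rw [← e]; ring)
  exact Nat.Odd.of_mul_right (h ▸ hd)

/-- The parity lemma. -/
theorem parity (hG : ∀ f : G →* ℤˣ, f = 1) {t : G} (ht : t * t = 1) (T : Sylow 2 ↥(centralizer ({t} : Set G)))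
    (S : Sylow 2 G) {b : ℕ} (hb : Nat.card ↥(S : Subgroup G) = 2 ^ b * Nat.card ↥(T : Subgroup ↥(centralizer ({t} : Set G)))) :
    (∃ m, Odd m ∧ (conjIn t (S : Subgroup G)).ncard = 2 ^ b * m) ∧
      ∀ M : Subgroup G, M ≤ (S : Subgroup G) → M.relIndex (S : Subgroup G) = 2 →
        2 ^ (b + 1) ∣ (conjIn t (S : Subgroup G) \ (M : Set G)).ncard := by
  haveI : Fact (Nat.Prime 2) := ⟨Nat.prime_two⟩
  have hci : Odd (T : Subgroup ↥(centralizer ({t} : Set G))).index :=
    Nat.not_even_iff_odd.1 fun h => T.not_dvd_index (even_iff_two_dvd.1 h)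
  have hC : Nat.card ↥(centralizer ({t} : Set G)) = Nat.card ↥(T : Subgroup ↥(centralizer ({t} : Set G))) * (T : Subgroup ↥(centralizer ({t} : Set G))).index :=
    ((T : Subgroup ↥(centralizer ({t} : Set G))).card_mul_index).symm
  have hSi : Odd (S : Subgroup G).index :=
    Nat.not_even_iff_odd.1 fun h => S.not_dvd_index (even_iff_two_dvd.1 h)
  have hTpos : 0 < Nat.card ↥(T : Subgroup ↥(centralizer ({t} : Set G))) := Nat.card_pos
  have key : ∀ (P : Subgroup G) (F : ℕ), F = Nat.card {q : G ⧸ P // t • q = q} → ∀ j, Nat.card P = 2 ^ j * Nat.card ↥(T : Subgroup ↥(centralizer ({t} : Set G))) →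
      (T : Subgroup ↥(centralizer ({t} : Set G))).index * (conjIn t P).ncard = 2 ^ j * F := fun P F hF j hj => by
    have h := card_fixed t P
    rw [← hF, hj, hC] at h
    apply Nat.eq_of_mul_eq_mul_left hTpos
    rw [← mul_assoc, ← h]; ring
  obtain ⟨k, hk⟩ := four_dvd_moved hG ht (α := G ⧸ (S : Subgroup G))
  rw [← Subgroup.index_eq_card] at hk
  have hFS : Odd (Nat.card {q : G ⧸ (S : Subgroup G) // t • q = q}) := by
    obtain ⟨i, hi⟩ := hSi
    exact ⟨i - 2 * k, by omega⟩
  obtain ⟨m, hm, hSm⟩ := two_power_odd (key _ _ rfl b hb) hci hFS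
  refine ⟨⟨m, hm, hSm⟩, fun M hM hrel => ?_⟩
  have hcardM : 2 * Nat.card M = Nat.card ↥(S : Subgroup G) := by
    have := (M.subgroupOf (S : Subgroup G)).card_mul_index
    rw [Nat.card_congr (subgroupOfEquivOfLe hM).toEquiv, mul_comm] at this
    rw [Subgroup.relIndex] at hrel
    rwa [hrel] at this
  obtain ⟨k', hk'⟩ := four_dvd_moved hG ht (α := G ⧸ M)
  rw [← Subgroup.index_eq_card] at hk'
  have hidx : M.index = 2 * (S : Subgroup G).index := by rw [← relIndex_mul_index hM, hrel]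
  have hsplit : (conjIn t (S : Subgroup G) \ (M : Set G)).ncard + (conjIn t M).ncard =
      (conjIn t (S : Subgroup G)).ncard := by
    rw [← Set.ncard_union_eq (by
      rw [Set.disjoint_left]; exact fun x h1 h2 => h1.2 h2.2) (Set.toFinite _) (Set.toFinite _)]
    congr 1
    ext x
    constructor
    · rintro (⟨h, -⟩ | ⟨h1, h2⟩)
      exacts [h, ⟨h1, hM h2⟩]
    · intro h
      by_cases hx : x ∈ M
      exacts [Or.inr ⟨h.1, hx⟩, Or.inl ⟨h, hx⟩]
  -- `2 * |C : T| * |K ∩ M| = 2 ^ b * F`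
  have h2 : 2 * ((T : Subgroup ↥(centralizer ({t} : Set G))).index * (conjIn t M).ncard) = 2 ^ b * Nat.card {q : G ⧸ M // t • q = q} := by
    have h := card_fixed t M
    apply Nat.eq_of_mul_eq_mul_left hTpos
    calc Nat.card ↥(T : Subgroup ↥(centralizer ({t} : Set G))) * (2 * ((T : Subgroup ↥(centralizer ({t} : Set G))).index * (conjIn t M).ncard))
        = 2 * (Nat.card ↥(centralizer ({t} : Set G)) * (conjIn t M).ncard) := by rw [hC]; ring
      _ = (2 * Nat.card M) * Nat.card {q : G ⧸ M // t • q = q} := by rw [← h]; ring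
      _ = _ := by rw [hcardM, hb]; ring
  obtain ⟨F, hF⟩ : ∃ F, Nat.card {q : G ⧸ M // t • q = q} = 2 * F ∧ Odd F := by
    obtain ⟨i, hi⟩ := hSi
    exact ⟨2 * i + 1 - 2 * k', by omega, ⟨i - k', by omega⟩⟩
  rw [hF.1] at h2
  obtain ⟨m', hm', hMm⟩ := two_power_odd (b := b) (d := F)
    (Nat.eq_of_mul_eq_mul_left two_pos (h2.trans (by ring))) hci hF.2
  obtain ⟨p, rfl⟩ := hm
  obtain ⟨p', rfl⟩ := hm'
  rw [hSm, hMm] at hsplit
  refine ⟨p - p', ?_⟩
  rcases le_or_gt p' p with hle | hlt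
  · obtain ⟨d, rfl⟩ := Nat.exists_eq_add_of_le hle
    rw [Nat.add_sub_cancel_left]
    rw [pow_succ]
    nlinarith
  · exfalso
    have : 2 ^ b * (2 * p + 1) < 2 ^ b * (2 * p' + 1) :=
      Nat.mul_lt_mul_of_pos_left (by omega) (by positivity)
    omega

end Cfsg.Agent.Fus.CentTwoPSL
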