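import Cfsg.Agent.Lib.Fus.CentTwoPSL.Model
import Cfsg.Agent.Lib.Fus.CentTwoPSL.Parity

/-!
# General facts on the conjugates of `t`

Centralisers of conjugates of `t` go into `T`; orbits of a 2-group on a set of conjugates.
-/

set_option autoImplicit false
set_option linter.style.haveILetI false

namespace Cfsg.Agent.Fus.CentTwoPSL

open Subgroup MulAction

variable {G : Type*} [Group G]

/-- A simple non-abelian group has no character of order two. -/
theorem no_char [IsSimpleGroup G] (hG : ¬ IsMulCommutative G) (f : G →* ℤˣ) : f = 1 := by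
  rcases (inferInstance : f.ker.Normal).eq_bot_or_eq_top with h | h
  · exact absurd ⟨⟨fun a b => (MonoidHom.ker_eq_bot_iff f).1 h (by rw [map_mul, map_mul, mul_comm])⟩⟩ hG
  · exact MonoidHom.ker_eq_top_iff.1 h

/-- An involution centralises the coset it fixes. -/
theorem conj_sq {a x : G} (hx : x * x = 1) : a * x * a⁻¹ * (a * x * a⁻¹) = 1 := by
  rw [show a * x * a⁻¹ * (a * x * a⁻¹) = a * (x * x) * a⁻¹ by group, hx, mul_one, mul_inv_cancel]

/-- A 2-group whose orbits on `X` are all long. -/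
theorem exists_short [Finite G] {S : Subgroup G} (hS : IsPGroup 2 S) {X : Set G}
    (hX : ∀ s ∈ S, ∀ x ∈ X, s * x * s⁻¹ ∈ X) {b : ℕ} (hdiv : ¬ 2 ^ (b + 1) ∣ X.ncard) :
    ∃ x ∈ X, Nat.card S ≤ 2 ^ b * Nat.card ↥(S ⊓ centralizer ({x} : Set G)) := by
  classical
  haveI : Fact (Nat.Prime 2) := ⟨Nat.prime_two⟩
  by_contra! hlong
  letI : MulAction S X :=
    { smul := fun s x => ⟨(s : G) * x * (s : G)⁻¹, hX s s.2 x x.2⟩
      one_smul := fun x => Subtype.ext (show (1 : G) * x * (1 : G)⁻¹ = x by group)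
      mul_smul := fun s s' x => Subtype.ext (show ((s : G) * s') * x * ((s : G) * s')⁻¹ =
        s * (s' * x * (s' : G)⁻¹) * (s : G)⁻¹ by group) }
  haveI : Finite X := Subtype.finite
  have horb : ∀ x : X, 2 ^ (b + 1) ∣ Nat.card (orbit S x) := fun x => by
    have h1 := (stabilizer S x).card_mul_index
    rw [index_stabilizer, ← Nat.card_coe_set_eq] at h1
    have h2 : Nat.card (stabilizer S x) = Nat.card ↥(S ⊓ centralizer ({(x : G)} : Set G)) := by
      rw [← card_map_of_injective (K := stabilizer S x) S.subtype_injective]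
      suffices e : (stabilizer S x).map S.subtype = S ⊓ centralizer ({(x : G)} : Set G) by rw [e]
      ext g
      simp only [mem_map, mem_inf, mem_centralizer_singleton_iff, mem_stabilizer_iff, Subtype.exists, coe_subtype]
      constructor
      · rintro ⟨a, ha, h, rfl⟩
        exact ⟨ha, mul_inv_eq_iff_eq_mul.1 (congrArg Subtype.val h)⟩
      · rintro ⟨ha, h⟩
        exact ⟨g, ha, Subtype.ext (mul_inv_eq_iff_eq_mul.2 h), rfl⟩
    obtain ⟨k, hk⟩ := IsPGroup.iff_card.1 hS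
    obtain ⟨i, hi, hi'⟩ := (Nat.dvd_prime_pow Nat.prime_two).1 (hk ▸ Dvd.intro_left _ h1)
    have hlt : 2 ^ b < 2 ^ i := by
      have h := hlong x x.2
      rw [← h2, ← h1, hi', mul_comm (Nat.card (stabilizer S x))] at h
      exact lt_of_mul_lt_mul_right h (Nat.zero_le _)
    rw [hi']
    exact Nat.pow_dvd_pow 2 ((Nat.pow_lt_pow_iff_right Nat.one_lt_two).1 hlt)
  apply hdiv
  haveI := Fintype.ofFinite (orbitRel.Quotient S X)
  rw [← Nat.card_coe_set_eq, Nat.card_congr (selfEquivSigmaOrbits S X), Nat.card_sigma]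
  exact Finset.dvd_sum fun o _ => horb _

section Model

variable [Finite G] {t : G} {T D : Subgroup G}

theorem Model.comm (hm : Model t T D) {x : G} (hx : x ∈ T) : x * t = t * x :=
  mem_centralizer_singleton_iff.1 (hm.TC hx)

theorem Model.max (hm : Model t T D) {R : Subgroup G} (hR : IsPGroup 2 R) (hRC : R ≤ centralizer ({t} : Set G))
    (hTR : T ≤ R) : R = T := by
  obtain ⟨c, -, hc⟩ := hm.sylow R hR hRC
  refine (eq_of_le_of_card_ge hTR ?_).symm
  have : Nat.card (R.map (MulAut.conj c).toMonoidHom) ≤ Nat.card T :=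
    card_le_of_le (by rintro _ ⟨x, hx, rfl⟩; exact hc x hx)
  rwa [card_map_of_injective (MulAut.conj c).injective] at this

theorem Model.mem_of_comm (hm : Model t T D) {R : Subgroup G} (hR : IsPGroup 2 R) (hTR : T ≤ R) {x : G}
    (hx : x ∈ R) (hc : x * t = t * x) : x ∈ T := by
  rw [← hm.max (hR.to_le (inf_le_left : R ⊓ centralizer ({t} : Set G) ≤ R)) inf_le_right (le_inf hTR hm.TC)]
  exact ⟨hx, mem_centralizer_singleton_iff.2 hc⟩

/-- A 2-group centralising a conjugate of `t` goes into `T`. -/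
theorem Model.exists_conj (hm : Model t T D) {x : G} (hx : IsConj t x) {R : Subgroup G} (hR : IsPGroup 2 R)
    (hRx : R ≤ centralizer ({x} : Set G)) : ∃ a : G, a * x * a⁻¹ = t ∧ ∀ r ∈ R, a * r * a⁻¹ ∈ T := by
  obtain ⟨g, hg⟩ := _root_.isConj_iff.1 hx
  obtain ⟨c, hc, hcR⟩ := hm.sylow (R.map (MulAut.conj g⁻¹).toMonoidHom) (hR.map _) (by
    rintro _ ⟨r, hr, rfl⟩
    refine mem_centralizer_singleton_iff.2 ?_
    show g⁻¹ * r * g⁻¹⁻¹ * t = t * (g⁻¹ * r * g⁻¹⁻¹)
    have h1 := mem_centralizer_singleton_iff.1 (hRx hr)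
    rw [← hg] at h1
    calc g⁻¹ * r * g⁻¹⁻¹ * t = g⁻¹ * (r * (g * t * g⁻¹)) * g := by group
      _ = g⁻¹ * ((g * t * g⁻¹) * r) * g := by rw [h1]
      _ = t * (g⁻¹ * r * g⁻¹⁻¹) := by group)
  refine ⟨c * g⁻¹, ?_, fun r hr => ?_⟩
  · rw [← hg, show c * g⁻¹ * (g * t * g⁻¹) * (c * g⁻¹)⁻¹ = c * t * c⁻¹ by group,
      mem_centralizer_singleton_iff.1 hc, mul_inv_cancel_right]
  · rw [show c * g⁻¹ * r * (c * g⁻¹)⁻¹ = c * (g⁻¹ * r * g⁻¹⁻¹) * c⁻¹ by group]
    exact hcR _ ⟨r, hr, rfl⟩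

theorem Model.card_le (hm : Model t T D) {x : G} (hx : IsConj t x) {R : Subgroup G} (hR : IsPGroup 2 R)
    (hRx : R ≤ centralizer ({x} : Set G)) : Nat.card R ≤ Nat.card T := by
  obtain ⟨a, -, ha⟩ := hm.exists_conj hx hR hRx
  rw [← card_map_of_injective (K := R) (f := (MulAut.conj a).toMonoidHom) (MulAut.conj a).injective]
  exact card_le_of_le (by rintro _ ⟨r, hr, rfl⟩; exact ha r hr)

/-- In a larger 2-group some element normalising `T` moves `t`. -/
theorem Model.exists_moving (hm : Model t T D) {S : Subgroup G} (hS : IsPGroup 2 S) (hTS : T ≤ S) (hne : T ≠ S) :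
    ∃ s ∈ S, s ∈ normalizer (T : Set G) ∧ s * t * s⁻¹ ≠ t := by
  classical
  haveI : Fact (Nat.Prime 2) := ⟨Nat.prime_two⟩
  haveI : Group.IsNilpotent S := hS.isNilpotent
  have hlt : T.subgroupOf S < ⊤ := lt_top_iff_ne_top.2 fun e => hne (le_antisymm hTS (subgroupOf_eq_top.1 e))
  obtain ⟨n, hn, hnT⟩ := SetLike.exists_of_lt (normalizerCondition_of_isNilpotent _ hlt)
  refine ⟨n, n.2, mem_normalizer_of_forall fun y hy =>
    mem_subgroupOf.1 ((Subgroup.mem_normalizer_iff.1 hn ⟨y, hTS hy⟩).1 (mem_subgroupOf.2 hy)), fun e => ?_⟩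
  exact hnT (mem_subgroupOf.2 (hm.mem_of_comm hS hTS n.2 (mul_inv_eq_iff_eq_mul.1 e)))

/-- The parity lemma for a Sylow subgroup containing `T`. -/
theorem Model.parity (hG : ∀ f : G →* ℤˣ, f = 1) (hm : Model t T D) (S : Sylow 2 G) :
    ∃ b, Nat.card ↥(S : Subgroup G) = 2 ^ b * Nat.card T ∧
      (∃ m, Odd m ∧ (conjIn t (S : Subgroup G)).ncard = 2 ^ b * m) ∧
      ∀ M : Subgroup G, M ≤ (S : Subgroup G) → M.relIndex (S : Subgroup G) = 2 →
        2 ^ (b + 1) ∣ (conjIn t (S : Subgroup G) \ (M : Set G)).ncard := by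
  haveI : Fact (Nat.Prime 2) := ⟨Nat.prime_two⟩
  obtain ⟨R, hR⟩ := hm.two.exists_le_sylow
  have hcard : Nat.card ↥(S : Subgroup G) = Nat.card ↥(R : Subgroup G) := Nat.card_congr (Sylow.equiv S R).toEquiv
  obtain ⟨a, ha⟩ := IsPGroup.iff_card.1 hm.two
  obtain ⟨c, hc⟩ := IsPGroup.iff_card.1 S.isPGroup'
  have hac : a ≤ c := by
    have := card_le_of_le hR
    rw [← hcard, ha, hc] at this
    exact (Nat.pow_le_pow_iff_right (le_refl 2)).1 this
  have hb : Nat.card ↥(S : Subgroup G) = 2 ^ (c - a) * Nat.card T := by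
    rw [hc, ha, ← pow_add]; congr 1; omega
  obtain ⟨T'⟩ : Nonempty (Sylow 2 ↥(centralizer ({t} : Set G))) := inferInstance
  exact ⟨c - a, hb, CentTwoPSL.parity hG hm.t2 T' S (by rw [hm.card T']; exact hb)⟩

end Model

/-- Index two from the cardinalities. -/
theorem relIndex_two [Finite G] {M S : Subgroup G} (hMS : M ≤ S) (h : Nat.card S = 2 * Nat.card M) :
    M.relIndex S = 2 := by
  have e := (M.subgroupOf S).card_mul_index
  rw [Nat.card_congr (subgroupOfEquivOfLe hMS).toEquiv, h, mul_comm 2] at e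
  exact Nat.eq_of_mul_eq_mul_left Nat.card_pos e

end Cfsg.Agent.Fus.CentTwoPSL
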