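import Cfsg.Agent.Lib.Fus.CentTwoPSL.Elem

/-!
# The dihedral case: the group `T = ⟨t⟩ × D`

`D` is dihedral of order at least eight with central involution `z`; if `T` is not a Sylow subgroup the
conjugates of `t` in `T` are the involutions outside `D`.
-/

set_option autoImplicit false
set_option linter.style.haveILetI false

namespace Cfsg.Agent.Fus.CentTwoPSL

open Subgroup

section Dih

variable {X : Type*} [Group X] [Finite X] {P : Subgroup X} {σ : X} {m : ℕ}

omit [Finite X] in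
theorem DihData.z_pow (h : DihData P σ m) : σ ^ 2 ^ (m - 2) = (σ ^ 2 ^ (m - 3)) * σ ^ 2 ^ (m - 3) := by
  rw [← pow_add, ← two_mul, ← pow_succ', show m - 3 + 1 = m - 2 by have := h.three; omega]

omit [Finite X] in
theorem DihData.sigma_sq_ne (h : DihData P σ m) : σ * σ ≠ 1 := fun e => by
  have h1 := orderOf_le_of_pow_eq_one (x := σ) (n := 2) (by norm_num) (by rw [pow_two]; exact e)
  rw [h.order] at h1
  have h4 : 2 ^ 2 ≤ 2 ^ (m - 1) := Nat.pow_le_pow_right two_pos (by have := h.three; omega)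
  omega

omit [Finite X] in
theorem DihData.zpowers_le (h : DihData P σ m) : zpowers σ ≤ P := Subgroup.zpowers_le.2 h.mem

omit [Finite X] in
/-- A rotation involution is `z`. -/
theorem DihData.half_mem_zpowers : σ ^ 2 ^ (m - 2) ∈ zpowers σ := pow_mem (mem_zpowers σ) _

theorem DihData.exists_reflection (h : DihData P σ m) : ∃ ρ ∈ P, ρ ∉ zpowers σ := by
  by_contra! hall
  have h1 := card_le_of_le (show P ≤ zpowers σ from hall)
  rw [h.card, Nat.card_zpowers, h.order] at h1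
  have := (Nat.pow_le_pow_iff_right (le_refl 2)).1 h1
  have := h.three
  omega

omit [Finite X] in
theorem DihData.sq_mem (h : DihData P σ m) {x : X} (hx : x ∈ P) : x * x ∈ zpowers σ := by
  rcases h.cases x hx with hp | ⟨he, -⟩
  · exact mul_mem hp hp
  · rw [he]; exact one_mem _

omit [Finite X] in
/-- A reflection times a rotation is a reflection. -/
theorem DihData.mul_reflection (h : DihData P σ m) {x ρ : X} (hx : x ∈ zpowers σ) (hρ : ρ ∈ P)
    (hn : ρ ∉ zpowers σ) : x * ρ ∈ P ∧ x * ρ ∉ zpowers σ ∧ x * ρ * (x * ρ) = 1 := by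
  have h1 := mul_mem (h.zpowers_le hx) hρ
  have h2 : x * ρ ∉ zpowers σ := fun e => hn ((mul_mem_cancel_left hx).1 e)
  exact ⟨h1, h2, ((h.cases _ h1).resolve_left h2).1⟩

omit [Finite X] in
theorem DihData.reflect_inv (h : DihData P σ m) {x ρ : X} (hx : x ∈ zpowers σ) (hρ : ρ ∈ P)
    (hn : ρ ∉ zpowers σ) : ρ * x * ρ = x⁻¹ := by
  obtain ⟨-, -, h3⟩ := h.mul_reflection hx hρ hn
  exact eq_inv_of_mul_eq_one_right (by rw [show x * (ρ * x * ρ) = x * ρ * (x * ρ) by group]; exact h3)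

theorem DihData.commute_reflection (h : DihData P σ m) {x ρ : X} (hx : x ∈ P) (hρ : ρ ∈ P)
    (hn : ρ ∉ zpowers σ) (hc : x * ρ = ρ * x) :
    x = 1 ∨ x = σ ^ 2 ^ (m - 2) ∨ x = ρ ∨ x = σ ^ 2 ^ (m - 2) * ρ := by
  have hρρ : ρ * ρ = 1 := ((h.cases ρ hρ).resolve_left hn).1
  have key : ∀ y ∈ zpowers σ, y * ρ = ρ * y → y = 1 ∨ y = σ ^ 2 ^ (m - 2) := fun y hy hyc => by
    by_cases hy1 : y = 1
    · exact Or.inl hy1
    refine Or.inr (h.eq_half hy ?_ hy1)
    rw [← inv_mul_cancel y]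
    congr 1
    rw [← h.reflect_inv hy hρ hn, ← hyc, mul_assoc, hρρ, mul_one]
  rcases h.cases x hx with hp | ⟨hxx, -⟩
  · rcases key x hp hc with e | e
    · exact Or.inl e
    · exact Or.inr (Or.inl e)
  · by_cases hp : x ∈ zpowers σ
    · rcases key x hp hc with e | e
      · exact Or.inl e
      · exact Or.inr (Or.inl e)
    have hy : x * ρ ∈ zpowers σ := by
      by_contra hy
      have h1 := ((h.cases x hx).resolve_left hp).2
      have h2 := ((h.cases ρ hρ).resolve_left hn).2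
      have h3 := ((h.cases _ (mul_mem hx hρ)).resolve_left hy).2
      have h4 : (x * ρ) * σ * (x * ρ)⁻¹ = σ := by
        rw [show x * ρ * σ * (x * ρ)⁻¹ = x * (ρ * σ * ρ⁻¹) * x⁻¹ by group, h2,
          show x * σ⁻¹ * x⁻¹ = (x * σ * x⁻¹)⁻¹ by group, h1, inv_inv]
      rw [h4] at h3
      exact h.sigma_sq_ne (eq_inv_iff_mul_eq_one.1 h3)
    rcases key _ hy (by rw [mul_assoc, hρρ, mul_one, ← mul_assoc, ← hc, mul_assoc, hρρ, mul_one]) with e | e
    · exact Or.inr (Or.inr (Or.inl (by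
        rw [eq_inv_of_mul_eq_one_left e]; exact inv_eq_of_mul_eq_one_right hρρ)))
    · exact Or.inr (Or.inr (Or.inr (by rw [← e, mul_assoc, hρρ, mul_one])))

theorem DihData.center_cases (h : DihData P σ m) {x : X} (hx : x ∈ P) (hc : ∀ y ∈ P, x * y = y * x) :
    x = 1 ∨ x = σ ^ 2 ^ (m - 2) := by
  obtain ⟨ρ, hρ, hn⟩ := h.exists_reflection
  by_cases hp : x ∈ zpowers σ
  · by_cases hx1 : x = 1
    · exact Or.inl hx1
    · refine Or.inr (h.eq_half hp ?_ hx1)
      have e := h.reflect_inv hp hρ hn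
      rw [← hc ρ hρ, mul_assoc, ((h.cases ρ hρ).resolve_left hn).1, mul_one] at e
      exact eq_inv_iff_mul_eq_one.1 e
  · exfalso
    have h2 := ((h.cases x hx).resolve_left hp).2
    rw [hc σ h.mem, mul_inv_cancel_right] at h2
    exact h.sigma_sq_ne (eq_inv_iff_mul_eq_one.1 h2)

/-- The number of square roots of one. -/
theorem DihData.card_roots (h : DihData P σ m) :
    {x : X | x ∈ P ∧ x * x = 1}.ncard = 2 + 2 ^ (m - 1) := by
  have hz1 := h.half_ne
  have hset : {x : X | x ∈ P ∧ x * x = 1} = {1, σ ^ 2 ^ (m - 2)} ∪ ((P : Set X) \ (zpowers σ : Set X)) := by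
    ext x
    constructor
    · rintro ⟨hx, hxx⟩
      by_cases hp : x ∈ zpowers σ
      · by_cases hx1 : x = 1
        · exact Or.inl (Or.inl hx1)
        · exact Or.inl (Or.inr (h.eq_half hp hxx hx1))
      · exact Or.inr ⟨hx, hp⟩
    · rintro ((rfl | rfl) | ⟨hx, hp⟩)
      · exact ⟨one_mem _, one_mul 1⟩
      · exact ⟨h.half_mem, h.half_sq⟩
      · exact ⟨hx, ((h.cases x hx).resolve_left hp).1⟩
  have hR : ((P : Set X) \ (zpowers σ : Set X)).ncard + 2 ^ (m - 1) = 2 ^ m := by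
    have h1 := Set.ncard_sdiff_add_ncard_of_subset (show (zpowers σ : Set X) ⊆ P from h.zpowers_le) (Set.toFinite _)
    have e1 : (zpowers σ : Set X).ncard = 2 ^ (m - 1) := by
      rw [← Nat.card_coe_set_eq]; exact (Nat.card_zpowers σ).trans h.order
    have e2 : (P : Set X).ncard = 2 ^ m := by rw [← Nat.card_coe_set_eq]; exact h.card
    rw [e1, e2] at h1
    exact h1
  rw [hset, Set.ncard_union_eq (by
    rw [Set.disjoint_left]
    rintro x (rfl | rfl) ⟨-, hp⟩
    · exact hp (one_mem _)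
    · exact hp DihData.half_mem_zpowers) (Set.toFinite _) (Set.toFinite _), Set.ncard_pair hz1.symm]
  have : 2 ^ m = 2 ^ (m - 1) * 2 := by rw [← pow_succ, Nat.sub_add_cancel (by have := h.three; omega)]
  omega

end Dih

variable {G : Type*} [Group G] [Finite G] {t : G} {T D : Subgroup G} {σ : G} {m : ℕ}

theorem Model.t_mul (hm : Model t T D) {x : G} (hx : x ∈ T) : t * x = x * t := (hm.comm hx).symm

theorem Model.mem_cases (hm : Model t T D) {x : G} (hx : x ∈ T) : ∃ d ∈ D, x = d ∨ x = d * t := by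
  rcases hm.split x hx with h | h
  · exact ⟨x, h, Or.inl rfl⟩
  · exact ⟨x * t, h, Or.inr (by rw [mul_assoc, hm.t2, mul_one])⟩

theorem Model.sq_mem (hm : Model t T D) (hd : DihData D σ m) {x : G} (hx : x ∈ T) : x * x ∈ zpowers σ := by
  obtain ⟨d, hdD, rfl | rfl⟩ := hm.mem_cases hx
  · exact hd.sq_mem hdD
  · rw [show d * t * (d * t) = d * (t * d) * t by group, hm.t_mul (hm.DT hdD),
      show d * (d * t) * t = d * d * (t * t) by group, hm.t2, mul_one]
    exact hd.sq_mem hdD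

theorem Model.center_cases (hm : Model t T D) (hd : DihData D σ m) {x : G} (hx : x ∈ T)
    (hc : ∀ y ∈ T, x * y = y * x) :
    x = 1 ∨ x = t ∨ x = σ ^ 2 ^ (m - 2) ∨ x = σ ^ 2 ^ (m - 2) * t := by
  obtain ⟨d, hdD, hcase⟩ := hm.mem_cases hx
  have hdc : ∀ y ∈ D, d * y = y * d := fun y hy => by
    rcases hcase with rfl | rfl
    · exact hc y (hm.DT hy)
    · have h1 := hc y (hm.DT hy)
      rw [mul_assoc, hm.t_mul (hm.DT hy), ← mul_assoc, ← mul_assoc] at h1
      exact mul_right_cancel h1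
  rcases hd.center_cases hdD hdc with e | e <;> rw [e] at hcase <;> rcases hcase with e' | e' <;> rw [e']
  · exact Or.inl rfl
  · exact Or.inr (Or.inl (one_mul t))
  · exact Or.inr (Or.inr (Or.inl rfl))
  · exact Or.inr (Or.inr (Or.inr rfl))

theorem Model.sq_dt (hm : Model t T D) {d : G} (hd : d ∈ D) : d * t * (d * t) = d * d := by
  rw [show d * t * (d * t) = d * (t * d) * t by group, hm.t_mul (hm.DT hd),
    show d * (d * t) * t = d * d * (t * t) by group, hm.t2, mul_one]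

theorem Model.conj_tD (hm : Model t T D) {a b : G} (ha : a ∈ D) (hb : b ∈ D) (ha2 : a * a = 1) (ha1 : a ≠ 1)
    (hb2 : b * b = 1) (hb1 : b ≠ 1) : IsConj a b ∧ IsConj (a * t) (b * t) := by
  obtain ⟨c, hct, hc⟩ := hm.conjD a ha b hb ha2 ha1 hb2 hb1
  refine ⟨_root_.isConj_iff.2 ⟨c, hc⟩, _root_.isConj_iff.2 ⟨c, ?_⟩⟩
  rw [← hc, show c * (a * t) * c⁻¹ = c * a * c⁻¹ * (c * t) * c⁻¹ by group, hct, mul_assoc, mul_inv_cancel_right]

/-- The fusion of `t` inside `T` when `T` is not a Sylow subgroup. -/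
structure Fused (t : G) (T D : Subgroup G) : Prop where
  notK : ∀ a ∈ D, ¬ IsConj t a
  inK : ∀ a ∈ D, a * a = 1 → IsConj t (a * t)
  sqK : ∀ {x : G}, IsConj t x → x * x = 1

theorem Fused.conj_iff (hf : Fused t T D) (hm : Model t T D) {x : G} (hx : x ∈ T) :
    IsConj t x ↔ x * x = 1 ∧ x ∉ D := by
  refine ⟨fun h => ⟨hf.sqK h, fun h' => hf.notK x h' h⟩, fun ⟨h2, hD⟩ => ?_⟩
  have h := (hm.split x hx).resolve_left hD
  have := hf.inK _ h (by rw [show x * t * (x * t) = x * (t * x) * t by group, hm.t_mul hx,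
    show x * (x * t) * t = x * x * (t * t) by group, hm.t2, mul_one, h2])
  rwa [mul_assoc, hm.t2, mul_one] at this

theorem exists_fused (hm : Model t T D) (hd : DihData D σ m) {S : Subgroup G} (hS : IsPGroup 2 S)
    (hTS : T ≤ S) (hne : T ≠ S) : Fused t T D := by
  classical
  have hsqK : ∀ {x : G}, IsConj t x → x * x = 1 := fun {x} hx => by
    obtain ⟨c, rfl⟩ := _root_.isConj_iff.1 hx
    exact conj_sq hm.t2
  obtain ⟨s, hsS, hsT, hst⟩ := hm.exists_moving hS hTS hne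
  set z := σ ^ 2 ^ (m - 2) with hz
  have hzT : z ∈ T := hm.DT hd.half_mem
  have hzc : ∀ y ∈ T, y * z = z * y := fun y hy => by
    obtain ⟨d, hdD, rfl | rfl⟩ := hm.mem_cases hy
    · exact hd.half_comm hdD
    · rw [mul_assoc, hm.t_mul hzT, ← mul_assoc, hd.half_comm hdD, mul_assoc]
  have hTc : ∀ w ∈ T, (∀ y ∈ T, w * y = y * w) → ∀ y ∈ T, s * w * s⁻¹ * y = y * (s * w * s⁻¹) := by
    intro w hw hwc y hy
    have hy' : s⁻¹ * y * s⁻¹⁻¹ ∈ T := conj_mem_of_normalizer (inv_mem hsT) hy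
    have h := hwc _ hy'
    calc s * w * s⁻¹ * y = s * (w * (s⁻¹ * y * s⁻¹⁻¹)) * s⁻¹ := by group
      _ = s * ((s⁻¹ * y * s⁻¹⁻¹) * w) * s⁻¹ := by rw [h]
      _ = y * (s * w * s⁻¹) := by group
  -- `z` is fixed
  have hsz : s * z * s⁻¹ = z := by
    set f := σ ^ 2 ^ (m - 3)
    have hw : s * z * s⁻¹ ∈ zpowers σ := by
      rw [hz, hd.z_pow, show s * (f * f) * s⁻¹ = (s * f * s⁻¹) * (s * f * s⁻¹) by group]
      exact hm.sq_mem hd (conj_mem_of_normalizer hsT (hm.DT (pow_mem hd.mem _)))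
    exact hd.eq_half hw (conj_sq hd.half_sq) fun e => hd.half_ne (conj_eq_one_iff.1 e)
  have hst' : s * t * s⁻¹ = z * t := by
    have hmem := conj_mem_of_normalizer hsT hm.tT
    rcases hm.center_cases hd hmem (hTc t hm.tT fun y hy => hm.t_mul hy) with e | e | e | e
    · exact absurd (conj_eq_one_iff.1 e) hm.t1
    · exact absurd e hst
    · exfalso
      refine hm.tD ?_
      have : t = z := mul_left_cancel (mul_right_cancel (e.trans hsz.symm))
      rw [this]; exact hd.half_mem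
    · exact e
  have hzK : ¬ IsConj t z := fun hK => by
    have hR : IsPGroup 2 (T ⊔ zpowers s : Subgroup G) := hS.to_le (sup_le hTS (Subgroup.zpowers_le.2 hsS))
    have h1 := hm.card_le hK hR (sup_le (fun y hy => mem_centralizer_singleton_iff.2 (hzc y hy))
      (Subgroup.zpowers_le.2 (mem_centralizer_singleton_iff.2 (mul_inv_eq_iff_eq_mul.1 hsz))))
    have h2 : T = T ⊔ zpowers s := eq_of_le_of_card_ge le_sup_left h1
    exact hst (by rw [hm.comm (h2 ▸ mem_sup_right (mem_zpowers s)), mul_inv_cancel_right])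
  have hztK : IsConj t (z * t) := _root_.isConj_iff.2 ⟨s, hst'⟩
  refine ⟨fun a ha hK => ?_, fun a ha ha2 => ?_, hsqK⟩
  · have ha1 : a ≠ 1 := fun e => by
      obtain ⟨c, hc⟩ := _root_.isConj_iff.1 (e ▸ hK)
      exact hm.t1 (conj_eq_one_iff.1 hc)
    exact hzK (hK.trans (hm.conj_tD ha hd.half_mem (hsqK hK) ha1 hd.half_sq hd.half_ne).1)
  · by_cases ha1 : a = 1
    · rw [ha1, one_mul]
    · exact hztK.trans (hm.conj_tD hd.half_mem ha hd.half_sq hd.half_ne ha2 ha1).2

/-- Whatever normalises `T` normalises `D`. -/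
theorem Fused.normalizer_le (hf : Fused t T D) (hm : Model t T D) (hd : DihData D σ m) :
    normalizer (T : Set G) ≤ normalizer (D : Set G) := fun n hn => by
  have key : ∀ w ∈ D, w ∉ zpowers σ → n * w * n⁻¹ ∈ D := fun w hw hwn => by
    by_contra hD
    exact hf.notK w hw (((hf.conj_iff hm (conj_mem_of_normalizer hn (hm.DT hw))).2
      ⟨conj_sq ((hd.cases w hw).resolve_left hwn).1, hD⟩).trans (IsConj.symm (_root_.isConj_iff.2 ⟨n, rfl⟩)))
  refine mem_normalizer_of_forall fun d hdD => ?_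
  by_cases hdn : d ∈ zpowers σ
  · obtain ⟨ρ, hρ, hρn⟩ := hd.exists_reflection
    obtain ⟨h1, h2, -⟩ := hd.mul_reflection hdn hρ hρn
    have h := mul_mem (key _ h1 h2) (key ρ hρ hρn)
    rwa [show n * (d * ρ) * n⁻¹ * (n * ρ * n⁻¹) = n * (d * (ρ * ρ)) * n⁻¹ by group,
      ((hd.cases ρ hρ).resolve_left hρn).1, mul_one] at h
  · exact key d hdD hdn

/-- The number of conjugates of `t` in `T`. -/
theorem Fused.card_conjIn (hf : Fused t T D) (hm : Model t T D) (hd : DihData D σ m) :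
    (conjIn t T).ncard = 2 + 2 ^ (m - 1) := by
  rw [← hd.card_roots, ← Set.ncard_image_of_injective {x : G | x ∈ D ∧ x * x = 1} (mul_left_injective t)]
  congr 1
  ext x
  constructor
  · rintro ⟨hK, hx⟩
    obtain ⟨h2, hD⟩ := (hf.conj_iff hm hx).1 hK
    refine ⟨x * t, ⟨(hm.split x hx).resolve_left hD, ?_⟩, by show x * t * t = x; rw [mul_assoc, hm.t2, mul_one]⟩
    rw [show x * t * (x * t) = x * (t * x) * t by group, hm.t_mul hx,
      show x * (x * t) * t = x * x * (t * t) by group, hm.t2, mul_one, h2]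
  · rintro ⟨d, ⟨hdD, hd2⟩, rfl⟩
    exact ⟨hf.inK d hdD hd2, mul_mem (hm.DT hdD) hm.tT⟩

/-- The rules for two commuting conjugates. -/
theorem Fused.mul_not (hf : Fused t T D) (hm : Model t T D) {a b : G} (ha : IsConj t a) (hb : IsConj t b)
    (hc : b * a = a * b) : ¬ IsConj t (a * b) := by
  have hb2 := hf.sqK hb
  have hR : IsPGroup 2 (zpowers b) := fun ⟨y, hy⟩ => ⟨1, Subtype.ext (by
    obtain ⟨i, hi⟩ := mem_zpowers_iff.1 hy
    show y ^ 2 ^ 1 = 1
    rw [pow_one, ← hi, ← zpow_natCast, zpow_comm, zpow_natCast, pow_two, hb2, one_zpow])⟩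
  obtain ⟨c, hca, hcb⟩ := hm.exists_conj ha hR (Subgroup.zpowers_le.2 (mem_centralizer_singleton_iff.2 hc))
  have hb' := hcb b (mem_zpowers b)
  have hbK : IsConj t (c * b * c⁻¹) := hb.trans (_root_.isConj_iff.2 ⟨c, rfl⟩)
  have hD := (hm.split _ hb').resolve_left fun h => hf.notK _ h hbK
  intro hK
  refine hf.notK _ hD (?_ : IsConj t (c * b * c⁻¹ * t))
  rw [← hm.t_mul hb']
  have h1 : IsConj t (c * (a * b) * c⁻¹) := hK.trans (_root_.isConj_iff.2 ⟨c, rfl⟩)
  rwa [show c * (a * b) * c⁻¹ = c * a * c⁻¹ * (c * b * c⁻¹) by group, hca] at h1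

theorem Fused.mul_conj (hf : Fused t T D) (hm : Model t T D) {a j : G} (ha : IsConj t a) (hj : j * j = 1)
    (hjK : ¬ IsConj t j) (hc : j * a = a * j) : IsConj t (a * j) := by
  have hR : IsPGroup 2 (zpowers j) := fun ⟨y, hy⟩ => ⟨1, Subtype.ext (by
    obtain ⟨i, hi⟩ := mem_zpowers_iff.1 hy
    show y ^ 2 ^ 1 = 1
    rw [pow_one, ← hi, ← zpow_natCast, zpow_comm, zpow_natCast, pow_two, hj, one_zpow])⟩
  obtain ⟨c, hca, hcj⟩ := hm.exists_conj ha hR (Subgroup.zpowers_le.2 (mem_centralizer_singleton_iff.2 hc))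
  have hj' := hcj j (mem_zpowers j)
  have hD : c * j * c⁻¹ ∈ D := by
    by_contra hD
    exact hjK (((hf.conj_iff hm hj').2 ⟨conj_sq hj, hD⟩).trans (IsConj.symm (_root_.isConj_iff.2 ⟨c, rfl⟩)))
  have h1 := hf.inK _ hD (conj_sq hj)
  rw [← hm.t_mul hj', ← hca, show c * a * c⁻¹ * (c * j * c⁻¹) = c * (a * j) * c⁻¹ by group, hca] at h1
  exact h1.trans (IsConj.symm (_root_.isConj_iff.2 ⟨c, rfl⟩))

end Cfsg.Agent.Fus.CentTwoPSL
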