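import Cfsg.Agent.Lib.Fus.CentTwoPSL.DihFour
import Cfsg.Agent.Lib.Fus.CentTwoPSL.Act
import Cfsg.Agent.Lib.Grp.Frattini

/-!
# The dihedral case with `|S : T| ≥ 4`: the final count

An involution outside the maximal turned subgroup `P` moves the four group, so there are too few of them.
-/

set_option autoImplicit false
set_option linter.style.haveILetI false

namespace Cfsg.Agent.Fus.CentTwoPSL

open Subgroup MulAction

variable {G : Type*} [Group G] [Finite G] {t : G} {T D : Subgroup G} {σ : G} {m : ℕ}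

theorem dih_big (hG : ∀ f : G →* ℤˣ, f = 1) (hm : Model t T D) (hd : DihData D σ m)
    (hfours : ∀ τ ∈ D, τ ∉ zpowers σ →
      ∃ g, g * t = t * g ∧ g * σ ^ 2 ^ (m - 2) * g⁻¹ = τ ∧ g * τ * g⁻¹ = σ ^ 2 ^ (m - 2) * τ)
    {S : Sylow 2 G} {U : Subgroup G} (hF : FourIn t T D σ m S U)
    (hS4 : 4 * Nat.card T ≤ Nat.card ↥(S : Subgroup G)) : False := by
  classical
  haveI : Fact (Nat.Prime 2) := ⟨Nat.prime_two⟩
  have hTpos : 0 < Nat.card T := Nat.card_pos
  have hne : T ≠ (S : Subgroup G) := fun e => by rw [← e] at hS4; omega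
  have hf := exists_fused hm hd S.isPGroup' hF.TS hne
  have hD8 : Nat.card D = 8 := by rw [hd.card, hF.three]; norm_num
  have hT16 : Nat.card T = 16 := by rw [hm.card_eq, hD8]
  set z := σ ^ 2 ^ (m - 2) with hz
  have hzU : z ∈ U := hF.half
  have hzz : z * z = 1 := hd.half_sq
  have hz1 : z ≠ 1 := hd.half_ne
  -- four groups of `D`
  have hfourD : ∀ V : Subgroup G, V ≤ D → Nat.card V = 4 → (∀ v ∈ V, v * v = 1) →
      ∀ x ∈ D, (∀ v ∈ V, x * v = v * x) → x ∈ V := by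
    intro V hVD hV4 hV2 x hx hxV
    obtain ⟨w, hw, hwn⟩ : ∃ w ∈ V, w ∉ zpowers σ := by
      by_contra! hall
      have hsub : (V : Set G) ⊆ {1, z} := fun w hw => by
        by_cases hw1 : w = 1
        · exact Or.inl hw1
        · exact Or.inr (hd.eq_half (hall w hw) (hV2 w hw) hw1)
      have h1 := Set.ncard_le_ncard hsub (Set.toFinite _)
      rw [Set.ncard_pair hz1.symm, ← Nat.card_coe_set_eq] at h1
      have e : Nat.card ↥(V : Set G) = 4 := hV4
      omega
    have hsub : (V : Set G) ⊆ {1, z, w, z * w} := fun v hv => by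
      have hc : v * w = w * v := by
        rw [← inv_eq_of_mul_eq_one_right (hV2 _ (mul_mem hv hw)), mul_inv_rev, inv_eq_of_mul_eq_one_right (hV2 v hv),
          inv_eq_of_mul_eq_one_right (hV2 w hw)]
      simpa [Set.mem_insert_iff, Set.mem_singleton_iff] using hd.commute_reflection (hVD hv) (hVD hw) hwn hc
    have e := Set.eq_of_subset_of_ncard_le hsub (by
      have e : (V : Set G).ncard = 4 := by rw [← Nat.card_coe_set_eq]; exact hV4
      rw [e]
      refine (Set.ncard_insert_le _ _).trans (Nat.succ_le_succ ((Set.ncard_insert_le _ _).trans ?_))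
      refine Nat.succ_le_succ ((Set.ncard_insert_le _ _).trans ?_)
      rw [Set.ncard_singleton])
    have hx' : x ∈ ({1, z, w, z * w} : Set G) := by
      simpa [Set.mem_insert_iff, Set.mem_singleton_iff] using
        hd.commute_reflection hx (hVD hw) hwn (hxV w hw)
    exact (e.ge hx' : x ∈ (V : Set G))
  -- the generators of `U`
  obtain ⟨ρ, hρU, hρn⟩ : ∃ w ∈ U, w ∉ zpowers σ := by
    by_contra! hall
    have hsub : (U : Set G) ⊆ {1, z} := fun w hw => by
      by_cases hw1 : w = 1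
      · exact Or.inl hw1
      · exact Or.inr (hd.eq_half (hall w hw) (hF.sq w hw) hw1)
    have h1 := Set.ncard_le_ncard hsub (Set.toFinite _)
    rw [Set.ncard_pair hz1.symm, ← Nat.card_coe_set_eq] at h1
    have e : Nat.card ↥(U : Set G) = 4 := hF.card
    omega
  have hρD : ρ ∈ D := hF.UD hρU
  have hρz : ρ * z = z * ρ := hd.half_comm hρD
  have hρρ : ρ * ρ = 1 := hF.sq ρ hρU
  have hzρn : z ≠ ρ := fun h => hρn (h ▸ DihData.half_mem_zpowers)
  have hUcases : ∀ u ∈ U, u = 1 ∨ u = z ∨ u = ρ ∨ u = z * ρ := fun u hu => by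
    refine hd.commute_reflection (hF.UD hu) hρD hρn ?_
    rw [← inv_eq_of_mul_eq_one_right (hF.sq _ (mul_mem hu hρU)), mul_inv_rev, inv_eq_of_mul_eq_one_right (hF.sq u hu),
      inv_eq_of_mul_eq_one_right hρρ]
  obtain ⟨g, hgt, hg1, hg2⟩ := hfours ρ hρD hρn
  have hg3 : g * (z * ρ) * g⁻¹ = z := by
    rw [show g * (z * ρ) * g⁻¹ = (g * z * g⁻¹) * (g * ρ * g⁻¹) by group, hg1, hg2, ← mul_assoc, hρz, mul_assoc,
      hρρ, mul_one]
  have hgU : g ∈ normalizer (U : Set G) := mem_normalizer_of_forall fun u hu => by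
    rcases hUcases u hu with e | e | e | e <;> rw [e]
    · rw [mul_one, mul_inv_cancel]; exact one_mem _
    · rw [hg1]; exact hρU
    · rw [hg2]; exact mul_mem hzU hρU
    · rw [hg3]; exact hzU
  have htrans : ∀ v ∈ U, v ≠ 1 → ∀ w ∈ U, w ≠ 1 → ∃ j : ℕ, g ^ j * v * (g ^ j)⁻¹ = w := by
    have p0 : ∀ v, g ^ 0 * v * (g ^ 0)⁻¹ = v := fun v => by simp
    have p1 : ∀ v, g ^ 1 * v * (g ^ 1)⁻¹ = g * v * g⁻¹ := fun v => by rw [pow_one]
    have p2 : ∀ v, g ^ 2 * v * (g ^ 2)⁻¹ = g * (g * v * g⁻¹) * g⁻¹ := fun v => by rw [pow_two]; group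
    have qa : g ^ 2 * z * (g ^ 2)⁻¹ = z * ρ := by rw [p2, hg1, hg2]
    have qb : g ^ 2 * ρ * (g ^ 2)⁻¹ = z := by rw [p2, hg2, hg3]
    have qc : g ^ 2 * (z * ρ) * (g ^ 2)⁻¹ = ρ := by rw [p2, hg3, hg1]
    intro v hv hv1 w hw hw1
    rcases hUcases v hv with e | e | e | e
    · exact absurd e hv1
    all_goals rcases hUcases w hw with e' | e' | e' | e' <;> rw [e, e']
    all_goals first
      | exact absurd e' hw1
      | exact ⟨0, p0 _⟩
      | exact ⟨1, (p1 _).trans hg1⟩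
      | exact ⟨1, (p1 _).trans hg2⟩
      | exact ⟨1, (p1 _).trans hg3⟩
      | exact ⟨2, qa⟩
      | exact ⟨2, qb⟩
      | exact ⟨2, qc⟩
  -- images of `U` in `T` lie in `D`
  have hUK : ∀ u ∈ U, ¬ IsConj t u := fun u hu => hf.notK u (hF.UD hu)
  have himD : ∀ a : G, (∀ u ∈ U, a * u * a⁻¹ ∈ T) → ∀ u ∈ U, a * u * a⁻¹ ∈ D := by
    intro a ha u hu
    by_contra hD
    exact hUK u hu (((hf.conj_iff hm (ha u hu)).2 ⟨conj_sq (hF.sq u hu), hD⟩).trans
      (IsConj.symm (_root_.isConj_iff.2 ⟨a, rfl⟩)))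
  have hbase : Base t U :=
    { t2 := hm.t2
      tV := fun h => hm.tD (hF.UD h)
      comm := fun v hv => hm.comm (hm.DT (hF.UD hv))
      abel := fun v hv w hw => by
        rw [← inv_eq_of_mul_eq_one_right (hF.sq _ (mul_mem hv hw)), mul_inv_rev,
          inv_eq_of_mul_eq_one_right (hF.sq v hv), inv_eq_of_mul_eq_one_right (hF.sq w hw)]
      elem := hF.sq
      big := hF.card.ge
      apart := hUK
      bound := fun x hxK hxU R hR hRU hRx => by
        have hR1 : IsPGroup 2 (R ⊔ U : Subgroup G) :=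
          hR.to_sup_of_normal_right' (hm.two.to_le (hF.UD.trans hm.DT))
            (hRU.trans (centralizer_le_normalizer _))
        obtain ⟨a, -, ha⟩ := hm.exists_conj hxK hR1 (sup_le hRx fun u hu =>
          mem_centralizer_singleton_iff.2 (mem_centralizer_iff.1 hxU u hu))
        have hUa := himD a fun u hu => ha u (mem_sup_right hu)
        set V := U.map (MulAut.conj a).toMonoidHom with hV
        have hVD : V ≤ D := by rintro _ ⟨u, hu, rfl⟩; exact hUa u hu
        have hV4 : Nat.card V = 4 := (card_map_of_injective (MulAut.conj a).injective).trans hF.card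
        have hV2 : ∀ v ∈ V, v * v = 1 := by rintro _ ⟨u, hu, rfl⟩; exact conj_sq (hF.sq u hu)
        have hsub : (R.map (MulAut.conj a).toMonoidHom : Set G) ⊆ (V : Set G) ∪ (fun v => v * t) '' (V : Set G) := by
          rintro _ ⟨r, hr, rfl⟩
          have hrT : a * r * a⁻¹ ∈ T := ha r (mem_sup_left hr)
          obtain ⟨e, heD, hcase⟩ := hm.mem_cases hrT
          have hev : e ∈ V := hfourD V hVD hV4 hV2 e heD fun v hv => by
            have hc : (a * r * a⁻¹) * v = v * (a * r * a⁻¹) := by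
              obtain ⟨u, hu, rfl⟩ := hv
              show a * r * a⁻¹ * (a * u * a⁻¹) = a * u * a⁻¹ * (a * r * a⁻¹)
              rw [show a * r * a⁻¹ * (a * u * a⁻¹) = a * (r * u) * a⁻¹ by group,
                ← mem_centralizer_iff.1 (hRU hr) u hu]
              group
            rcases hcase with e' | e' <;> rw [e'] at hc
            · exact hc
            · rw [mul_assoc, hm.t_mul (hm.DT (hVD hv)), ← mul_assoc, ← mul_assoc] at hc
              exact mul_right_cancel hc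
          rcases hcase with e' | e'
          · exact Or.inl (show a * r * a⁻¹ ∈ V from e'.symm ▸ hev)
          · exact Or.inr ⟨e, hev, e'.symm⟩
        have h1 := (Set.ncard_le_ncard hsub (Set.toFinite _)).trans (Set.ncard_union_le _ _)
        rw [Set.ncard_image_of_injective _ (mul_left_injective t)] at h1
        have e1 : (V : Set G).ncard = 4 := by rw [← Nat.card_coe_set_eq]; exact hV4
        have e2 : (R.map (MulAut.conj a).toMonoidHom : Set G).ncard = Nat.card R := by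
          rw [← Nat.card_coe_set_eq]; exact card_map_of_injective (MulAut.conj a).injective
        rw [e1, e2] at h1
        rw [hF.card]; exact h1 }
  -- the maximal turned subgroup
  set X := centralizer (U : Set G) with hX
  set P₀ := T ⊓ X with hP₀
  have htX : t ∈ X := mem_centralizer_iff.2 fun u hu => hbase.comm u hu
  have hUX : U ≤ X := fun u hu => mem_centralizer_iff.2 fun v hv => hbase.abel v hv u hu
  have hUP₀ : U ≤ P₀ := le_inf (hF.UD.trans hm.DT) hUX
  have htP₀ : t ∈ P₀ := ⟨hm.tT, htX⟩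
  have hP₀2 : IsPGroup 2 P₀ := hm.two.to_le inf_le_left
  have hP₀cases : ∀ x ∈ P₀, x ∈ U ∨ x * t ∈ U := fun x hx =>
    hbase.cent hP₀2 htP₀ hUP₀ inf_le_right hx (hm.comm hx.1)
  have hnormP₀ : ∀ n : G, n * t = t * n → n ∈ normalizer (U : Set G) → n ∈ normalizer (P₀ : Set G) := fun n hnt hnU =>
    mem_normalizer_of_forall fun x hx => by
      rcases hP₀cases x hx with h | h
      · exact hUP₀ (conj_mem_of_normalizer hnU h)
      · have h1 := mul_mem (hUP₀ (conj_mem_of_normalizer hnU h)) htP₀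
        rwa [show n * (x * t) * n⁻¹ * t = n * x * (t * n⁻¹) * t by group,
          show t * n⁻¹ = n⁻¹ * t by
            rw [eq_inv_mul_iff_mul_eq, ← mul_assoc, hnt, mul_inv_cancel_right],
          show n * x * (n⁻¹ * t) * t = n * x * n⁻¹ * (t * t) by group, hm.t2, mul_one] at h1
  obtain ⟨P, g', Q, W, htop⟩ := hbase.exists_top hP₀2 htP₀ hUP₀ inf_le_right
    ⟨hgt, hgU, hnormP₀ g hgt hgU, htrans⟩
  have hP₀P : P₀ ≤ P := fun x hx => by
    rcases hP₀cases x hx with h | h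
    · exact htop.VP h
    · have := mul_mem (htop.VP h) htop.tP
      rwa [mul_assoc, hm.t2, mul_one] at this
  have hXn : ∀ n ∈ normalizer (U : Set G), ∀ x ∈ X, n * x * n⁻¹ ∈ X := fun n hn x hx =>
    mem_centralizer_iff.2 fun u hu => by
      have h := mem_centralizer_iff.1 hx _ (conj_mem_of_normalizer ((normalizer (U : Set G)).inv_mem hn) hu)
      calc u * (n * x * n⁻¹) = n * (n⁻¹ * u * n⁻¹⁻¹ * x) * n⁻¹ := by group
        _ = n * (x * (n⁻¹ * u * n⁻¹⁻¹)) * n⁻¹ := by rw [h]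
        _ = n * x * n⁻¹ * u := by group
  have hinto : ∀ R : Subgroup G, IsPGroup 2 R → R ≤ X → ∃ c ∈ X, ∀ x ∈ R, c * x * c⁻¹ ∈ P := by
    intro R hR hRX
    obtain ⟨SP, hSP⟩ := (htop.two.of_equiv (subgroupOfEquivOfLe htop.PX).symm).exists_le_sylow
    have hSPeq : (SP : Subgroup ↥X).map X.subtype = P :=
      htop.maximal _ (SP.isPGroup'.map _) (map_subtype_le _) fun x hx => ⟨⟨x, htop.PX hx⟩, hSP hx, rfl⟩
    obtain ⟨R₁, hR₁⟩ := (hR.of_equiv (subgroupOfEquivOfLe hRX).symm).exists_le_sylow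
    obtain ⟨c, hc⟩ := MulAction.exists_smul_eq ↥X R₁ SP
    refine ⟨c, c.2, fun x hx => ?_⟩
    rw [← hSPeq]
    refine ⟨c * ⟨x, hRX hx⟩ * c⁻¹, ?_, rfl⟩
    show c * ⟨x, hRX hx⟩ * c⁻¹ ∈ (SP : Subgroup ↥X)
    rw [← hc, Sylow.coe_subgroup_smul]
    exact ⟨_, hR₁ (mem_subgroupOf.2 hx), rfl⟩
  -- an element of `T` moving `ρ`, pushed into the normaliser of `P`
  obtain ⟨w₂, hw₂D, hw₂2, hw₂U⟩ : ∃ w ∈ D, w * w = 1 ∧ w ∉ U := by
    by_contra! hall
    have h1 := Set.ncard_le_ncard (s := {x : G | x ∈ D ∧ x * x = 1}) (t := (U : Set G))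
      (fun x hx => hall x hx.1 hx.2) (Set.toFinite _)
    have e : (U : Set G).ncard = 4 := by rw [← Nat.card_coe_set_eq]; exact hF.card
    rw [hd.card_roots, e, hF.three] at h1
    norm_num at h1
  have hw₂N : w₂ ∈ normalizer (U : Set G) := hF.norm (hF.TS (hm.DT hw₂D))
  have hw₂X : w₂ ∉ X := fun h => hw₂U (hfourD U hF.UD hF.card hF.sq w₂ hw₂D fun v hv =>
    (mem_centralizer_iff.1 h v hv).symm)
  obtain ⟨c, hcX, hc⟩ := hinto (P.map (MulAut.conj w₂).toMonoidHom) (htop.two.map _)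
    (by rintro _ ⟨x, hx, rfl⟩; exact hXn w₂ hw₂N x (htop.PX hx))
  set k := c * w₂ with hk
  have hcN : c ∈ normalizer (U : Set G) := centralizer_le_normalizer _ hcX
  have hkU : k ∈ normalizer (U : Set G) := mul_mem hcN hw₂N
  have hkP : k ∈ normalizer (P : Set G) := mem_normalizer_of_forall fun x hx => by
    rw [hk, show c * w₂ * x * (c * w₂)⁻¹ = c * (w₂ * x * w₂⁻¹) * c⁻¹ by group]
    exact hc _ ⟨x, hx, rfl⟩
  obtain ⟨x₁, hx₁, hx₁t⟩ := htop.toDat.exists_mul hbase (htop.fix_four hbase hF.card hkU hkP)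
  set y := x₁ * k with hy
  have hx₁U : x₁ ∈ normalizer (U : Set G) := centralizer_le_normalizer _ (htop.PX hx₁)
  have hyU : y ∈ normalizer (U : Set G) := mul_mem hx₁U hkU
  have hyP : y ∈ normalizer (P : Set G) := mul_mem (le_normalizer hx₁) hkP
  have hact : ∀ n ∈ X, ∀ u ∈ U, n * u * n⁻¹ = u := fun n hn u hu => by
    rw [← mem_centralizer_iff.1 hn u hu, mul_inv_cancel_right]
  have hyw : ∀ u ∈ U, y * u * y⁻¹ = w₂ * u * w₂⁻¹ := fun u hu => by
    have h1 : w₂ * u * w₂⁻¹ ∈ U := conj_mem_of_normalizer hw₂N hu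
    rw [hy, hk, show x₁ * (c * w₂) * u * (x₁ * (c * w₂))⁻¹ = x₁ * (c * (w₂ * u * w₂⁻¹) * c⁻¹) * x₁⁻¹ by group,
      hact c hcX _ h1, hact x₁ (htop.PX hx₁) _ h1]
  have hyz : y * z * y⁻¹ = z := by rw [hyw z hzU, hd.half_comm hw₂D, mul_inv_cancel_right]
  have hyρ : y * ρ * y⁻¹ = z * ρ := by
    rcases hUcases _ (conj_mem_of_normalizer hyU hρU) with e | e | e | e
    · exact absurd (conj_eq_one_iff.1 e) (fun h => hρn (h ▸ one_mem _))
    · exact absurd (mul_left_cancel (mul_right_cancel (e.trans hyz.symm))) hzρn.symm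
    · refine absurd ?_ hw₂X
      rw [hyw ρ hρU] at e
      refine mem_centralizer_iff.2 fun u hu => ?_
      have hc1 : w₂ * z = z * w₂ := hd.half_comm hw₂D
      have hc2 : w₂ * ρ = ρ * w₂ := mul_inv_eq_iff_eq_mul.1 e
      rcases hUcases u hu with rfl | rfl | rfl | rfl
      · rw [one_mul, mul_one]
      · exact hc1.symm
      · exact hc2.symm
      · rw [mul_assoc, ← hc2, ← mul_assoc, ← hc1, mul_assoc]
    · exact e
  have hyρ' : y * (z * ρ) * y⁻¹ = ρ := by
    rw [show y * (z * ρ) * y⁻¹ = (y * z * y⁻¹) * (y * ρ * y⁻¹) by group, hyz, hyρ, ← mul_assoc, hzz, one_mul]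
  obtain ⟨e₂, o, ho, heo⟩ := Nat.exists_eq_two_pow_mul_odd (orderOf_pos y).ne'
  set y₂ := y ^ o with hy₂
  have hy₂2 : IsPGroup 2 (zpowers y₂) := IsPGroup.of_card (n := e₂) (by
    rw [Nat.card_zpowers, hy₂, orderOf_pow_of_dvd ho.pos.ne' (heo ▸ Dvd.intro_left _ rfl), heo,
      Nat.mul_div_cancel _ ho.pos])
  have hy₂t : y₂ * t = t * y₂ := (Commute.pow_left hx₁t o : Commute (y ^ o) t)
  have hy₂U : y₂ ∈ normalizer (U : Set G) := pow_mem hyU o
  have hy₂P : y₂ ∈ normalizer (P : Set G) := pow_mem hyP o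
  have hy₂z : y₂ * z * y₂⁻¹ = z := by
    have : Commute y z := mul_inv_eq_iff_eq_mul.1 hyz
    rw [(this.pow_left o).eq, mul_inv_cancel_right]
  have hy₂ρ : y₂ * ρ * y₂⁻¹ = z * ρ := by
    obtain ⟨l, hl⟩ := ho
    have h2 : Commute (y * y) ρ := mul_inv_eq_iff_eq_mul.1 (by
      rw [show y * y * ρ * (y * y)⁻¹ = y * (y * ρ * y⁻¹) * y⁻¹ by group, hyρ, hyρ'])
    rw [hy₂, hl, pow_succ', pow_mul, pow_two,
      show y * (y * y) ^ l * ρ * (y * (y * y) ^ l)⁻¹ = y * ((y * y) ^ l * ρ * ((y * y) ^ l)⁻¹) * y⁻¹ by group,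
      (h2.pow_left l).eq, mul_inv_cancel_right, hyρ]
  set R := P₀ ⊔ zpowers y₂ with hR
  have hy₂P₀ : zpowers y₂ ≤ normalizer (P₀ : Set G) := Subgroup.zpowers_le.2 (hnormP₀ y₂ hy₂t hy₂U)
  have hR2 : IsPGroup 2 R := hP₀2.to_sup_of_normal_left' hy₂2 hy₂P₀
  obtain ⟨a, ha, haR⟩ := hm.sylow R hR2 (sup_le (inf_le_left.trans hm.TC)
    (Subgroup.zpowers_le.2 (mem_centralizer_singleton_iff.2 hy₂t)))
  have hat : a * t = t * a := mem_centralizer_singleton_iff.1 ha
  have hy₂X : y₂ ∉ X := fun h => by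
    have h1 := hact y₂ h ρ hρU
    rw [hy₂ρ] at h1
    exact hz1 (mul_eq_right.1 h1)
  have hP₀8 : 8 ≤ Nat.card P₀ := by
    have hle : (U : Set G) ∪ (fun u => u * t) '' (U : Set G) ⊆ (P₀ : Set G) := by
      rintro x (hx | ⟨u, hu, rfl⟩)
      exacts [hUP₀ hx, mul_mem (hUP₀ hu) htP₀]
    have h1 := Set.ncard_le_ncard hle (Set.toFinite _)
    rw [Set.ncard_union_eq (by
      rw [Set.disjoint_left]
      rintro x hx ⟨u, hu, rfl⟩
      exact hbase.tV ((mul_mem_cancel_left hu).1 hx)) (Set.toFinite _) (Set.toFinite _),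
      Set.ncard_image_of_injective _ (mul_left_injective t)] at h1
    have e1 : (U : Set G).ncard = 4 := by rw [← Nat.card_coe_set_eq]; exact hF.card
    have e2 : (P₀ : Set G).ncard = Nat.card P₀ := (Nat.card_coe_set_eq _).symm
    omega
  have hR16 : 16 ≤ Nat.card R := by
    obtain ⟨i, hi⟩ := card_dvd_of_le (le_sup_left : P₀ ≤ R)
    have hi0 : i ≠ 0 := fun e => by rw [e, mul_zero] at hi; exact Nat.card_pos.ne' hi
    have hi1 : i ≠ 1 := fun e => by
      rw [e, mul_one] at hi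
      exact hy₂X ((eq_of_le_of_card_ge (le_sup_left : P₀ ≤ R) hi.le).ge (mem_sup_right (mem_zpowers y₂))).2
    calc 16 = 8 * 2 := rfl
      _ ≤ Nat.card P₀ * i := Nat.mul_le_mul hP₀8 (by omega)
      _ = Nat.card R := hi.symm
  have hRT : R.map (MulAut.conj a).toMonoidHom = T :=
    eq_of_le_of_card_ge (by rintro _ ⟨r, hr, rfl⟩; exact haR r hr)
      (by rw [hT16, card_map_of_injective (MulAut.conj a).injective]; exact hR16)
  have hRU : R ≤ normalizer (U : Set G) :=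
    sup_le (inf_le_right.trans (centralizer_le_normalizer _)) (Subgroup.zpowers_le.2 hy₂U)
  have hRP : R ≤ normalizer (P : Set G) :=
    sup_le (fun x hx => le_normalizer (hP₀P hx)) (Subgroup.zpowers_le.2 hy₂P)
  have hRz : ∀ r ∈ R, r * z = z * r := fun r hr => by
    have hle : R ≤ centralizer ({z} : Set G) := sup_le
      (fun x hx => mem_centralizer_singleton_iff.2 (mem_centralizer_iff.1 hx.2 z hzU).symm)
      (Subgroup.zpowers_le.2 (mem_centralizer_singleton_iff.2 (mul_inv_eq_iff_eq_mul.1 hy₂z)))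
    exact mem_centralizer_singleton_iff.1 (hle hr)
  set U'' := U.map (MulAut.conj a).toMonoidHom with hU''
  have hU''D : U'' ≤ D := by
    rintro _ ⟨u, hu, rfl⟩
    exact himD a (fun v hv => haR v (mem_sup_left (hUP₀ hv))) u hu
  obtain ⟨w₁, hw₁D, hw₁2, hw₁U⟩ : ∃ w ∈ D, w * w = 1 ∧ w ∉ U'' := by
    by_contra! hall
    have h1 := Set.ncard_le_ncard (s := {x : G | x ∈ D ∧ x * x = 1}) (t := (U'' : Set G))
      (fun x hx => hall x hx.1 hx.2) (Set.toFinite _)
    have e : (U'' : Set G).ncard = 4 := by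
      rw [← Nat.card_coe_set_eq]; exact (card_map_of_injective (MulAut.conj a).injective).trans hF.card
    rw [hd.card_roots, e, hF.three] at h1
    norm_num at h1
  obtain ⟨d, hdR, hda⟩ : ∃ d ∈ R, a * d * a⁻¹ = w₁ := by
    have : w₁ ∈ R.map (MulAut.conj a).toMonoidHom := by rw [hRT]; exact hm.DT hw₁D
    obtain ⟨d, hdR, e⟩ := this
    exact ⟨d, hdR, e⟩
  have hd' : d = a⁻¹ * w₁ * a := by rw [← hda]; group
  have hdd : d * d = 1 := by
    rw [hd', show a⁻¹ * w₁ * a * (a⁻¹ * w₁ * a) = a⁻¹ * (w₁ * w₁) * a by group, hw₁2, mul_one, inv_mul_cancel]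
  have hdi : d⁻¹ = d := inv_eq_of_mul_eq_one_right hdd
  have hdX : d ∉ X := fun h => hw₁U (hfourD U'' hU''D
    ((card_map_of_injective (MulAut.conj a).injective).trans hF.card)
    (by rintro _ ⟨u, hu, rfl⟩; exact conj_sq (hF.sq u hu)) w₁ hw₁D (by
      rintro _ ⟨u, hu, rfl⟩
      show w₁ * (a * u * a⁻¹) = a * u * a⁻¹ * w₁
      rw [← hda, show a * d * a⁻¹ * (a * u * a⁻¹) = a * (d * u) * a⁻¹ by group,
        ← mem_centralizer_iff.1 h u hu]
      group))
  have hdz : d * z * d⁻¹ = z := by rw [hRz d hdR, mul_inv_cancel_right]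
  have hdρ : d * ρ * d⁻¹ = z * ρ := by
    rcases hUcases _ (conj_mem_of_normalizer (hRU hdR) hρU) with e | e | e | e
    · exact absurd (conj_eq_one_iff.1 e) (fun h => hρn (h ▸ one_mem _))
    · exact absurd (mul_left_cancel (mul_right_cancel (e.trans hdz.symm))) hzρn.symm
    · refine absurd (mem_centralizer_iff.2 fun u hu => ?_) hdX
      have hc2 : d * ρ = ρ * d := mul_inv_eq_iff_eq_mul.1 e
      have hc1 := hRz d hdR
      rcases hUcases u hu with rfl | rfl | rfl | rfl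
      · rw [one_mul, mul_one]
      · exact hc1.symm
      · exact hc2.symm
      · rw [mul_assoc, ← hc2, ← mul_assoc, ← hc1, mul_assoc]
    · exact e
  have hdfix : ∀ u ∈ U, d * u * d⁻¹ = u → u = 1 ∨ u = z := by
    intro u hu h
    rcases hUcases u hu with e | e | e | e
    · exact Or.inl e
    · exact Or.inr e
    · exfalso; rw [e, hdρ] at h; exact hz1 (mul_eq_right.1 h)
    · exfalso
      rw [e, show d * (z * ρ) * d⁻¹ = (d * z * d⁻¹) * (d * ρ * d⁻¹) by group, hdz, hdρ] at h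
      exact hz1 (mul_eq_right.1 (mul_left_cancel h))
  have hdK : ¬ IsConj t d := fun h => hf.notK w₁ hw₁D (h.trans (_root_.isConj_iff.2 ⟨a, hda⟩))
  have hdtK : IsConj t (d * t) := by
    refine (hf.inK w₁ hw₁D hw₁2).trans (IsConj.symm (_root_.isConj_iff.2 ⟨a, ?_⟩))
    rw [← hda, show a * (d * t) * a⁻¹ = a * d * a⁻¹ * (a * t) * a⁻¹ by group, hat, mul_assoc, mul_inv_cancel_right]
  -- the Sylow subgroup `P⟨d⟩`
  have hdP : d ∉ P := fun h => hdX (htop.PX h)
  have hdn : zpowers d ≤ normalizer (P : Set G) := Subgroup.zpowers_le.2 (hRP hdR)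
  have hd2 : IsPGroup 2 (zpowers d) := hR2.to_le (Subgroup.zpowers_le.2 hdR)
  have hJ2 : IsPGroup 2 (zpowers d ⊔ P : Subgroup G) := hd2.to_sup_of_normal_right' htop.two hdn
  have hdord : orderOf d = 2 := orderOf_eq_prime (by rw [pow_two]; exact hdd) fun e => hdP (e ▸ one_mem _)
  have hJcard : Nat.card ↥(zpowers d ⊔ P : Subgroup G) = 2 * Nat.card P := by
    have hinf : zpowers d ⊓ P = ⊥ := (eq_bot_iff_forall _).2 fun x hx => by
      obtain ⟨⟨i, hi⟩, hxP⟩ := hx
      have hi : d ^ i = x := hi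
      rw [← hi, ← zpow_mod_orderOf, hdord] at hxP
      rw [← hi, ← zpow_mod_orderOf, hdord]
      rcases Int.emod_two_eq i with h | h <;> push_cast at hxP ⊢ <;> rw [h] at hxP ⊢
      · exact zpow_zero d
      · exact absurd (zpow_one d ▸ hxP) hdP
    have e := Grp.card_sup_mul_card_inf hdn
    rw [hinf, card_bot, mul_one, Nat.card_zpowers, hdord] at e
    exact e
  have hS2P : Nat.card ↥(S : Subgroup G) ≤ 2 * Nat.card P := by
    obtain ⟨c₁, -, hc₁⟩ := hinto ((S : Subgroup G) ⊓ X) (S.isPGroup'.to_le inf_le_left) inf_le_right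
    have h1 : Nat.card ↥((S : Subgroup G) ⊓ X) ≤ Nat.card P := by
      rw [← card_map_of_injective (K := (S : Subgroup G) ⊓ X) (f := (MulAut.conj c₁).toMonoidHom)
        (MulAut.conj c₁).injective]
      exact card_le_of_le (by rintro _ ⟨x, hx, rfl⟩; exact hc₁ x hx)
    have hmem : ∀ s ∈ (S : Subgroup G), s * ρ * s⁻¹ = ρ → s ∈ X := fun s hs h =>
      mem_centralizer_iff.2 fun u hu => by
        have hc1 : s * z = z * s := mul_inv_eq_iff_eq_mul.1 (hF.fix s hs)
        have hc2 : s * ρ = ρ * s := mul_inv_eq_iff_eq_mul.1 h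
        rcases hUcases u hu with rfl | rfl | rfl | rfl
        · rw [one_mul, mul_one]
        · exact hc1.symm
        · exact hc2.symm
        · rw [mul_assoc, ← hc2, ← mul_assoc, ← hc1, mul_assoc]
    have hswap : ∀ s ∈ (S : Subgroup G), s ∉ X → s * ρ * s⁻¹ = z * ρ := fun s hs hsX => by
      rcases hUcases _ (conj_mem_of_normalizer (hF.norm hs) hρU) with e | e | e | e
      · exact absurd (conj_eq_one_iff.1 e) (fun h => hρn (h ▸ one_mem _))
      · exact absurd (mul_left_cancel (mul_right_cancel (e.trans (hF.fix s hs).symm))) hzρn.symm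
      · exact absurd (hmem s hs e) hsX
      · exact e
    have hidx : (((S : Subgroup G) ⊓ X).subgroupOf (S : Subgroup G)).index ≤ 2 := by
      by_cases hall : ∀ s ∈ (S : Subgroup G), s ∈ X
      · rw [subgroupOf_eq_top.2 (le_inf le_rfl hall), index_top]
        norm_num
      push_neg at hall
      obtain ⟨s, hs, hsX⟩ := hall
      refine le_of_eq (index_eq_two_iff.2 ⟨⟨s, hs⟩, fun b => ?_⟩)
      by_cases hbX : (b : G) ∈ X
      · refine Or.inr ⟨⟨b.2, hbX⟩, fun h => hsX ?_⟩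
        exact (mul_mem_cancel_left hbX).1 h.2
      · refine Or.inl ⟨⟨mul_mem b.2 hs, hmem _ (mul_mem b.2 hs) ?_⟩, fun h => hbX h.2⟩
        show (b : G) * s * ρ * ((b : G) * s)⁻¹ = ρ
        rw [show (b : G) * s * ρ * ((b : G) * s)⁻¹ = b * (s * ρ * s⁻¹) * (b : G)⁻¹ by group, hswap s hs hsX,
          show (b : G) * (z * ρ) * (b : G)⁻¹ = (b * z * (b : G)⁻¹) * (b * ρ * (b : G)⁻¹) by group,
          hF.fix b b.2, hswap b b.2 hbX, ← mul_assoc, hzz, one_mul]
    have e := (((S : Subgroup G) ⊓ X).subgroupOf (S : Subgroup G)).card_mul_index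
    rw [Nat.card_congr (subgroupOfEquivOfLe (inf_le_left : (S : Subgroup G) ⊓ X ≤ _)).toEquiv] at e
    rw [← e, mul_comm 2]
    exact Nat.mul_le_mul h1 hidx
  obtain ⟨S₁, hS₁⟩ := hJ2.exists_le_sylow
  have hS₁eq : (S₁ : Subgroup G) = zpowers d ⊔ P := by
    refine (eq_of_le_of_card_ge hS₁ ?_).symm
    rw [hJcard, Nat.card_congr (Sylow.equiv S₁ S).toEquiv]
    exact hS2P
  obtain ⟨b, hb, -, hout⟩ := hm.parity hG S₁
  rw [hS₁eq] at hb hout
  rw [hJcard, htop.card_eq, hF.card, hT16] at hb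
  have hQb : Nat.card Q = 2 ^ b := by omega
  have hQ4 : 4 ≤ Nat.card Q := by
    rw [htop.card_eq, hF.card] at hS2P
    rw [hT16] at hS4
    omega
  have hdiv := hout P le_sup_right (relIndex_two le_sup_right hJcard)
  -- involutions outside `P`
  have hsplit : ∀ x ∈ zpowers d ⊔ P, x ∉ P → d * x ∈ P := by
    intro x hx hxP
    have hrel : (P.subgroupOf (zpowers d ⊔ P)).index = 2 := relIndex_two le_sup_right hJcard
    exact (mul_mem_iff_of_index_two hrel (a := ⟨d, mem_sup_left (mem_zpowers d)⟩) (b := ⟨x, hx⟩)).2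
      (iff_of_false (fun h => hdP h) fun h => hxP h)
  have hQn : ∀ n ∈ normalizer (P : Set G), ∀ q ∈ Q, n * q * n⁻¹ ∈ Q := fun n hn q hq =>
    conj_mem_of_normalizer (htop.toDat.Q_normal hn) hq
  have hQabel : ∀ p ∈ Q, ∀ q ∈ Q, p * q = q * p := fun p hp q hq => by
    have h1 := htop.inv _ (mul_mem hp hq)
    rw [show t * (p * q) * t = t * p * (t * t) * q * t by rw [hm.t2]; group,
      show t * p * (t * t) * q * t = (t * p * t) * (t * q * t) by group, htop.inv p hp, htop.inv q hq,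
      mul_inv_rev] at h1
    have h2 := congrArg (·⁻¹) h1
    simpa [mul_inv_rev] using h2.symm
  have hg'z : ∀ v ∈ U, v ≠ 1 → g' * v * g'⁻¹ ≠ v := fun v hv hv1 h => by
    obtain ⟨w, hw, hw1, hwv⟩ : ∃ w ∈ U, w ≠ 1 ∧ w ≠ v := by
      by_cases hvz : v = z
      · exact ⟨ρ, hρU, fun e => hρn (e ▸ one_mem _), by rw [hvz]; exact hzρn.symm⟩
      · exact ⟨z, hzU, hz1, Ne.symm hvz⟩
    obtain ⟨j, hj⟩ := htop.turn.trans v hv hv1 w hw hw1
    have hc : Commute g' v := mul_inv_eq_iff_eq_mul.1 h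
    rw [(hc.pow_left j).eq, mul_inv_cancel_right] at hj
    exact hwv hj.symm
  set Y := {x : G | x ∈ zpowers d ⊔ P ∧ x ∉ P ∧ x * x = 1} with hY
  have hfib : ∀ x ∈ Y, ∀ A : Set G, (∀ x' ∈ A, x' ∈ Y ∧ (d * x)⁻¹ * (d * x') ∈ Q) → A.ncard * A.ncard ≤ Nat.card Q := by
    intro x hx A hA
    obtain ⟨hxJ, hxP, hxx⟩ := hx
    have hxi : x⁻¹ = x := inv_eq_of_mul_eq_one_right hxx
    have hp := hsplit x hxJ hxP
    have hxact : ∀ u ∈ U, x * u * x⁻¹ = d * u * d⁻¹ := fun u hu => by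
      rw [show x = d * (d * x) by rw [← mul_assoc, hdd, one_mul],
        show d * (d * x) * u * (d * (d * x))⁻¹ = d * ((d * x) * u * (d * x)⁻¹) * d⁻¹ by group,
        hact _ (htop.PX hp) u hu]
    let I : Subgroup G :=
      { carrier := {q | q ∈ Q ∧ x * q * x = q⁻¹}
        one_mem' := ⟨one_mem _, by rw [mul_one, hxx, inv_one]⟩
        mul_mem' := fun {p q} hp hq => ⟨mul_mem hp.1 hq.1, by
          rw [mul_inv_rev, hQabel q⁻¹ (inv_mem hq.1) p⁻¹ (inv_mem hp.1), ← hp.2, ← hq.2,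
            show x * p * x * (x * q * x) = x * p * (x * x) * (q * x) by group, hxx]
          group⟩
        inv_mem' := fun {p} hp => ⟨inv_mem hp.1, by
          rw [inv_inv]
          calc x * p⁻¹ * x = (x * p * x)⁻¹ := by rw [mul_inv_rev, mul_inv_rev, hxi]; group
            _ = p := by rw [hp.2, inv_inv]⟩ }
    have hIQ : I ≤ Q := fun q hq => hq.1
    have hJbot : I ⊓ I.map (MulAut.conj g').toMonoidHom = ⊥ := by
      by_contra hne
      have h2 : IsPGroup 2 (I ⊓ I.map (MulAut.conj g').toMonoidHom : Subgroup G) :=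
        (htop.two.to_le htop.QP).to_le (inf_le_left.trans hIQ)
      obtain ⟨i, hi⟩ := IsPGroup.iff_card.1 h2
      have hi0 : i ≠ 0 := fun e => hne (card_eq_one.1 (by rw [hi, e, pow_zero]))
      obtain ⟨⟨v, hvI, w, hwI, hwv⟩, hv⟩ := exists_prime_orderOf_dvd_card'
        (G := (I ⊓ I.map (MulAut.conj g').toMonoidHom : Subgroup G)) 2 (by rw [hi]; exact dvd_pow_self 2 hi0)
      have hv : orderOf v = 2 := (Subgroup.orderOf_coe _).trans hv
      have hwv : g' * w * g'⁻¹ = v := hwv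
      have hfix : ∀ u ∈ I, u * u = 1 → u ≠ 1 → u ∈ U ∧ u = z := fun u hu hu2 hu1 => by
        have hui : u⁻¹ = u := inv_eq_of_mul_eq_one_right hu2
        have hut : u * t = t * u := by
          have h := htop.inv u (hIQ hu)
          rw [hui] at h
          calc u * t = t * u * t * t := by rw [h]
            _ = t * u := by rw [mul_assoc _ t t, hm.t2, mul_one]
        have huU := htop.toDat.W_cent hbase (htop.QW (hIQ hu)) hut
        refine ⟨huU, (hdfix u huU ?_).resolve_left hu1⟩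
        have h : x * u * x = u := hu.2.trans hui
        rw [← hxact u huU, hxi, h]
      have hv2 : v * v = 1 := by have := pow_orderOf_eq_one v; rwa [hv, pow_two] at this
      have hv1 : v ≠ 1 := fun e => by rw [e, orderOf_one] at hv; omega
      have hw2 : w * w = 1 := by
        rw [← hwv, show g' * w * g'⁻¹ * (g' * w * g'⁻¹) = g' * (w * w) * g'⁻¹ by group] at hv2
        exact conj_eq_one_iff.1 hv2
      have hw1 : w ≠ 1 := fun e => hv1 (by rw [← hwv, e, mul_one, mul_inv_cancel])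
      obtain ⟨hwU, hwz⟩ := hfix w hwI hw2 hw1
      exact hg'z w hwU hw1 (by rw [hwv, (hfix v hvI hv2 hv1).2, hwz])
    have hI2 : Nat.card I * Nat.card I ≤ Nat.card Q := by
      rw [← Nat.card_prod]
      refine Nat.card_le_card_of_injective (fun p : I × I => (⟨(p.1 : G) * (g' * (p.2 : G) * g'⁻¹),
        mul_mem p.1.2.1 (hQn g' htop.turn.normP _ p.2.2.1)⟩ : Q)) ?_
      rintro ⟨p, q⟩ ⟨p', q'⟩ e
      have e' : (p : G) * (g' * q * g'⁻¹) = p' * (g' * q' * g'⁻¹) := congrArg Subtype.val e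
      have e2 : (p' : G)⁻¹ * p = g' * ((q' : G) * (q : G)⁻¹) * g'⁻¹ := by
        rw [show (p' : G)⁻¹ * p = (p' : G)⁻¹ * ((p : G) * (g' * q * g'⁻¹)) * (g' * q * g'⁻¹)⁻¹ by group, e']
        group
      have hmem : (p' : G)⁻¹ * p ∈ I ⊓ I.map (MulAut.conj g').toMonoidHom :=
        ⟨mul_mem (I.inv_mem p'.2) p.2, ⟨(q' : G) * (q : G)⁻¹, mul_mem q'.2 (I.inv_mem q.2), e2.symm⟩⟩
      rw [hJbot, mem_bot] at hmem
      have hp' : (p : G) = p' := (inv_mul_eq_one.1 hmem).symm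
      rw [e2, conj_eq_one_iff] at hmem
      exact Prod.ext (Subtype.ext hp') (Subtype.ext (mul_inv_eq_one.1 hmem).symm)
    have hle : A.ncard ≤ Nat.card I := by
      refine (Set.ncard_le_ncard_of_injOn (fun x' => x * x') (fun x' hx' => ?_)
        (mul_right_injective x).injOn (Set.toFinite (I : Set G))).trans_eq (Nat.card_coe_set_eq _).symm
      obtain ⟨⟨-, -, hx'2⟩, hq⟩ := hA x' hx'
      rw [show (d * x)⁻¹ * (d * x') = x⁻¹ * x' by group, hxi] at hq
      refine ⟨hq, ?_⟩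
      rw [← mul_assoc, hxx, one_mul, mul_inv_rev, hxi, inv_eq_of_mul_eq_one_right hx'2]
    exact le_trans (Nat.mul_le_mul hle hle) hI2
  -- the cosets reached
  have hrelQ : ∀ {p r : G}, p ∈ P → r ∈ P → p⁻¹ * (d * p * d) ∈ Q → r⁻¹ * (d * r * d) ∈ Q →
      (p * r)⁻¹ * (d * (p * r) * d) ∈ Q := fun {p r} _ hr h1 h2 => by
    have h3 := hQn r⁻¹ ((normalizer (P : Set G)).inv_mem (le_normalizer hr)) _ h1
    rw [show (p * r)⁻¹ * (d * (p * r) * d) =
      (r⁻¹ * (p⁻¹ * (d * p * d)) * r⁻¹⁻¹) * (r⁻¹ * ((d * d)⁻¹ * d * r * d)) by group, hdd, inv_one, one_mul]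
    exact mul_mem h3 h2
  let F : Subgroup G :=
    { carrier := {p | p ∈ P ∧ p⁻¹ * (d * p * d) ∈ Q}
      one_mem' := ⟨one_mem _, by rw [mul_one, hdd, inv_one, one_mul]; exact one_mem _⟩
      mul_mem' := fun {p r} hp hr => ⟨mul_mem hp.1 hr.1, hrelQ hp.1 hr.1 hp.2 hr.2⟩
      inv_mem' := fun {p} hp => ⟨inv_mem hp.1, by
        have h := hQn p (le_normalizer hp.1) _ (inv_mem hp.2)
        rwa [show p * (p⁻¹ * (d * p * d))⁻¹ * p⁻¹ = p * (d⁻¹ * p⁻¹ * d⁻¹) by group, hdi,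
          show p * (d * p⁻¹ * d) = p⁻¹⁻¹ * (d * p⁻¹ * d) by rw [inv_inv]] at h⟩ }
  have hFP : F ≤ P := fun p hp => hp.1
  have hQF : Q ≤ F := fun q hq => ⟨htop.QP hq, by
    refine mul_mem (inv_mem hq) ?_
    have := hQn d (hdn (mem_zpowers d)) q hq
    rwa [hdi] at this⟩
  have hFne : F ≠ P := by
    intro hFeq
    have hFall : ∀ p ∈ P, p⁻¹ * (d * p * d) ∈ Q := fun p hp => (hFeq.ge hp : p ∈ F).2
    -- the automorphisms trivial on `P / Q`
    let E : Submonoid G :=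
      { carrier := {n | n ∈ normalizer (P : Set G) ∧ ∀ p ∈ P, p⁻¹ * (n * p * n⁻¹) ∈ Q}
        one_mem' := ⟨one_mem _, fun p _ => by rw [one_mul, inv_one, mul_one, inv_mul_cancel]; exact one_mem _⟩
        mul_mem' := fun {n n'} hn hn' => ⟨mul_mem hn.1 hn'.1, fun p hp => by
          have h1 := hn.2 _ (conj_mem_of_normalizer hn'.1 hp)
          have h2 := hn'.2 p hp
          rw [show p⁻¹ * (n * n' * p * (n * n')⁻¹) = (p⁻¹ * (n' * p * n'⁻¹)) *
            ((n' * p * n'⁻¹)⁻¹ * (n * (n' * p * n'⁻¹) * n⁻¹)) by group]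
          exact mul_mem h2 h1⟩ }
    have hdE : d ∈ E := ⟨hdn (mem_zpowers d), fun p hp => by rw [hdi]; exact hFall p hp⟩
    set e := g' * d * g'⁻¹ with he
    have heE : e ∈ E := ⟨mul_mem (mul_mem htop.turn.normP hdE.1) ((normalizer (P : Set G)).inv_mem htop.turn.normP),
      fun p hp => by
        have hg'i := (normalizer (P : Set G)).inv_mem htop.turn.normP
        have h := hQn g' htop.turn.normP _ (hdE.2 _ (conj_mem_of_normalizer hg'i hp))
        rwa [show g' * ((g'⁻¹ * p * g'⁻¹⁻¹)⁻¹ * (d * (g'⁻¹ * p * g'⁻¹⁻¹) * d⁻¹)) * g'⁻¹ =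
          p⁻¹ * (g' * d * g'⁻¹ * p * (g' * d * g'⁻¹)⁻¹) by group] at h⟩
    set a₁ := g' * z * g'⁻¹ with ha₁
    have ha₁U : a₁ ∈ U := conj_mem_of_normalizer htop.turn.normV hzU
    have ha₁1 : a₁ ≠ 1 := fun h => hz1 (conj_eq_one_iff.1 h)
    have ha₁z : a₁ ≠ z := hg'z z hzU hz1
    have ha₁c : a₁ = ρ ∨ a₁ = z * ρ := by
      rcases hUcases a₁ ha₁U with h | h | h | h
      exacts [absurd h ha₁1, absurd h ha₁z, Or.inl h, Or.inr h]
    have hUc : ∀ u ∈ U, u = 1 ∨ u = z ∨ u = a₁ ∨ u = z * a₁ := fun u hu => by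
      rcases ha₁c with h | h <;> rw [h]
      · exact hUcases u hu
      · rw [← mul_assoc, hzz, one_mul]
        rcases hUcases u hu with h' | h' | h' | h'
        exacts [Or.inl h', Or.inr (Or.inl h'), Or.inr (Or.inr (Or.inr h')), Or.inr (Or.inr (Or.inl h'))]
    have heU : e ∈ normalizer (U : Set G) :=
      mul_mem (mul_mem htop.turn.normV (hRU hdR)) ((normalizer (U : Set G)).inv_mem htop.turn.normV)
    have hea : e * a₁ * e⁻¹ = a₁ := by
      rw [he, ha₁, show g' * d * g'⁻¹ * (g' * z * g'⁻¹) * (g' * d * g'⁻¹)⁻¹ = g' * (d * z * d⁻¹) * g'⁻¹ by group, hdz]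
    have hez : e * z * e⁻¹ = z * a₁ := by
      rcases hUc _ (conj_mem_of_normalizer heU hzU) with h | h | h | h
      · exact absurd (conj_eq_one_iff.1 h) hz1
      · exfalso
        have h1 : g'⁻¹ * z * g'⁻¹⁻¹ ∈ U := conj_mem_of_normalizer ((normalizer (U : Set G)).inv_mem htop.turn.normV) hzU
        have h2 : d * (g'⁻¹ * z * g'⁻¹⁻¹) * d⁻¹ = g'⁻¹ * z * g'⁻¹⁻¹ := by
          calc d * (g'⁻¹ * z * g'⁻¹⁻¹) * d⁻¹ = g'⁻¹ * (e * z * e⁻¹) * g'⁻¹⁻¹ := by rw [he]; group
            _ = _ := by rw [h]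
        rcases hdfix _ h1 h2 with h3 | h3
        · exact hz1 (conj_eq_one_iff.1 h3)
        · refine hg'z z hzU hz1 ?_
          calc g' * z * g'⁻¹ = g' * (g'⁻¹ * z * g'⁻¹⁻¹) * g'⁻¹ := by rw [h3]
            _ = z := by group
      · exact absurd (mul_left_cancel (mul_right_cancel (h.trans hea.symm))) ha₁z.symm
      · exact h
    have hda₁ : d * a₁ * d⁻¹ = z * a₁ := by
      rcases ha₁c with h | h <;> rw [h]
      · exact hdρ
      · rw [show d * (z * ρ) * d⁻¹ = (d * z * d⁻¹) * (d * ρ * d⁻¹) by group, hdz, hdρ]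
    set h := d * e with hh
    have hhE : h ∈ E := mul_mem hdE heE
    have hh1 : h * z * h⁻¹ = a₁ := by
      rw [hh, show d * e * z * (d * e)⁻¹ = d * (e * z * e⁻¹) * d⁻¹ by group, hez,
        show d * (z * a₁) * d⁻¹ = (d * z * d⁻¹) * (d * a₁ * d⁻¹) by group, hdz, hda₁, ← mul_assoc, hzz, one_mul]
    have hh2 : h * a₁ * h⁻¹ = z * a₁ := by
      rw [hh, show d * e * a₁ * (d * e)⁻¹ = d * (e * a₁ * e⁻¹) * d⁻¹ by group, hea, hda₁]
    have hh3 : h * (z * a₁) * h⁻¹ = z := by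
      rw [show h * (z * a₁) * h⁻¹ = (h * z * h⁻¹) * (h * a₁ * h⁻¹) by group, hh1, hh2, ← mul_assoc,
        hbase.abel a₁ ha₁U z hzU, mul_assoc, hbase.elem a₁ ha₁U, mul_one]
    have hc3 : Commute (h ^ 3) z := mul_inv_eq_iff_eq_mul.1 (by
      rw [show h ^ 3 * z * (h ^ 3)⁻¹ = h * (h * (h * z * h⁻¹) * h⁻¹) * h⁻¹ by
        simp only [pow_succ, pow_zero, one_mul]; group]
      rw [hh1, hh2, hh3])
    obtain ⟨e₃, o₃, ho₃, hso⟩ := Nat.exists_eq_pow_mul_and_not_dvd (orderOf_pos h).ne' 3 (by norm_num)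
    set h' := h ^ o₃ with hh'
    have hh'E : h' ∈ E := pow_mem hhE o₃
    have hh'3 : h' ^ 3 ^ e₃ = 1 := by rw [hh', ← pow_mul, mul_comm, ← hso, pow_orderOf_eq_one]
    have hh'z : h' * z ≠ z * h' := fun hc => by
      have hc' : h' * z * h'⁻¹ = z := mul_inv_eq_iff_eq_mul.2 hc
      have hl := Nat.div_add_mod o₃ 3
      have hr : o₃ % 3 = 1 ∨ o₃ % 3 = 2 := by omega
      rw [hh', ← hl, pow_add, pow_mul] at hc'
      have hc3' : Commute ((h ^ 3) ^ (o₃ / 3)) z := hc3.pow_left _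
      rcases hr with hr | hr <;> rw [hr] at hc'
      · rw [pow_one, show (h ^ 3) ^ (o₃ / 3) * h * z * ((h ^ 3) ^ (o₃ / 3) * h)⁻¹ =
          (h ^ 3) ^ (o₃ / 3) * (h * z * h⁻¹) * ((h ^ 3) ^ (o₃ / 3))⁻¹ by group, hh1,
          mul_inv_eq_iff_eq_mul, ← hc3'.eq] at hc'
        exact ha₁z (mul_left_cancel hc')
      · rw [pow_two, show (h ^ 3) ^ (o₃ / 3) * (h * h) * z * ((h ^ 3) ^ (o₃ / 3) * (h * h))⁻¹ =
          (h ^ 3) ^ (o₃ / 3) * (h * (h * z * h⁻¹) * h⁻¹) * ((h ^ 3) ^ (o₃ / 3))⁻¹ by group, hh1, hh2,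
          mul_inv_eq_iff_eq_mul, ← hc3'.eq] at hc'
        exact ha₁1 (mul_eq_left.1 (mul_left_cancel hc'))
    haveI : Fact (Nat.Prime 3) := ⟨Nat.prime_three⟩
    have hH3 : IsPGroup 3 (zpowers h') := fun ⟨x, hx⟩ => ⟨e₃, Subtype.ext (by
      obtain ⟨i, hi⟩ := mem_zpowers_iff.1 hx
      show x ^ 3 ^ e₃ = 1
      rw [← hi, ← zpow_natCast, zpow_comm, zpow_natCast, hh'3, one_zpow])⟩
    have hHE : ∀ n ∈ zpowers h', n ∈ E := fun n hn => by
      obtain ⟨i, rfl⟩ := (isOfFinOrder_of_finite h').mem_powers_iff_mem_zpowers.2 hn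
      exact pow_mem hh'E i
    have hcover : ∀ p ∈ P, ∃ x ∈ P, h' * x = x * h' ∧ x⁻¹ * p ∈ Q := by
      intro p hp
      have hmemP : ∀ x : G, p⁻¹ * x ∈ Q → x ∈ P := fun x hx => by
        have := mul_mem hp (htop.QP hx)
        rwa [mul_inv_cancel_left] at this
      letI : MulAction (zpowers h') {x : G // p⁻¹ * x ∈ Q} :=
        { smul := fun n x => ⟨(n : G) * x * (n : G)⁻¹, by
            have h2 := (hHE n n.2).2 x (hmemP x x.2)
            rw [show p⁻¹ * ((n : G) * x * (n : G)⁻¹) = (p⁻¹ * x) * ((x : G)⁻¹ * (n * x * (n : G)⁻¹)) by group]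
            exact mul_mem x.2 h2⟩
          one_smul := fun x => Subtype.ext (show (1 : G) * x * (1 : G)⁻¹ = x by group)
          mul_smul := fun n n' x => Subtype.ext (show ((n : G) * n') * x * ((n : G) * n')⁻¹ =
            n * (n' * x * (n' : G)⁻¹) * (n : G)⁻¹ by group) }
      haveI : Finite {x : G // p⁻¹ * x ∈ Q} := Subtype.finite
      have hα : Nat.card {x : G // p⁻¹ * x ∈ Q} = Nat.card Q :=
        Nat.card_congr ⟨fun x => ⟨p⁻¹ * x, x.2⟩, fun q => ⟨p * q, by rw [inv_mul_cancel_left]; exact q.2⟩,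
          fun x => Subtype.ext (mul_inv_cancel_left p (x : G)), fun q => Subtype.ext (inv_mul_cancel_left p (q : G))⟩
      obtain ⟨⟨x, hx⟩, hfix⟩ := hH3.nonempty_fixed_point_of_prime_not_dvd_card {x : G // p⁻¹ * x ∈ Q} (by
        rw [hα, hQb]
        exact fun h => absurd (Nat.prime_three.dvd_of_dvd_pow h) (by norm_num))
      refine ⟨x, hmemP x hx, mul_inv_eq_iff_eq_mul.1 (congrArg Subtype.val (hfix ⟨h', mem_zpowers h'⟩)), ?_⟩
      rw [show x⁻¹ * p = (p⁻¹ * x)⁻¹ by group]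
      exact inv_mem hx
    set Cx := (P ⊓ centralizer ({h'} : Set G)).subgroupOf P with hCx
    have hCtop : Cx ⊔ frattini P = ⊤ := eq_top_iff.2 fun p _ => by
      obtain ⟨x, hxP, hxc, hxQ⟩ := hcover p p.2
      rw [show p = ⟨x, hxP⟩ * (⟨x, hxP⟩⁻¹ * p) by group]
      refine mul_mem (mem_sup_left ?_) (mem_sup_right (Grp.pGroup_commutator_le_frattini htop.two ?_))
      · exact mem_subgroupOf.2 ⟨hxP, mem_centralizer_singleton_iff.2 hxc.symm⟩
      · rw [htop.Qdef, ← map_subtype_commutator] at hxQ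
        obtain ⟨q, hq, e⟩ := hxQ
        rwa [show (⟨x, hxP⟩ : P)⁻¹ * p = q from Subtype.ext e.symm]
    have hC := frattini_nongenerating hCtop
    have hzC : (⟨z, htop.VP hzU⟩ : P) ∈ Cx := hC ▸ mem_top _
    exact hh'z (mem_centralizer_singleton_iff.1 (mem_subgroupOf.1 hzC).2).symm
  have hF4 : Nat.card F ≤ 4 * Nat.card Q := by
    obtain ⟨i, hi⟩ := card_dvd_of_le hFP
    have hi0 : i ≠ 0 := fun e => by rw [e, mul_zero] at hi; exact Nat.card_pos.ne' hi
    have hi1 : i ≠ 1 := fun e => hFne (eq_of_le_of_card_ge hFP (by rw [hi, e, mul_one]))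
    have h2 : Nat.card F * 2 ≤ Nat.card P := hi ▸ Nat.mul_le_mul_left _ (by omega)
    rw [htop.card_eq, hF.card] at h2
    omega
  have himg : ((QuotientGroup.mk : G → G ⧸ Q) '' (F : Set G)).ncard ≤ 4 := by
    have e : (QuotientGroup.mk : G → G ⧸ Q) ⁻¹' (QuotientGroup.mk '' (F : Set G)) = (F : Set G) := by
      refine Set.Subset.antisymm (fun x hx => ?_) (Set.subset_preimage_image _ _)
      obtain ⟨y, hy, hyx⟩ := hx
      have := mul_mem (show y ∈ F from hy) (hQF (QuotientGroup.eq.1 hyx))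
      rwa [mul_inv_cancel_left] at this
    have h1 := Nat.card_congr (QuotientGroup.preimageMkEquivSubgroupProdSet Q (QuotientGroup.mk '' (F : Set G)))
    rw [e, Nat.card_prod] at h1
    have h2 : Nat.card ↥(F : Set G) = Nat.card F := rfl
    rw [h2, Nat.card_coe_set_eq] at h1
    exact Nat.le_of_mul_le_mul_left (by rw [← h1, mul_comm _ 4]; exact hF4) (Nat.card_pos (α := Q))
  have hYF : ∀ x ∈ Y, d * x ∈ F := by
    rintro x ⟨hxJ, hxP, hxx⟩
    have hp := hsplit x hxJ hxP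
    refine ⟨hp, ?_⟩
    have hxi : x⁻¹ = x := inv_eq_of_mul_eq_one_right hxx
    have h := htop.sq _ (inv_mem hp)
    rw [mul_inv_rev, hxi, hdi] at h
    rw [mul_inv_rev, hxi, hdi, show x * d * (d * (d * x) * d) = x * (d * d) * (d * x * d) by group, hdd, mul_one,
      show x * (d * x * d) = x * d * (x * d) by group]
    exact h
  set r := Nat.sqrt (Nat.card Q) with hr
  have hYr : Y.ncard ≤ r * 4 := by
    have h1 := Finset.card_le_mul_card_image (f := fun x => (QuotientGroup.mk (d * x) : G ⧸ Q))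
      (Set.toFinite Y).toFinset r (fun c hc => by
        obtain ⟨x, hx, rfl⟩ := Finset.mem_image.1 hc
        rw [Set.Finite.mem_toFinset] at hx
        rw [← Set.ncard_coe_finset]
        refine Nat.le_sqrt.2 (hfib x hx _ fun x' hx' => ?_)
        simp only [Finset.coe_filter, Set.Finite.mem_toFinset, Set.mem_ofPred_eq] at hx'
        exact ⟨hx'.1, QuotientGroup.eq.1 hx'.2.symm⟩)
    refine (Set.ncard_eq_toFinset_card Y).trans_le (h1.trans (Nat.mul_le_mul_left r ?_))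
    rw [← Set.ncard_coe_finset]
    refine (Set.ncard_le_ncard ?_ (Set.toFinite _)).trans himg
    intro c hc
    simp only [Finset.coe_image, Set.Finite.coe_toFinset, Set.mem_image] at hc
    obtain ⟨x, hx, rfl⟩ := hc
    exact ⟨d * x, hYF x hx, rfl⟩
  set K := conjIn t (zpowers d ⊔ P) \ (P : Set G) with hK
  have hdtK' : d * t ∈ K := ⟨⟨hdtK, mul_mem (mem_sup_left (mem_zpowers d)) (mem_sup_right htop.tP)⟩,
    fun h => hdP ((mul_mem_cancel_right htop.tP).1 h)⟩
  have hKY : insert d K ⊆ Y := by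
    rintro x (rfl | ⟨⟨hxK, hxJ⟩, hxP⟩)
    · exact ⟨mem_sup_left (mem_zpowers _), hdP, hdd⟩
    · exact ⟨hxJ, hxP, hf.sqK hxK⟩
  have h1 := Set.ncard_le_ncard hKY (Set.toFinite _)
  rw [Set.ncard_insert_of_notMem (fun h => hdK h.1.1) (Set.toFinite _)] at h1
  have h2 : 2 ^ (b + 1) ≤ K.ncard := Nat.le_of_dvd ((Set.ncard_pos (Set.toFinite _)).2 ⟨_, hdtK'⟩) hdiv
  rw [pow_succ, ← hQb] at h2
  have h3 : r * r ≤ Nat.card Q := Nat.sqrt_le _
  nlinarith

end Cfsg.Agent.Fus.CentTwoPSL
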