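import Cfsg.Agent.Lib.Fus.CentTwoPSL.DihBasics
import Cfsg.Agent.Lib.Invol.NormalFour

/-!
# The dihedral case with `|S : T| ≥ 4`: a normal four group

After conjugation a normal four group of the Sylow subgroup is a four group of `D`, so `|D| = 8`.
-/

set_option autoImplicit false
set_option linter.style.haveILetI false

namespace Cfsg.Agent.Fus.CentTwoPSL

open Subgroup

variable {G : Type*} [Group G] [Finite G] {t : G} {T D : Subgroup G} {σ : G} {m : ℕ}

/-- A normal four group of a Sylow subgroup inside `D`. -/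
structure FourIn (t : G) (T D : Subgroup G) (σ : G) (m : ℕ) (S : Sylow 2 G) (U : Subgroup G) : Prop where
  TS : T ≤ (S : Subgroup G)
  UD : U ≤ D
  card : Nat.card U = 4
  sq : ∀ u ∈ U, u * u = 1
  norm : (S : Subgroup G) ≤ normalizer (U : Set G)
  half : σ ^ 2 ^ (m - 2) ∈ U
  fix : ∀ s ∈ (S : Subgroup G),
    s * σ ^ 2 ^ (m - 2) * s⁻¹ = σ ^ 2 ^ (m - 2)
  three : m = 3

theorem exists_fourIn (hG : ∀ f : G →* ℤˣ, f = 1) (hm : Model t T D) (hd : DihData D σ m) (S : Sylow 2 G)
    (hTS : T ≤ (S : Subgroup G)) (hS4 : 4 * Nat.card T ≤ Nat.card ↥(S : Subgroup G)) :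
    ∃ (S' : Sylow 2 G) (U : Subgroup G), FourIn t T D σ m S' U := by
  classical
  haveI : Fact (Nat.Prime 2) := ⟨Nat.prime_two⟩
  have hTpos : 0 < Nat.card T := Nat.card_pos
  have hne : T ≠ (S : Subgroup G) := fun e => by rw [← e] at hS4; omega
  have hf := exists_fused hm hd S.isPGroup' hTS hne
  set z := σ ^ 2 ^ (m - 2) with hz
  have hzD : z ∈ D := hd.half_mem
  have hzc : ∀ y ∈ T, y * z = z * y := fun y hy => by
    obtain ⟨d, hdD, rfl | rfl⟩ := hm.mem_cases hy
    · exact hd.half_comm hdD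
    · rw [mul_assoc, hm.t_mul (hm.DT hzD), ← mul_assoc, hd.half_comm hdD, mul_assoc]
  -- the central involution
  have hcen : ∀ (S₁ : Sylow 2 G), T ≤ (S₁ : Subgroup G) → ∀ w ∈ (S₁ : Subgroup G),
      (∀ x ∈ (S₁ : Subgroup G), x * w = w * x) → w * w = 1 → w ≠ 1 → w = z := by
    intro S₁ hTS₁ w hw hwc hw2 hw1
    have hwT : w ∈ T := hm.mem_of_comm S₁.isPGroup' hTS₁ hw (hwc t (hTS₁ hm.tT)).symm
    have hnotK : ¬ IsConj t w := fun hK => by
      have h := hm.card_le hK S₁.isPGroup' fun x hx => mem_centralizer_singleton_iff.2 (hwc x hx)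
      rw [Nat.card_congr (Sylow.equiv S₁ S).toEquiv] at h
      omega
    rcases hm.center_cases hd hwT (fun y hy => (hwc y (hTS₁ hy)).symm) with e | e | e | e
    · exact absurd e hw1
    · exact absurd (e ▸ IsConj.refl t) hnotK
    · exact e
    · exact absurd (e ▸ hf.inK z hzD hd.half_sq) hnotK
  have hzS : ∀ (S₁ : Sylow 2 G), T ≤ (S₁ : Subgroup G) → ∀ x ∈ (S₁ : Subgroup G), x * z = z * x := by
    intro S₁ hTS₁
    haveI : Nontrivial ↥(S₁ : Subgroup G) := (Subgroup.nontrivial_iff_ne_bot _).2 fun h =>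
      hm.t1 (mem_bot.1 (h ▸ hTS₁ hm.tT))
    haveI : Nontrivial (center ↥(S₁ : Subgroup G)) := S₁.isPGroup'.center_nontrivial
    obtain ⟨k, hk⟩ := IsPGroup.iff_card.1 (S₁.isPGroup'.to_subgroup (center ↥(S₁ : Subgroup G)))
    obtain ⟨w, hw⟩ := exists_prime_orderOf_dvd_card' (G := center ↥(S₁ : Subgroup G)) 2 (by
      rw [hk]; refine dvd_pow_self 2 ?_
      rintro rfl
      rw [pow_zero] at hk
      have := Finite.one_lt_card (α := center ↥(S₁ : Subgroup G))
      omega)
    have hw2 : w * w = 1 := by have := pow_orderOf_eq_one w; rwa [hw, pow_two] at this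
    have h := hcen S₁ hTS₁ _ w.1.2 (fun x hx => congrArg Subtype.val (mem_center_iff.1 w.2 ⟨x, hx⟩))
      (congrArg (fun u : center ↥(S₁ : Subgroup G) => ((u : ↥(S₁ : Subgroup G)) : G)) hw2) (fun e => by
        rw [show w = 1 from Subtype.ext (Subtype.ext e), orderOf_one] at hw; omega)
    intro x hx
    rw [← h]
    exact congrArg Subtype.val (mem_center_iff.1 w.2 ⟨x, hx⟩)
  -- an elementary subgroup of order eight in `S`
  obtain ⟨ρ, hρ, hρn⟩ := hd.exists_reflection
  have hρ2 : ρ * ρ = 1 := ((hd.cases ρ hρ).resolve_left hρn).1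
  obtain ⟨U₀, hU₀n, hU₀c, hU₀2⟩ : ∃ U : Subgroup ↥(S : Subgroup G), U.Normal ∧ Nat.card U = 4 ∧
      ∀ u ∈ U, u ^ 2 = 1 := by
    set E : Set G := {x | x ∈ T ∧ x * x = 1 ∧ x * ρ = ρ * x} with hE
    have hEeq : ∀ x, x ∈ E ↔ ∃ d ∈ ({1, z, ρ, z * ρ} : Set G), x = d ∨ x = d * t := by
      intro x
      constructor
      · rintro ⟨hx, -, hxc⟩
        obtain ⟨d, hdD, hcase⟩ := hm.mem_cases hx
        refine ⟨d, ?_, hcase⟩
        have hdc : d * ρ = ρ * d := by
          rcases hcase with rfl | rfl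
          · exact hxc
          · rw [mul_assoc, hm.t_mul (hm.DT hρ), ← mul_assoc, ← mul_assoc] at hxc
            exact mul_right_cancel hxc
        simpa [Set.mem_insert_iff, Set.mem_singleton_iff] using hd.commute_reflection hdD hρ hρn hdc
      · rintro ⟨d, hd', hcase⟩
        have hzρ := hd.half_comm hρ
        have key : d ∈ D ∧ d * d = 1 ∧ d * ρ = ρ * d := by
          simp only [Set.mem_insert_iff, Set.mem_singleton_iff] at hd'
          rcases hd' with rfl | rfl | rfl | rfl
          · exact ⟨one_mem _, one_mul 1, by rw [one_mul, mul_one]⟩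
          · exact ⟨hzD, hd.half_sq, hzρ.symm⟩
          · exact ⟨hρ, hρ2, rfl⟩
          · refine ⟨mul_mem hzD hρ, ?_, ?_⟩
            · rw [show z * ρ * (z * ρ) = z * (ρ * z) * ρ by group, hzρ,
                show z * (z * ρ) * ρ = z * z * (ρ * ρ) by group, hρ2, hd.half_sq, one_mul]
            · rw [mul_assoc, ← mul_assoc ρ, hzρ, mul_assoc, hρ2]
        obtain ⟨h1, h2, h3⟩ := key
        rcases hcase with rfl | rfl
        · exact ⟨hm.DT h1, h2, h3⟩
        · refine ⟨mul_mem (hm.DT h1) hm.tT, (hm.sq_dt h1).trans h2, ?_⟩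
          rw [mul_assoc, hm.t_mul (hm.DT hρ), ← mul_assoc, h3, mul_assoc]
    let E₀ : Subgroup G :=
      { carrier := E
        one_mem' := ⟨one_mem _, one_mul 1, by rw [one_mul, mul_one]⟩
        mul_mem' := fun {a b} ha hb => by
          refine ⟨mul_mem ha.1 hb.1, ?_, by rw [mul_assoc, hb.2.2, ← mul_assoc, ha.2.2, mul_assoc]⟩
          have hcb : ∀ {x y : G}, x ∈ E → y ∈ E → x * y = y * x := by
            intro x y hx hy
            obtain ⟨d, hd', hcx⟩ := (hEeq x).1 hx
            obtain ⟨e, he', hcy⟩ := (hEeq y).1 hy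
            have hzρ := hd.half_comm hρ
            have hd'' : d * e = e * d ∧ d ∈ D ∧ e ∈ D := by
              simp only [Set.mem_insert_iff, Set.mem_singleton_iff] at hd' he'
              have hcz : Commute z ρ := hzρ.symm
              have hdD : d ∈ D := by
                rcases hd' with rfl | rfl | rfl | rfl
                exacts [one_mem _, hzD, hρ, mul_mem hzD hρ]
              have heD : e ∈ D := by
                rcases he' with rfl | rfl | rfl | rfl
                exacts [one_mem _, hzD, hρ, mul_mem hzD hρ]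
              have h1 : ∀ {a : G}, Commute a z → Commute a ρ → (e = 1 ∨ e = z ∨ e = ρ ∨ e = z * ρ) → Commute a e := by
                rintro a h2 h3 (e' | e' | e' | e') <;> rw [e']
                exacts [Commute.one_right _, h2, h3, h2.mul_right h3]
              refine ⟨?_, hdD, heD⟩
              rcases hd' with e' | e' | e' | e' <;> rw [e']
              · exact Commute.one_left e
              · exact h1 (Commute.refl z) hcz he'
              · exact h1 hcz.symm (Commute.refl ρ) he'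
              · exact h1 ((Commute.refl z).mul_left hcz.symm) (hcz.mul_left (Commute.refl ρ)) he'
            have hc : Commute t d := hm.t_mul (hm.DT hd''.2.1)
            have hc' : Commute t e := hm.t_mul (hm.DT hd''.2.2)
            have hde : Commute d e := hd''.1
            rcases hcx with rfl | rfl <;> rcases hcy with rfl | rfl
            exacts [hde, hde.mul_right hc.symm, hde.mul_left hc',
              (hde.mul_right hc.symm).mul_left (hc'.mul_right (Commute.refl t))]
          rw [show a * b * (a * b) = a * (b * a) * b by group, ← hcb ha hb,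
            show a * (a * b) * b = a * a * (b * b) by group, ha.2.1, hb.2.1, one_mul]
        inv_mem' := fun {a} ha => by rw [inv_eq_of_mul_eq_one_right ha.2.1]; exact ha }
    have hE8 : Nat.card E₀ = 8 := by
      have hset : (E₀ : Set G) = ({1, z, ρ, z * ρ} : Set G) ∪ (fun d => d * t) '' ({1, z, ρ, z * ρ} : Set G) := by
        ext x
        rw [show x ∈ (E₀ : Set G) ↔ x ∈ E from Iff.rfl, hEeq]
        constructor
        · rintro ⟨d, hd', rfl | rfl⟩
          exacts [Or.inl hd', Or.inr ⟨d, hd', rfl⟩]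
        · rintro (h | ⟨d, hd', rfl⟩)
          exacts [⟨x, h, Or.inl rfl⟩, ⟨d, hd', Or.inr rfl⟩]
      have hsub : ∀ d ∈ ({1, z, ρ, z * ρ} : Set G), d ∈ D := by
        intro d hd'
        simp only [Set.mem_insert_iff, Set.mem_singleton_iff] at hd'
        rcases hd' with rfl | rfl | rfl | rfl
        exacts [one_mem _, hzD, hρ, mul_mem hzD hρ]
      have hzρn : z * ρ ∉ zpowers σ := fun h => hρn ((mul_mem_cancel_left (DihData.half_mem_zpowers (m := m))).1 h)
      have h4 : ({1, z, ρ, z * ρ} : Set G).ncard = 4 := by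
        have n1 : (1 : G) ≠ z := fun h => hd.half_ne h.symm
        have n2 : (1 : G) ≠ ρ := fun h => hρn (h ▸ one_mem _)
        have n3 : (1 : G) ≠ z * ρ := fun h => hzρn (h ▸ one_mem _)
        have n4 : z ≠ ρ := fun h => hρn (h ▸ DihData.half_mem_zpowers)
        have n5 : z ≠ z * ρ := fun h => hzρn (h ▸ DihData.half_mem_zpowers)
        have n6 : ρ ≠ z * ρ := fun h => hd.half_ne (mul_eq_right.1 h.symm)
        rw [Set.ncard_insert_of_notMem (by simp [n1, n2, n3]), Set.ncard_insert_of_notMem (by simp [n4, n5]),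
          Set.ncard_pair n6]
      rw [← SetLike.coe_sort_coe, Nat.card_coe_set_eq, hset, Set.ncard_union_eq (by
        rw [Set.disjoint_left]
        rintro x hx ⟨d, hd', rfl⟩
        exact hm.tD ((mul_mem_cancel_left (hsub d hd')).1 (hsub _ hx))) (Set.toFinite _) (Set.toFinite _),
        Set.ncard_image_of_injective _ (mul_left_injective t), h4]
    refine Invol.NormalFour.exists_normal_four S.isPGroup' (E₀.subgroupOf (S : Subgroup G)) ?_ ?_
    · rw [Nat.card_congr (subgroupOfEquivOfLe (fun x hx => hTS hx.1 : E₀ ≤ (S : Subgroup G))).toEquiv, hE8]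
    · intro e he
      exact Subtype.ext (by rw [SubmonoidClass.coe_pow, pow_two]; exact (mem_subgroupOf.1 he).2.1)
  set U := U₀.map (S : Subgroup G).subtype with hU
  have hUS : U ≤ (S : Subgroup G) := map_subtype_le _
  have hUcard : Nat.card U = 4 := (card_map_of_injective (S : Subgroup G).subtype_injective).trans hU₀c
  have hUsq : ∀ u ∈ U, u * u = 1 := by
    rintro _ ⟨u, hu, rfl⟩
    rw [← pow_two, ← map_pow, hU₀2 u hu, map_one]
  have hUn : ∀ s ∈ (S : Subgroup G), ∀ u ∈ U, s * u * s⁻¹ ∈ U := by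
    rintro s hs _ ⟨u, hu, rfl⟩
    exact ⟨⟨s, hs⟩ * u * ⟨s, hs⟩⁻¹, hU₀n.conj_mem u hu _, rfl⟩
  have hzS' := hzS S hTS
  -- `z` lies in `U`
  have hzU : z ∈ U := by
    obtain ⟨u, hu, hle⟩ := exists_short S.isPGroup' (X := (U : Set G) \ {1}) (b := 0) (fun s hs x hx =>
      ⟨hUn s hs x hx.1, fun h => hx.2 (conj_eq_one_iff.1 (Set.mem_singleton_iff.1 h))⟩) (by
      rw [Set.ncard_diff_singleton_of_mem (one_mem U), ← Nat.card_coe_set_eq]
      simp only [SetLike.coe_sort_coe, hUcard]
      norm_num)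
    rw [pow_zero, one_mul] at hle
    have e := eq_of_le_of_card_ge (inf_le_left : (S : Subgroup G) ⊓ centralizer ({u} : Set G) ≤ _) hle
    have := hcen S hTS u (hUS hu.1) (fun x hx => mem_centralizer_singleton_iff.1 (show x ∈ (S : Subgroup G) ⊓ centralizer ({u} : Set G) from e.ge hx).2)
      (hUsq u hu.1) hu.2
    exact this ▸ hu.1
  -- a moved element of `U`
  have h2 : ((U : Set G) \ {1, z}).ncard = 2 := by
    have h1 := Set.ncard_sdiff_add_ncard_of_subset (show ({1, z} : Set G) ⊆ U from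
      Set.insert_subset (one_mem U) (Set.singleton_subset_iff.2 hzU)) (Set.toFinite _)
    rw [Set.ncard_pair (Ne.symm hd.half_ne)] at h1
    have e : (U : Set G).ncard = 4 := by rw [← Nat.card_coe_set_eq]; exact hUcard
    omega
  obtain ⟨u, ⟨huU, hu'⟩, hule⟩ := exists_short S.isPGroup' (X := (U : Set G) \ {1, z}) (b := 1) (fun s hs x hx =>
    ⟨hUn s hs x hx.1, fun h => hx.2 (by
      simp only [Set.mem_insert_iff, Set.mem_singleton_iff] at h ⊢
      rcases h with h | h
      · exact Or.inl (conj_eq_one_iff.1 h)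
      · refine Or.inr (mul_left_cancel (mul_right_cancel (h.trans ?_)) : x = z)
        rw [hzS' s hs, mul_inv_cancel_right])⟩) (by rw [h2]; norm_num)
  simp only [Set.mem_insert_iff, Set.mem_singleton_iff, not_or] at hu'
  set M := (S : Subgroup G) ⊓ centralizer ({u} : Set G) with hM
  have hUcases : ∀ x ∈ U, x = 1 ∨ x = z ∨ x = u ∨ x = z * u := by
    have h := Set.eq_of_subset_of_ncard_le (s := ({1, z, u, z * u} : Set G)) (t := (U : Set G))
      (by
        intro x hx
        simp only [Set.mem_insert_iff, Set.mem_singleton_iff] at hx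
        rcases hx with rfl | rfl | rfl | rfl
        exacts [one_mem _, hzU, huU, mul_mem hzU huU]) (by
        have e : (U : Set G).ncard = 4 := by rw [← Nat.card_coe_set_eq]; exact hUcard
        have n3 : (1 : G) ≠ z * u := fun h => hu'.2 ((eq_inv_of_mul_eq_one_right h.symm).trans
          (inv_eq_of_mul_eq_one_right hd.half_sq))
        have n5 : z ≠ z * u := fun h => hu'.1 (mul_eq_left.1 h.symm)
        have n6 : u ≠ z * u := fun h => hd.half_ne (mul_eq_right.1 h.symm)
        rw [e, Set.ncard_insert_of_notMem (by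
          simp only [Set.mem_insert_iff, Set.mem_singleton_iff, not_or]
          exact ⟨Ne.symm hd.half_ne, Ne.symm hu'.1, n3⟩),
          Set.ncard_insert_of_notMem (by
          simp only [Set.mem_insert_iff, Set.mem_singleton_iff, not_or]
          exact ⟨Ne.symm hu'.2, n5⟩), Set.ncard_pair n6])
    intro x hx
    have hx' : x ∈ ({1, z, u, z * u} : Set G) := h ▸ hx
    simpa [Set.mem_insert_iff, Set.mem_singleton_iff] using hx'
  have hMU : ∀ x ∈ M, x ∈ centralizer (U : Set G) := fun x hx => mem_centralizer_iff.2 fun w hw => by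
    have h1 := mem_centralizer_singleton_iff.1 hx.2
    have h2 := hzS' x hx.1
    rcases hUcases w hw with rfl | rfl | rfl | rfl
    · rw [one_mul, mul_one]
    · exact h2.symm
    · exact h1.symm
    · rw [mul_assoc, ← h1, ← mul_assoc, ← h2, mul_assoc]
  have hMcard : Nat.card ↥(S : Subgroup G) = 2 * Nat.card M := by
    obtain ⟨i, hi⟩ := card_dvd_of_le (inf_le_left : M ≤ (S : Subgroup G))
    rw [pow_one, hi, mul_comm 2] at hule
    have hi2 : i ≤ 2 := Nat.le_of_mul_le_mul_left hule Nat.card_pos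
    have hi0 : i ≠ 0 := fun e => by rw [e, mul_zero] at hi; exact Nat.card_pos.ne' hi
    have hi1 : i ≠ 1 := fun e => by
      rw [e, mul_one] at hi
      have e' := eq_of_le_of_card_ge (inf_le_left : M ≤ (S : Subgroup G)) hi.le
      exact hu'.2 (hcen S hTS u (hUS huU)
        (fun x hx => mem_centralizer_singleton_iff.1 (show x ∈ M from e'.ge hx).2) (hUsq u huU) hu'.1)
    rw [hi, show i = 2 by omega, mul_comm]
  have hUK : ∀ w ∈ U, ¬ IsConj t w := by
    intro w hw hK
    rcases hUcases w hw with e | e | e | e <;> rw [e] at hK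
    · obtain ⟨c, hc⟩ := _root_.isConj_iff.1 hK
      exact hm.t1 (conj_eq_one_iff.1 hc)
    · exact hf.notK z hzD hK
    · have h : Nat.card M ≤ Nat.card T := hm.card_le hK (S.isPGroup'.to_le inf_le_left) (inf_le_right : M ≤ _)
      omega
    · have hle : M ≤ centralizer ({z * u} : Set G) := fun x hx => mem_centralizer_singleton_iff.2
        (mem_centralizer_iff.1 (hMU x hx) _ (mul_mem hzU huU)).symm
      have h : Nat.card M ≤ Nat.card T := hm.card_le hK (S.isPGroup'.to_le inf_le_left) hle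
      omega
  -- an extremal conjugate centralising `U`
  obtain ⟨b, hb, ⟨k, hk, htot⟩, hout⟩ := hm.parity hG S
  obtain ⟨r, hr⟩ := hout M inf_le_left (relIndex_two inf_le_left hMcard)
  have hdiv : ¬ 2 ^ (b + 1) ∣ (conjIn t M).ncard := by
    intro hdvd
    have hset : conjIn t (S : Subgroup G) = (conjIn t (S : Subgroup G) \ (M : Set G)) ∪ conjIn t M := by
      ext x
      constructor
      · intro h
        by_cases hx : x ∈ M
        exacts [Or.inr ⟨h.1, hx⟩, Or.inl ⟨h, hx⟩]
      · rintro (⟨h, -⟩ | ⟨h1, h2⟩)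
        exacts [h, ⟨h1, h2.1⟩]
    rw [hset, Set.ncard_union_eq (by
      rw [Set.disjoint_left]; exact fun x h1 h2 => h1.2 h2.2) (Set.toFinite _) (Set.toFinite _), hr] at htot
    obtain ⟨q, hq⟩ := hdvd
    rw [hq] at htot
    refine Nat.not_even_iff_odd.2 hk ⟨r + q, Nat.eq_of_mul_eq_mul_left (Nat.two_pow_pos b) ?_⟩
    rw [← htot, pow_succ]; ring
  obtain ⟨x, ⟨hxK, hxM⟩, hxle⟩ := exists_short S.isPGroup' (X := conjIn t M) (b := b) (fun s hs x hx => by
    refine ⟨hx.1.trans (_root_.isConj_iff.2 ⟨s, rfl⟩), mul_mem (mul_mem hs hx.2.1) ((S : Subgroup G).inv_mem hs),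
      mem_centralizer_singleton_iff.2 ?_⟩
    have hc := mem_centralizer_iff.1 (hMU x hx.2) _ (hUn s⁻¹ ((S : Subgroup G).inv_mem hs) u huU)
    calc s * x * s⁻¹ * u = s * (x * (s⁻¹ * u * s⁻¹⁻¹)) * s⁻¹ := by group
      _ = s * ((s⁻¹ * u * s⁻¹⁻¹) * x) * s⁻¹ := by rw [hc]
      _ = u * (s * x * s⁻¹) := by group) hdiv
  set C := (S : Subgroup G) ⊓ centralizer ({x} : Set G) with hC
  obtain ⟨a, hax, haC⟩ := hm.exists_conj hxK (S.isPGroup'.to_le inf_le_left) (inf_le_right : C ≤ _)
  have hCT : C.map (MulAut.conj a).toMonoidHom = T := by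
    refine eq_of_le_of_card_ge (by rintro _ ⟨y, hy, rfl⟩; exact haC y hy) ?_
    rw [card_map_of_injective (MulAut.conj a).injective]
    rw [hb] at hxle
    exact Nat.le_of_mul_le_mul_left hxle (Nat.two_pow_pos b)
  have hS'card : Nat.card ((S : Subgroup G).map (MulAut.conj a).toMonoidHom) = Nat.card ↥(S : Subgroup G) :=
    card_map_of_injective (MulAut.conj a).injective
  let S' : Sylow 2 G := Sylow.ofCard ((S : Subgroup G).map (MulAut.conj a).toMonoidHom)
    (hS'card.trans S.card_eq_multiplicity)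
  have hS' : (S' : Subgroup G) = (S : Subgroup G).map (MulAut.conj a).toMonoidHom := Sylow.coe_ofCard _ _
  set U' := U.map (MulAut.conj a).toMonoidHom with hU'
  have hTS' : T ≤ (S' : Subgroup G) := by rw [hS', ← hCT]; exact map_mono inf_le_left
  have hU'T : U' ≤ T := by
    rw [← hCT]
    exact map_mono fun w hw => ⟨hUS hw,
      mem_centralizer_singleton_iff.2 (mem_centralizer_iff.1 (hMU x hxM) w hw)⟩
  have hU'sq : ∀ w ∈ U', w * w = 1 := by
    rintro _ ⟨w, hw, rfl⟩
    exact conj_sq (hUsq w hw)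
  have hU'D : U' ≤ D := by
    intro w hw
    by_contra hwD
    obtain ⟨w₀, hw₀, rfl⟩ := hw
    exact hUK w₀ hw₀ (((hf.conj_iff hm (hU'T ⟨w₀, hw₀, rfl⟩)).2 ⟨hU'sq _ ⟨w₀, hw₀, rfl⟩, hwD⟩).trans
      (IsConj.symm (_root_.isConj_iff.2 ⟨a, rfl⟩)))
  have hU'card : Nat.card U' = 4 := (card_map_of_injective (MulAut.conj a).injective).trans hUcard
  have hU'n : (S' : Subgroup G) ≤ normalizer (U' : Set G) := fun s hs => mem_normalizer_of_forall fun w hw => by
    rw [hS'] at hs
    obtain ⟨s₀, hs₀, rfl⟩ := hs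
    obtain ⟨w₀, hw₀, rfl⟩ := hw
    exact ⟨_, hUn s₀ hs₀ w₀ hw₀, by simp only [MulEquiv.coe_toMonoidHom, map_mul, map_inv]⟩
  obtain ⟨ρ', hρ'U, hρ'n⟩ : ∃ w ∈ U', w ∉ zpowers σ := by
    by_contra! hall
    have hsub : (U' : Set G) ⊆ {1, z} := fun w hw => by
      by_cases hw1 : w = 1
      · exact Or.inl hw1
      · exact Or.inr (hd.eq_half (hall w hw) (hU'sq w hw) hw1)
    have h1 := Set.ncard_le_ncard hsub (Set.toFinite _)
    rw [Set.ncard_pair (Ne.symm hd.half_ne), ← Nat.card_coe_set_eq] at h1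
    have e : Nat.card ↥(U' : Set G) = 4 := hU'card
    omega
  have hσ2 : σ * σ ∈ U' := by
    have h1 := conj_mem_of_normalizer (hU'n (hTS' (hm.DT hd.mem))) hρ'U
    have h2 := mul_mem h1 hρ'U
    have hρ'2 := hU'sq ρ' hρ'U
    rwa [mul_assoc (σ * ρ') σ⁻¹ ρ', show σ * ρ' * (σ⁻¹ * ρ') = σ * (ρ' * σ⁻¹ * ρ') by group,
      hd.reflect_inv (inv_mem (mem_zpowers σ)) (hU'D hρ'U) hρ'n, inv_inv] at h2
  have hm3 : m = 3 := by
    have h := hU'sq _ hσ2
    have h4 := orderOf_dvd_of_pow_eq_one (x := σ) (n := 2 ^ 2) (by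
      rw [← h]; simp only [show (2 : ℕ) ^ 2 = 4 from rfl, pow_succ, pow_zero, one_mul, mul_assoc])
    rw [hd.order] at h4
    have := hd.three
    have := (Nat.pow_dvd_pow_iff_le_right (show 1 < 2 by norm_num)).1 h4
    omega
  refine ⟨S', U', hTS', hU'D, hU'card, hU'sq, hU'n, ?_, fun s hs => ?_, hm3⟩
  · rw [hm3]; exact (pow_two σ).symm ▸ hσ2
  · rw [hzS S' hTS' s hs, mul_inv_cancel_right]

end Cfsg.Agent.Fus.CentTwoPSL
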