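import Cfsg.Agent.Lib.Fus.CentTwoPSL.DihBasics

/-!
# The dihedral case with `T` a Sylow subgroup
-/

set_option autoImplicit false
set_option linter.style.haveILetI false

namespace Cfsg.Agent.Fus.CentTwoPSL

open Subgroup

variable {G : Type*} [Group G] [Finite G] {t : G} {T D : Subgroup G} {σ : G} {m : ℕ}

theorem dih_one (hG : ∀ f : G →* ℤˣ, f = 1) (hm : Model t T D) (hd : DihData D σ m) (S : Sylow 2 G)
    (hST : T = (S : Subgroup G)) : False := by
  classical
  haveI : Fact (Nat.Prime 2) := ⟨Nat.prime_two⟩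
  set z := σ ^ 2 ^ (m - 2) with hz
  obtain ⟨b, hb, ⟨k, hk, htot⟩, hout⟩ := hm.parity hG S
  rw [← hST] at hb htot hout
  have hb0 : b = 0 := by
    rcases Nat.eq_zero_or_pos b with h | h
    · exact h
    · have : 2 ≤ 2 ^ b := Nat.le_self_pow h.ne' 2
      have hpos : 0 < Nat.card T := Nat.card_pos
      nlinarith
  rw [hb0, pow_zero, one_mul] at htot
  have hnot1 : ¬ IsConj t 1 := fun h => by
    obtain ⟨c, hc⟩ := _root_.isConj_iff.1 h
    exact hm.t1 (conj_eq_one_iff.1 hc)
  have hsqK : ∀ {x : G}, IsConj t x → x * x = 1 := fun {x} hx => by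
    obtain ⟨c, rfl⟩ := _root_.isConj_iff.1 hx
    exact conj_sq hm.t2
  have hA : ∀ a ∈ D, IsConj t a → IsConj t z := fun a ha hK =>
    hK.trans (hm.conj_tD ha hd.half_mem (hsqK hK) (fun e => hnot1 (e ▸ hK)) hd.half_sq hd.half_ne).1
  have hA' : IsConj t z → ∀ a ∈ D, a * a = 1 → a ≠ 1 → IsConj t a := fun hK a ha h2 h1 =>
    hK.trans (hm.conj_tD hd.half_mem ha hd.half_sq hd.half_ne h2 h1).1
  have hB : ∀ a ∈ D, a ≠ 1 → IsConj t (a * t) → IsConj t (z * t) := fun a ha h1 hK =>
    hK.trans (hm.conj_tD ha hd.half_mem (by rw [← hm.sq_dt ha]; exact hsqK hK) h1 hd.half_sq hd.half_ne).2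
  have hB' : IsConj t (z * t) → ∀ a ∈ D, a * a = 1 → IsConj t (a * t) := fun hK a ha h2 => by
    by_cases h1 : a = 1
    · rw [h1, one_mul]
    · exact hK.trans (hm.conj_tD hd.half_mem ha hd.half_sq hd.half_ne h2 h1).2
  have hne : ∀ d ∈ D, d * t ≠ t → d ≠ 1 := fun d _ h e => h (by rw [e, one_mul])
  have heven : Even (2 + 2 ^ (m - 1)) := Even.add even_two (Nat.even_pow.2 ⟨even_two, by have := hd.three; omega⟩)
  by_cases h1 : IsConj t z
  · by_cases h2 : IsConj t (z * t)
    · -- both are central in `T`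
      obtain ⟨c, hc⟩ := _root_.isConj_iff.1 h1.symm
      have hcen : ∀ w ∈ T, (∀ y ∈ T, y * w = w * y) → w ∈ centralizer ((S : Subgroup G) : Set G) :=
        fun w _ hw => mem_centralizer_iff.2 fun y hy => hw y (hST ▸ hy)
      have hzc : ∀ y ∈ T, y * z = z * y := fun y hy => by
        obtain ⟨d, hdD, rfl | rfl⟩ := hm.mem_cases hy
        · exact hd.half_comm hdD
        · rw [mul_assoc, hm.t_mul (hm.DT hd.half_mem), ← mul_assoc, hd.half_comm hdD, mul_assoc]
      obtain ⟨n, hn, e⟩ := Sylow.conj_eq_normalizer_conj_of_mem_centralizer S z c⁻¹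
        (hcen z (hm.DT hd.half_mem) hzc)
        (by rw [inv_inv, hc]; exact hcen t hm.tT fun y hy => hm.comm hy)
      rw [inv_inv, hc] at e
      refine hm.tD (hd.zpowers_le ?_)
      rw [e, hz, hd.z_pow,
        show n⁻¹ * (σ ^ 2 ^ (m - 3) * σ ^ 2 ^ (m - 3)) * n =
          (n⁻¹ * σ ^ 2 ^ (m - 3) * n) * (n⁻¹ * σ ^ 2 ^ (m - 3) * n) by group]
      refine hm.sq_mem hd ?_
      have hnT : n ∈ normalizer (T : Set G) := hST ▸ hn
      have := conj_mem_of_normalizer ((normalizer (T : Set G)).inv_mem hnT) (hm.DT (pow_mem hd.mem (2 ^ (m - 3))))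
      rwa [inv_inv] at this
    · have hset : conjIn t T = insert t ({x | x ∈ D ∧ x * x = 1} \ {1}) := by
        ext x
        constructor
        · rintro ⟨hK, hx⟩
          rcases hm.mem_cases hx with ⟨d, hdD, rfl | rfl⟩
          · exact Or.inr ⟨⟨hdD, hsqK hK⟩, fun e => hnot1 (by rw [Set.mem_singleton_iff] at e; rwa [e] at hK)⟩
          · by_cases hd1 : d = 1
            · exact Or.inl (by rw [hd1, one_mul])
            · exact absurd (hB d hdD hd1 hK) h2
        · rintro (rfl | ⟨⟨hx, hx2⟩, hx1⟩)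
          · exact ⟨IsConj.refl _, hm.tT⟩
          · exact ⟨hA' h1 x hx hx2 hx1, hm.DT hx⟩
      rw [hset, Set.ncard_insert_of_notMem (fun h => hm.tD h.1.1) (Set.toFinite _),
        Set.ncard_diff_singleton_of_mem (show (1 : G) ∈ {x | x ∈ D ∧ x * x = 1} from ⟨one_mem _, one_mul 1⟩),
        hd.card_roots] at htot
      exact Nat.not_even_iff_odd.2 hk (by rw [← htot, Nat.sub_add_cancel (le_trans one_le_two (Nat.le_add_right 2 _))]; exact heven)
  · by_cases h2 : IsConj t (z * t)
    · have hset : conjIn t T = (fun d => d * t) '' {x | x ∈ D ∧ x * x = 1} := by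
        ext x
        constructor
        · rintro ⟨hK, hx⟩
          rcases hm.mem_cases hx with ⟨d, hdD, rfl | rfl⟩
          · exact absurd (hA _ hdD hK) h1
          · exact ⟨d, ⟨hdD, by rw [← hm.sq_dt hdD]; exact hsqK hK⟩, rfl⟩
        · rintro ⟨d, ⟨hdD, hd2⟩, rfl⟩
          exact ⟨hB' h2 d hdD hd2, mul_mem (hm.DT hdD) hm.tT⟩
      rw [hset, Set.ncard_image_of_injective _ (mul_left_injective t), hd.card_roots] at htot
      exact Nat.not_even_iff_odd.2 hk (htot ▸ heven)
    · have hset : conjIn t T \ (D : Set G) = {t} := by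
        ext x
        constructor
        · rintro ⟨⟨hK, hx⟩, hxD⟩
          rcases hm.mem_cases hx with ⟨d, hdD, rfl | rfl⟩
          · exact absurd hdD hxD
          · by_cases hd1 : d = 1
            · show d * t = t
              rw [hd1, one_mul]
            · exact absurd (hB d hdD hd1 hK) h2
        · rintro rfl
          exact ⟨⟨IsConj.refl _, hm.tT⟩, hm.tD⟩
      have h := hout D hm.DT (relIndex_two hm.DT hm.card_eq)
      rw [hset, Set.ncard_singleton, hb0] at h
      norm_num at h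

end Cfsg.Agent.Fus.CentTwoPSL
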