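import Cfsg.Agent.Lib.Fus.CentTwoPSL.DihBasics
import Cfsg.Agent.S3225

/-!
# The dihedral case with `T` of index two

If some square outside `T` lies in `D` two commuting conjugates of `t` contradict the fusion in a centraliser;
otherwise transfer gives an element of order eight fusing `t f` to `f`, and the centralisers have different
exponents.
-/

set_option autoImplicit false
set_option linter.style.haveILetI false

namespace Cfsg.Agent.Fus.CentTwoPSL

open Subgroup

variable {G : Type*} [Group G] [Finite G] {t : G} {T D : Subgroup G} {σ : G} {m : ℕ}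

theorem exists_ext {D : Subgroup G} {y : G} (hy : y ∈ normalizer (D : Set G)) (hy2 : y * y ∈ D) :
    ∃ M : Subgroup G, ∀ x, x ∈ M ↔ x ∈ D ∨ y⁻¹ * x ∈ D := by
  have hi : ∀ {d : G}, d ∈ D → y⁻¹ * d * y ∈ D := fun {d} hd => by
    have := conj_mem_of_normalizer ((normalizer (D : Set G)).inv_mem hy) hd
    rwa [inv_inv] at this
  exact ⟨{
    carrier := {x | x ∈ D ∨ y⁻¹ * x ∈ D}
    one_mem' := Or.inl (one_mem D)
    mul_mem' := fun {a b} ha hb => by
      rcases ha with ha | ha <;> rcases hb with hb | hb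
      · exact Or.inl (mul_mem ha hb)
      · refine Or.inr ?_
        rw [show y⁻¹ * (a * b) = (y⁻¹ * a * y) * (y⁻¹ * b) by group]
        exact mul_mem (hi ha) hb
      · refine Or.inr ?_
        rw [← mul_assoc]; exact mul_mem ha hb
      · refine Or.inl ?_
        rw [show a * b = (y * y) * ((y⁻¹ * (y⁻¹ * a) * y) * (y⁻¹ * b)) by group]
        exact mul_mem hy2 (mul_mem (hi ha) hb)
    inv_mem' := fun {a} ha => by
      rcases ha with ha | ha
      · exact Or.inl (inv_mem ha)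
      · refine Or.inr ?_
        rw [show y⁻¹ * a⁻¹ = y⁻¹ * ((y⁻¹ * a)⁻¹) * y * (y * y)⁻¹ by group]
        exact mul_mem (hi (inv_mem ha)) (inv_mem hy2) }, fun x => Iff.rfl⟩

theorem dih_two (hG : ∀ f : G →* ℤˣ, f = 1) (hidx : ∀ H : Subgroup G, H.index ≠ 2) (hm : Model t T D)
    (hd : DihData D σ m) (S : Sylow 2 G) (hTS : T ≤ (S : Subgroup G))
    (hS2 : Nat.card ↥(S : Subgroup G) = 2 * Nat.card T) : False := by
  classical
  haveI : Fact (Nat.Prime 2) := ⟨Nat.prime_two⟩
  have hTpos : 0 < Nat.card T := Nat.card_pos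
  have hne : T ≠ (S : Subgroup G) := fun e => by rw [← e] at hS2; omega
  have hf := exists_fused hm hd S.isPGroup' hTS hne
  set z := σ ^ 2 ^ (m - 2) with hz
  have hzD : z ∈ D := hd.half_mem
  have hzi : z⁻¹ = z := inv_eq_of_mul_eq_one_right hd.half_sq
  have hzt : z * t = t * z := hm.comm (hm.DT hzD)
  have hrel : T.relIndex (S : Subgroup G) = 2 := relIndex_two hTS hS2
  have hmul : ∀ {a b : G}, a ∈ (S : Subgroup G) → b ∈ (S : Subgroup G) → a ∉ T → b ∉ T → a * b ∈ T := by
    intro a b ha hb haT hbT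
    exact (mul_mem_iff_of_index_two (H := T.subgroupOf (S : Subgroup G)) hrel (a := ⟨a, ha⟩) (b := ⟨b, hb⟩)).2
      (iff_of_false haT hbT)
  have hnT : ∀ s ∈ (S : Subgroup G), s ∈ normalizer (T : Set G) := fun s hs =>
    mem_normalizer_of_forall fun y hy => by
      by_cases hsT : s ∈ T
      · exact mul_mem (mul_mem hsT hy) (inv_mem hsT)
      · exact hmul (mul_mem hs (hTS hy)) (inv_mem hs) (fun h => hsT ((mul_mem_cancel_right hy).1 h))
          (fun h => hsT (inv_mem_iff.1 h))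
  have hnD : ∀ s ∈ (S : Subgroup G), s ∈ normalizer (D : Set G) := fun s hs => hf.normalizer_le hm hd (hnT s hs)
  have hi : ∀ {s d : G}, s ∈ normalizer (D : Set G) → d ∈ D → s⁻¹ * d * s ∈ D := fun {s d} hs hd' => by
    have := conj_mem_of_normalizer ((normalizer (D : Set G)).inv_mem hs) hd'
    rwa [inv_inv] at this
  have hfix : ∀ s ∈ (S : Subgroup G), s ∉ T → s * t * s⁻¹ = z * t := by
    intro s hs hsT
    have hn := hnT s hs
    have hmem := conj_mem_of_normalizer hn hm.tT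
    have hK : IsConj t (s * t * s⁻¹) := _root_.isConj_iff.2 ⟨s, rfl⟩
    have hc : ∀ y ∈ T, s * t * s⁻¹ * y = y * (s * t * s⁻¹) := fun y hy => by
      have h := hm.comm (conj_mem_of_normalizer ((normalizer (T : Set G)).inv_mem hn) hy)
      calc s * t * s⁻¹ * y = s * (t * (s⁻¹ * y * s⁻¹⁻¹)) * s⁻¹ := by group
        _ = s * ((s⁻¹ * y * s⁻¹⁻¹) * t) * s⁻¹ := by rw [h]
        _ = y * (s * t * s⁻¹) := by group
    rcases hm.center_cases hd hmem hc with e | e | e | e
    · exact absurd (conj_eq_one_iff.1 e) hm.t1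
    · exact absurd (hm.mem_of_comm S.isPGroup' hTS hs (mul_inv_eq_iff_eq_mul.1 e)) hsT
    · rw [e] at hK; exact absurd hK (hf.notK _ hzD)
    · exact e
  by_cases hfour : ∃ y ∈ (S : Subgroup G), y ∉ T ∧ y * y ∈ D
  · obtain ⟨y₀, hy₀S, hy₀T, hy₀2⟩ := hfour
    obtain ⟨b, hb, ⟨k, hk, htot⟩, hout⟩ := hm.parity hG S
    have hb1 : b = 1 := by
      have h : 2 ^ b = 2 ^ 1 := Nat.eq_of_mul_eq_mul_right hTpos (by rw [← hb, hS2]; norm_num)
      exact Nat.pow_right_injective le_rfl h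
    subst hb1
    have hKsq : ∀ {x : G}, IsConj t x → x * x ∈ D := fun {x} h => by rw [hf.sqK h]; exact one_mem D
    have hyt : ∀ y ∈ (S : Subgroup G), y ∉ T → y * y ∈ D →
        (y * t) * (y * t) ∈ D ∧ y * t ∈ (S : Subgroup G) ∧ y * t ∉ T := by
      intro y hy hyT hy2
      refine ⟨?_, mul_mem hy (hTS hm.tT), fun h => hyT ((mul_mem_cancel_right hm.tT).1 h)⟩
      have h1 : y⁻¹ * t * y = z * t := by
        have := hfix y⁻¹ ((S : Subgroup G).inv_mem hy) (fun h => hyT (inv_mem_iff.1 h))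
        rwa [inv_inv] at this
      rw [show y * t * (y * t) = y * y * ((y⁻¹ * t * y) * t) by group, h1, mul_assoc z t t, hm.t2, mul_one]
      exact mul_mem hy2 hzD
    have hsplitS : ∀ y ∈ (S : Subgroup G), y ∉ T → ∀ x ∈ (S : Subgroup G), x ∉ T →
        y⁻¹ * x ∈ D ∨ (y * t)⁻¹ * x ∈ D := by
      intro y hy hyT x hx hxT
      have hu : y⁻¹ * x ∈ T := hmul ((S : Subgroup G).inv_mem hy) hx (fun h => hyT (inv_mem_iff.1 h)) hxT
      rcases hm.split _ hu with h | h
      · exact Or.inl h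
      · refine Or.inr ?_
        rw [mul_inv_rev, inv_eq_of_mul_eq_one_right hm.t2, mul_assoc, hm.t_mul hu]
        exact h
    set c := (conjIn t T).ncard with hc
    have hcard := hf.card_conjIn hm hd
    have hKT : (conjIn t T) ∩ (D : Set G) = ∅ := by
      ext x
      exact ⟨fun h => hf.notK x h.2 h.1.1, fun h => h.elim⟩
    set X : G → Set G := fun y => {x | IsConj t x ∧ y⁻¹ * x ∈ D} with hX
    have hXS : ∀ y ∈ (S : Subgroup G), y ∉ T → ∀ x ∈ X y, x ∈ (S : Subgroup G) ∧ x ∉ T := by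
      intro y hy hyT x hx
      have e : x = y * (y⁻¹ * x) := by group
      refine ⟨e ▸ mul_mem hy (hTS (hm.DT hx.2)), fun h => hyT ?_⟩
      rw [show y = x * (y⁻¹ * x)⁻¹ by group]
      exact mul_mem h (inv_mem (hm.DT hx.2))
    -- each coset carries `2` modulo `4` conjugates
    have htwo : ∀ y ∈ (S : Subgroup G), y ∉ T → y * y ∈ D → (X y).ncard % 4 = 2 := by
      intro y hy hyT hy2
      obtain ⟨h1, h2, h3⟩ := hyt y hy hyT hy2
      obtain ⟨M, hM⟩ := exists_ext (hnD _ h2) h1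
      have hMS : M ≤ (S : Subgroup G) := fun x hx => by
        rcases (hM x).1 hx with h | h
        · exact hTS (hm.DT h)
        · rw [show x = y * t * ((y * t)⁻¹ * x) by group]; exact mul_mem h2 (hTS (hm.DT h))
      have htM : t ∉ M := fun h => by
        rcases (hM t).1 h with h' | h'
        · exact hm.tD h'
        · refine h3 ?_
          rw [show y * t = t * ((y * t)⁻¹ * t)⁻¹ by group]
          exact mul_mem hm.tT (inv_mem (hm.DT h'))
      have hrelM : M.relIndex (S : Subgroup G) = 2 := by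
        rw [relIndex, index_eq_two_iff]
        refine ⟨⟨t, hTS hm.tT⟩, fun x => ?_⟩
        by_cases hxM : (x : G) ∈ M
        · exact Or.inr ⟨hxM, fun h => htM ((mul_mem_cancel_left hxM).1 h)⟩
        · refine Or.inl ⟨?_, hxM⟩
          show (x : G) * t ∈ M
          refine (hM _).2 ?_
          by_cases hxT : (x : G) ∈ T
          · exact Or.inl ((hm.split _ hxT).resolve_left fun h => hxM ((hM _).2 (Or.inl h)))
          · refine (hsplitS (y * t) h2 h3 ((x : G) * t) (mul_mem x.2 (hTS hm.tT))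
              fun h => hxT ((mul_mem_cancel_right hm.tT).1 h)).elim Or.inr fun h => ?_
            rw [mul_assoc y t t, hm.t2, mul_one] at h
            exfalso
            rcases hsplitS y hy hyT x x.2 hxT with h' | h'
            · have := mul_mem (inv_mem h') h
              rw [show (y⁻¹ * (x : G))⁻¹ * (y⁻¹ * ((x : G) * t)) = t by group] at this
              exact hm.tD this
            · exact hxM ((hM _).2 (Or.inr h'))
      have hset : conjIn t (S : Subgroup G) \ (M : Set G) = conjIn t T ∪ X y := by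
        ext x
        constructor
        · rintro ⟨⟨hK, hxS⟩, hxM⟩
          by_cases hxT : x ∈ T
          · exact Or.inl ⟨hK, hxT⟩
          · exact Or.inr ⟨hK, (hsplitS y hy hyT x hxS hxT).resolve_right fun h => hxM ((hM x).2 (Or.inr h))⟩
        · rintro (⟨hK, hxT⟩ | hx)
          · refine ⟨⟨hK, hTS hxT⟩, fun hxM => ?_⟩
            rcases (hM x).1 hxM with h | h
            · exact hf.notK x h hK
            · refine h3 ?_
              rw [show y * t = x * ((y * t)⁻¹ * x)⁻¹ by group]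
              exact mul_mem hxT (inv_mem (hm.DT h))
          · obtain ⟨hxS, hxT⟩ := hXS y hy hyT x hx
            refine ⟨⟨hx.1, hxS⟩, fun hxM => ?_⟩
            rcases (hM x).1 hxM with h | h
            · exact hxT (hm.DT h)
            · have h4 := mul_mem h (inv_mem hx.2)
              rw [show (y * t)⁻¹ * x * (y⁻¹ * x)⁻¹ = t⁻¹ by group] at h4
              exact hm.tD (inv_mem_iff.1 h4)
      have hd4 := hout M hMS hrelM
      rw [hset, Set.ncard_union_eq (by
        rw [Set.disjoint_left]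
        intro x hx hx'
        exact (hXS y hy hyT x hx').2 hx.2) (Set.toFinite _) (Set.toFinite _), hcard] at hd4
      obtain ⟨q, hq⟩ := hd4
      obtain ⟨r, hr⟩ : 4 ∣ 2 ^ (m - 1) := Nat.pow_dvd_pow 2 (show 2 ≤ m - 1 by have := hd.three; omega)
      norm_num at hq
      omega
    obtain ⟨x, ⟨hxK, hxy⟩, hxle⟩ := exists_short S.isPGroup' (X := X y₀) (b := 1) (fun s hs x hx => by
      refine ⟨hx.1.trans (_root_.isConj_iff.2 ⟨s, rfl⟩), ?_⟩
      obtain ⟨hxS, hxT⟩ := hXS y₀ hy₀S hy₀T x hx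
      have hs' : s * y₀ * s⁻¹ ∈ (S : Subgroup G) := mul_mem (mul_mem hs hy₀S) (inv_mem hs)
      have hkey : y₀⁻¹ * (s * y₀ * s⁻¹) ∈ D := by
        have key : ∀ u ∈ T, y₀⁻¹ * u * y₀ * u⁻¹ ∈ D := fun u hu => by
          obtain ⟨d, hdD, rfl | rfl⟩ := hm.mem_cases hu
          · exact mul_mem (hi (hnD y₀ hy₀S) hdD) (inv_mem hdD)
          · have h1 : y₀⁻¹ * t * y₀ = z * t := by
              have := hfix y₀⁻¹ ((S : Subgroup G).inv_mem hy₀S) (fun h => hy₀T (inv_mem_iff.1 h))
              rwa [inv_inv] at this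
            rw [show y₀⁻¹ * (d * t) * y₀ * (d * t)⁻¹ = (y₀⁻¹ * d * y₀) * ((y₀⁻¹ * t * y₀) * t⁻¹) * d⁻¹ by group,
              h1, mul_inv_cancel_right]
            exact mul_mem (mul_mem (hi (hnD y₀ hy₀S) hdD) hzD) (inv_mem hdD)
        by_cases hsT : s ∈ T
        · rw [show y₀⁻¹ * (s * y₀ * s⁻¹) = y₀⁻¹ * s * y₀ * s⁻¹ by group]
          exact key s hsT
        · have hu := hmul ((S : Subgroup G).inv_mem hy₀S) hs (fun h => hy₀T (inv_mem_iff.1 h)) hsT
          rw [show y₀⁻¹ * (s * y₀ * s⁻¹) = (y₀⁻¹ * s) * y₀ * (y₀⁻¹ * s)⁻¹ * y₀⁻¹ by group]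
          set u := y₀⁻¹ * s
          have h2 := conj_mem_of_normalizer (hnD y₀ hy₀S) (inv_mem (key u hu))
          rw [show y₀ * (y₀⁻¹ * u * y₀ * u⁻¹)⁻¹ * y₀⁻¹ = y₀ * u * y₀⁻¹ * u⁻¹ by group] at h2
          rw [show u * y₀ * u⁻¹ * y₀⁻¹ = (y₀ * u * y₀⁻¹ * u⁻¹)⁻¹ by group]
          exact inv_mem h2
      have h3 := mul_mem hkey (conj_mem_of_normalizer (hnD s hs) hx.2)
      rwa [show y₀⁻¹ * (s * y₀ * s⁻¹) * (s * (y₀⁻¹ * x) * s⁻¹) = y₀⁻¹ * (s * x * s⁻¹) by group] at h3) (by
      have := htwo y₀ hy₀S hy₀T hy₀2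
      omega)
    obtain ⟨hxS, hxT⟩ := hXS y₀ hy₀S hy₀T x ⟨hxK, hxy⟩
    set C := (S : Subgroup G) ⊓ centralizer ({x} : Set G) with hC
    have hCidx : C.relIndex (S : Subgroup G) ≤ 2 := by
      have e := (C.subgroupOf (S : Subgroup G)).card_mul_index
      rw [Nat.card_congr (subgroupOfEquivOfLe (inf_le_left : C ≤ (S : Subgroup G))).toEquiv] at e
      rw [← e, pow_one] at hxle
      exact Nat.le_of_mul_le_mul_left (by rw [mul_comm _ 2]; exact hxle) Nat.card_pos
    have hCT : C.relIndex T ≤ 2 := (relIndex_le_of_le_right hTS (by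
      rw [relIndex]; exact index_ne_zero_of_finite)).trans hCidx
    have hxx := hf.sqK hxK
    have hxi : x⁻¹ = x := inv_eq_of_mul_eq_one_right hxx
    have hxt : x * t * x = z * t := by
      have := hfix x hxS hxT; rwa [hxi] at this
    have htC : t ∉ C := fun h => hxT (hm.mem_of_comm S.isPGroup' hTS hxS (mem_centralizer_singleton_iff.1 h.2).symm)
    have hact : ∀ d ∈ D, x * d * x = d ∨ x * d * x = d * z := by
      intro d hdD
      by_cases hdC : d ∈ C
      · left
        rw [← mem_centralizer_singleton_iff.1 hdC.2, mul_assoc, hxx, mul_one]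
      · right
        have h2 : (C.subgroupOf T).index = 2 := by
          have h1 : (C.subgroupOf T).index ≠ 1 := fun e =>
            htC (mem_subgroupOf.1 (index_eq_one.1 e ▸ mem_top (⟨t, hm.tT⟩ : T)))
          have h0 : (C.subgroupOf T).index ≠ 0 := index_ne_zero_of_finite
          have h3 : (C.subgroupOf T).index ≤ 2 := hCT
          omega
        have hdt : d * t ∈ C := (mul_mem_iff_of_index_two h2 (a := ⟨d, hm.DT hdD⟩) (b := ⟨t, hm.tT⟩)).2
          (iff_of_false hdC htC)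
        have h4 : x * (d * t) * x = d * t := by
          rw [← mem_centralizer_singleton_iff.1 hdt.2, mul_assoc, hxx, mul_one]
        have h5 : x * d * x * (z * t) = d * t := by
          rw [← hxt, show x * d * x * (x * t * x) = x * d * (x * x) * t * x by group, hxx, mul_one,
            mul_assoc x d t]
          exact h4
        rw [← mul_assoc] at h5
        calc x * d * x = x * d * x * z * z := by rw [mul_assoc _ z z, hd.half_sq, mul_one]
          _ = d * z := by rw [mul_right_cancel h5]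
    obtain ⟨hxt2, hxtS, hxtT⟩ := hyt x hxS hxT (hKsq hxK)
    obtain ⟨y, hyK, hyd⟩ : ∃ y, IsConj t y ∧ (x * t)⁻¹ * y ∈ D := by
      have h := htwo (x * t) hxtS hxtT hxt2
      obtain ⟨y, hy⟩ := Set.nonempty_of_ncard_ne_zero (s := X (x * t)) (fun e => by rw [e] at h; omega)
      exact ⟨y, hy⟩
    set d := (x * t)⁻¹ * y with hdy
    have hy : y = x * t * d := by rw [hdy]; group
    have hyy := hf.sqK hyK
    have htdd : ∀ e ∈ D, t * e = e * t := fun e he => hm.t_mul (hm.DT he)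
    have hd2 : x * d * x * d = z := by
      rw [hy] at hyy
      have e : x * t * d * (x * t * d) = z * (x * d * x * d) := by
        calc x * t * d * (x * t * d) = (x * t * x) * (x * d * x) * t * d := by
              rw [show x * t * x * (x * d * x) * t * d = x * t * (x * x) * d * x * t * d by group, hxx]
              group
          _ = z * (t * (x * d * x)) * t * d := by rw [hxt]; group
          _ = z * (x * d * x) * (t * t) * d := by
            rw [htdd (x * d * x) (by rcases hact d hyd with e | e <;> rw [e]; exacts [hyd, mul_mem hyd hzD])]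
            group
          _ = z * (x * d * x * d) := by rw [hm.t2, mul_one, mul_assoc z]
      rw [e] at hyy
      exact (eq_inv_of_mul_eq_one_right hyy).trans hzi
    rcases hact d hyd with hxd | hxd
    · -- `d` has order four
      rw [hxd] at hd2
      have hdσ : d ∈ zpowers σ := by
        rcases hd.cases d hyd with h | ⟨h, -⟩
        · exact h
        · exact absurd (hd2.symm.trans h) hd.half_ne
      have hdi : d⁻¹ = d * z := inv_eq_of_mul_eq_one_right (by rw [← mul_assoc, hd2, hd.half_sq])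
      obtain ⟨ρ, hρ, hρn⟩ := hd.exists_reflection
      obtain ⟨hdρ, hdρn, hdρ2⟩ := hd.mul_reflection hdσ hρ hρn
      have hρd : z * (ρ * d) = d * ρ := by
        have hρρ : ρ * ρ = 1 := ((hd.cases ρ hρ).resolve_left hρn).1
        have hρd0 : ρ * d = d⁻¹ * ρ := by
          rw [← hd.reflect_inv hdσ hρ hρn, mul_assoc _ ρ ρ, hρρ, mul_one]
        rw [hρd0, ← mul_assoc, hdi, ← mul_assoc, ← hd.half_comm hyd, mul_assoc d z z, hd.half_sq, mul_one]
      have hxdρ : x * (d * ρ) * x = d * (x * ρ * x) := by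
        calc x * (d * ρ) * x = x * d * (x * x) * ρ * x := by rw [hxx]; group
          _ = (x * d * x) * (x * ρ * x) := by group
          _ = _ := by rw [hxd]
      rcases hact ρ hρ with hxρ | hxρ
      · have haK : IsConj t (ρ * t) := hf.inK ρ hρ ((hd.cases ρ hρ).resolve_left hρn).1
        have e1 : y * (ρ * t) = x * (d * ρ) := by
          rw [hy, show x * t * d * (ρ * t) = x * (t * (d * ρ)) * t by group, htdd _ hdρ,
            show x * (d * ρ * t) * t = x * (d * ρ) * (t * t) by group, hm.t2, mul_one]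
        have e2 : ρ * t * y = x * (d * ρ) := by
          have hρx : ρ * x = x * ρ := by
            calc ρ * x = (x * ρ * x) * x := by rw [hxρ]
              _ = x * ρ * (x * x) := by group
              _ = x * ρ := by rw [hxx, mul_one]
          rw [hy, show ρ * t * (x * t * d) = ρ * (x * x) * (t * x * t) * d by rw [hxx]; group,
            show ρ * (x * x) * (t * x * t) * d = (ρ * x) * (x * t * x) * t * d by group, hxt,
            mul_assoc (ρ * x) (z * t) t, mul_assoc z t t, hm.t2, mul_one, hρx,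
            mul_assoc x ρ z, mul_assoc x (ρ * z) d, hd.half_comm hρ, mul_assoc z ρ d, hρd]
        have hK1 : ¬ IsConj t (x * (d * ρ)) := by
          rw [← e1]; exact hf.mul_not hm hyK haK (e2.trans e1.symm)
        refine hK1 (hf.mul_conj hm hxK hdρ2 (hf.notK _ hdρ) ?_)
        have h := hxdρ
        rw [hxρ] at h
        calc d * ρ * x = x * (x * (d * ρ) * x) := by
              rw [show x * (x * (d * ρ) * x) = (x * x) * (d * ρ) * x by group, hxx, one_mul]
          _ = x * (d * ρ) := by rw [h]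
      · have e1 : y * ρ = x * (d * ρ * t) := by
          rw [hy, show x * t * d * ρ = x * (t * (d * ρ)) by group, htdd _ hdρ]
        have e2 : ρ * y = x * (d * ρ * t) := by
          rw [hy, show ρ * (x * t * d) = (x * x) * ρ * x * (t * d) by rw [hxx]; group,
            show x * x * ρ * x * (t * d) = x * ((x * ρ * x) * (t * d)) by group, hxρ, htdd d hyd,
            show ρ * z * (d * t) = (ρ * z * d) * t by group, hd.half_comm hρ, mul_assoc z ρ d, hρd]
        have hK1 : IsConj t (x * (d * ρ * t)) :=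
          e1 ▸ hf.mul_conj hm hyK ((hd.cases ρ hρ).resolve_left hρn).1 (hf.notK ρ hρ) (e2.trans e1.symm)
        refine hf.mul_not hm hxK (hf.inK _ hdρ hdρ2) ?_ hK1
        have h := hxdρ
        rw [hxρ] at h
        have h2 : x * (d * ρ * t) * x = d * ρ * t := by
          calc x * (d * ρ * t) * x = x * (d * ρ) * (x * x) * t * x := by rw [hxx]; group
            _ = (x * (d * ρ) * x) * (x * t * x) := by group
            _ = d * ρ * (z * z) * t := by rw [h, hxt]; group
            _ = d * ρ * t := by rw [hd.half_sq, mul_one]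
        calc d * ρ * t * x = x * (x * (d * ρ * t) * x) := by
              rw [show x * (x * (d * ρ * t) * x) = (x * x) * (d * ρ * t) * x by group, hxx, one_mul]
          _ = x * (d * ρ * t) := by rw [h2]
    · rw [hxd, mul_assoc d z d, ← hd.half_comm hyd, ← mul_assoc] at hd2
      have hd22 : d * d = 1 := mul_right_cancel (hd2.trans (one_mul z).symm)
      have hc2 : x * (d * t) * x = d * t := by
        calc x * (d * t) * x = x * d * (x * x) * t * x := by rw [hxx]; group
          _ = (x * d * x) * (x * t * x) := by group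
          _ = d * (z * z) * t := by rw [hxd, hxt]; group
          _ = d * t := by rw [hd.half_sq, mul_one]
      refine hf.mul_not hm hxK (hf.inK d hyd hd22) ?_ (?_ : IsConj t (x * (d * t)))
      · calc d * t * x = x * (x * (d * t) * x) := by
              rw [show x * (x * (d * t) * x) = (x * x) * (d * t) * x by group, hxx, one_mul]
          _ = x * (d * t) := by rw [hc2]
      · rwa [← htdd d hyd, ← mul_assoc, ← hy]
  -- no square outside `T` lies in `D`
  push_neg at hfour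
  have hm3 := hd.three
  obtain ⟨M, hM⟩ : ∃ M, M = 2 ^ (m - 3) := ⟨_, rfl⟩
  have hMpos : 0 < M := hM ▸ Nat.two_pow_pos _
  have hN : 2 ^ (m - 1) = 4 * M := by
    rw [hM, show (4 : ℕ) = 2 ^ 2 from rfl, ← pow_add]; congr 1; omega
  have hzM : z = σ ^ (2 * M) := by
    rw [hz, hM, ← pow_succ', show m - 3 + 1 = m - 2 by omega]
  have hmod : ∀ a b : ℕ, σ ^ a = σ ^ b ↔ (4 * M : ℤ) ∣ (b : ℤ) - a := fun a b => by
    rw [pow_eq_pow_iff_modEq, hd.order, hN, Nat.modEq_iff_dvd]; push_cast; rfl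
  have hdata : ∀ s ∈ (S : Subgroup G), s ∉ T → ∃ k i : ℕ, s * σ * s⁻¹ = σ ^ k ∧ s * s = σ ^ i * t ∧
      (4 * M : ℤ) ∣ (k : ℤ) * k - 1 ∧ (4 * M : ℤ) ∣ ((k : ℤ) - 1) * i - 2 * M := by
    intro s hs hsT
    have hsσ : s * σ * s⁻¹ ∈ zpowers σ := by
      rcases hd.cases _ (conj_mem_of_normalizer (hnD s hs) hd.mem) with h | ⟨h, -⟩
      · exact h
      · exact absurd (by
          rw [show σ * σ = s⁻¹ * (s * σ * s⁻¹ * (s * σ * s⁻¹)) * s by group, h]; group) hd.sigma_sq_ne
    obtain ⟨k, hk⟩ := (isOfFinOrder_of_finite σ).mem_powers_iff_mem_zpowers.2 hsσ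
    have hk : σ ^ k = s * σ * s⁻¹ := hk
    have hu : s * s ∈ T := hmul hs hs hsT hsT
    have hdD : s * s * t ∈ D := (hm.split _ hu).resolve_left (hfour s hs hsT)
    set d := s * s * t with hdd
    have hss : s * s = d * t := by rw [hdd, mul_assoc, hm.t2, mul_one]
    have hcj : s * d * s⁻¹ = d * z := by
      rw [hdd, show s * (s * s * t) * s⁻¹ = s * s * (s * t * s⁻¹) by group, hfix s hs hsT,
        mul_assoc (s * s) t z, ← hzt]
    have hk2 : d * σ * d⁻¹ = σ ^ (k * k) := by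
      have h2 : s * s * σ * (s * s)⁻¹ = σ ^ (k * k) := by
        rw [show s * s * σ * (s * s)⁻¹ = s * (s * σ * s⁻¹) * s⁻¹ by group, ← hk, ← conj_pow, ← hk, ← pow_mul]
      rw [hss] at h2
      rw [← h2, show d * t * σ * (d * t)⁻¹ = d * (t * σ) * t⁻¹ * d⁻¹ by group, hm.t_mul (hm.DT hd.mem)]
      group
    rcases hd.cases d hdD with hp | ⟨-, hinv⟩
    · obtain ⟨i, hi⟩ := (isOfFinOrder_of_finite σ).mem_powers_iff_mem_zpowers.2 hp
      have hi : σ ^ i = d := hi
      refine ⟨k, i, hk.symm, hi ▸ hss, ?_, ?_⟩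
      · have e : σ ^ 1 = σ ^ (k * k) := by
          rw [← hk2, pow_one, ← hi, ← pow_succ, pow_succ', mul_inv_cancel_right]
        have h := (hmod _ _).1 e
        push_cast at h
        exact h
      · have e : σ ^ (i + 2 * M) = σ ^ (k * i) := by
          rw [pow_add, ← hzM, hi, ← hcj, ← hi, ← conj_pow, ← hk, ← pow_mul]
        have h := (hmod _ _).1 e
        push_cast at h
        rw [show ((k : ℤ) - 1) * i - 2 * M = (k : ℤ) * i - (i + 2 * M) by ring]
        exact h
    · exfalso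
      rw [hinv] at hk2
      have e : σ ^ 0 = σ ^ (k * k + 1) := by rw [pow_zero, pow_succ, ← hk2, inv_mul_cancel]
      have h := (hmod _ _).1 e
      push_cast at h
      obtain ⟨q, hq⟩ := h
      rcases Int.emod_two_eq (k : ℤ) with hk' | hk'
      · obtain ⟨r, hr⟩ : (2 : ℤ) ∣ k := Int.dvd_of_emod_eq_zero hk'
        rw [hr] at hq
        ring_nf at hq
        have h4 : ((1 : ℤ) % 4) = 0 := by
          have : (1 : ℤ) = 4 * (M * q - r ^ 2) := by linear_combination hq
          omega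
        norm_num at h4
      · obtain ⟨r, hr⟩ : ∃ r, (k : ℤ) = 2 * r + 1 := ⟨(k : ℤ) / 2, by omega⟩
        rw [hr] at hq
        have : (2 : ℤ) = 4 * (M * q - r ^ 2 - r) := by linear_combination hq
        omega
  -- the two kinds of elements outside `T`
  have hodd : ∀ {k : ℕ}, (4 * M : ℤ) ∣ (k : ℤ) * k - 1 → ∃ r : ℤ, (k : ℤ) = 4 * r + 1 ∨ (k : ℤ) = 4 * r + 3 := by
    intro k h
    refine ⟨(k : ℤ) / 4, ?_⟩
    obtain ⟨q, hq⟩ := h
    rcases Int.emod_two_eq (k : ℤ) with hk' | hk'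
    · obtain ⟨r, hr⟩ : (2 : ℤ) ∣ k := Int.dvd_of_emod_eq_zero hk'
      rw [hr] at hq
      have : (1 : ℤ) = 4 * (r ^ 2 - M * q) := by linear_combination -hq
      omega
    · omega
  have hthree : ∀ {s : G} {k i : ℕ} {r : ℤ}, s * s = σ ^ i * t → (k : ℤ) = 4 * r + 3 →
      (4 * M : ℤ) ∣ ((k : ℤ) - 1) * i - 2 * M → ∃ j, i = M * j ∧ Odd j ∧ orderOf s = 8 := by
    intro s k i r hss hk hdvd
    obtain ⟨q, hq⟩ := hdvd
    rw [hk] at hq
    have h1 : (M : ℤ) * (2 * q + 1) = (2 * r + 1) * i := by linarith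
    have hco : IsCoprime (M : ℤ) (2 * r + 1) := by
      rw [hM]; push_cast
      exact IsCoprime.pow_left ⟨-r, 1, by ring⟩
    obtain ⟨j, hj⟩ : M ∣ i := by
      have : (M : ℤ) ∣ (i : ℤ) := hco.dvd_of_dvd_mul_left ⟨2 * q + 1, h1.symm⟩
      exact_mod_cast this
    have h2 : (2 * r + 1) * (j : ℤ) = 2 * q + 1 := by
      have : (i : ℤ) = M * j := by exact_mod_cast hj
      rw [this] at h1
      refine mul_left_cancel₀ (show (M : ℤ) ≠ 0 by exact_mod_cast hMpos.ne') ?_
      linear_combination -h1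
    have hjodd : Odd j := by
      rcases Nat.even_or_odd j with ⟨l, hl⟩ | h
      · exfalso
        rw [hl] at h2; push_cast at h2
        have : (1 : ℤ) = 2 * ((2 * r + 1) * l - q) := by linear_combination -h2
        omega
      · exact h
    refine ⟨j, hj, hjodd, ?_⟩
    obtain ⟨l, hl⟩ := hjodd
    have h4 : s ^ 4 = z := by
      rw [show (4 : ℕ) = 2 + 2 from rfl, pow_add, pow_two, hss, hm.sq_dt (pow_mem hd.mem i), ← pow_add, hzM,
        hmod, hj, hl]
      push_cast
      exact ⟨-(l : ℤ), by ring⟩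
    refine orderOf_eq_prime_pow (p := 2) (n := 2) ?_ ?_
    · rw [show (2 : ℕ) ^ 2 = 4 from rfl, h4]; exact hd.half_ne
    · rw [show (2 : ℕ) ^ (2 + 1) = 4 + 4 from rfl, pow_add, h4, hd.half_sq]
  have hsplit4 : ∀ {M' : ℕ}, M' = 2 ^ (m - 3) → M' = 1 ∨ 2 ∣ M' := fun {M'} h => by
    rcases Nat.eq_zero_or_pos (m - 3) with e | e
    · exact Or.inl (by rw [h, e, pow_zero])
    · exact Or.inr (h ▸ dvd_pow_self 2 e.ne')
  have hone : ∀ {s : G} {k i : ℕ} {r : ℤ}, s * s = σ ^ i * t → (k : ℤ) = 4 * r + 1 →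
      (4 * M : ℤ) ∣ (k : ℤ) * k - 1 → (4 * M : ℤ) ∣ ((k : ℤ) - 1) * i - 2 * M →
      2 ∣ M ∧ s ^ (4 * M) = z := by
    intro s k i r hss hk hsq hdvd
    obtain ⟨q, hq⟩ := hdvd
    rw [hk] at hq
    rcases hsplit4 hM with h1 | h1
    · exfalso
      rw [h1] at hq; push_cast at hq
      have : (2 : ℤ) = 4 * (r * i - q) := by linear_combination -hq
      omega
    refine ⟨h1, ?_⟩
    obtain ⟨p, hp⟩ := hsq
    rw [hk] at hp
    have hi : Odd i := by
      rcases Nat.even_or_odd i with ⟨l, hl⟩ | h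
      · exfalso
        rw [hl] at hq; push_cast at hq
        have h5 : (2 : ℤ) * (2 * r * l) = M * (2 * q + 1) := by linarith
        have h6 : (M : ℤ) * p = r * (4 * r + 2) := by linarith
        obtain ⟨M₁, hM₁⟩ : (2 : ℤ) ∣ M := by exact_mod_cast h1
        have h7 : (2 * r + 1) * (2 * r) = 2 * M₁ * p := by rw [hM₁] at h6; linarith
        have h8 : (2 * r + 1) * r = M₁ * p := by linarith
        have h9 : 2 * r * l = M₁ * (2 * q + 1) := by rw [hM₁] at h5; linarith
        have h10 : M₁ * (2 * p * l) = M₁ * ((2 * r + 1) * (2 * q + 1)) := by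
          linear_combination (2 * r + 1) * h9 - 2 * (l : ℤ) * h8
        have hM0 : M₁ ≠ 0 := fun e => by
          rw [e, mul_zero] at hM₁
          exact hMpos.ne' (by exact_mod_cast hM₁)
        have h11 := mul_left_cancel₀ hM0 h10
        have : (1 : ℤ) = 2 * (p * l - 2 * r * q - r - q) := by linear_combination -h11
        omega
      · exact h
    obtain ⟨l, hl⟩ := hi
    rw [show 4 * M = 2 * (2 * M) by ring, pow_mul, pow_two, hss,
      (show Commute (σ ^ i) t from hm.comm (hm.DT (pow_mem hd.mem i))).mul_pow, ← pow_mul,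
      show t ^ (2 * M) = 1 by rw [pow_mul, pow_two, hm.t2, one_pow], mul_one, hzM, hmod, hl]
    push_cast
    exact ⟨-(l : ℤ), by ring⟩
  obtain ⟨s₀, hs₀, hs₀T⟩ : ∃ s ∈ (S : Subgroup G), s ∉ T := by
    by_contra! hall
    exact hne (le_antisymm hTS hall)
  obtain ⟨ρ, hρ, hρn⟩ := hd.exists_reflection
  have hflip : ∀ s ∈ (S : Subgroup G), s ∉ T → ∀ k : ℕ, s * σ * s⁻¹ = σ ^ k →
      ∀ k' : ℕ, s * ρ * σ * (s * ρ)⁻¹ = σ ^ k' → (4 : ℤ) ∣ (k : ℤ) + k' := fun s _ _ k hk k' hk' => by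
    rw [show s * ρ * σ * (s * ρ)⁻¹ = s * (ρ * σ * ρ⁻¹) * s⁻¹ by group, ((hd.cases ρ hρ).resolve_left hρn).2,
      show s * σ⁻¹ * s⁻¹ = (s * σ * s⁻¹)⁻¹ by group, hk] at hk'
    have e : σ ^ 0 = σ ^ (k + k') := by rw [pow_zero, pow_add, ← hk', mul_inv_cancel]
    have h := (hmod _ _).1 e
    push_cast at h
    rw [sub_zero] at h
    exact (Dvd.intro _ rfl).trans h
  have hρT : s₀ * ρ ∉ T := fun h => hs₀T ((mul_mem_cancel_right (hm.DT hρ)).1 h)
  have hρS : s₀ * ρ ∈ (S : Subgroup G) := mul_mem hs₀ (hTS (hm.DT hρ))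
  obtain ⟨⟨a, ka, ia, ra, haS, haT, hka, haa, hka3, hda⟩, ⟨y, ky, iy, ry, hyS, hyT, hky, hyy, hky1, hsy, hdy⟩⟩ :
      (∃ (a : G) (k i : ℕ) (r : ℤ), a ∈ (S : Subgroup G) ∧ a ∉ T ∧ a * σ * a⁻¹ = σ ^ k ∧ a * a = σ ^ i * t ∧
        (k : ℤ) = 4 * r + 3 ∧ (4 * M : ℤ) ∣ ((k : ℤ) - 1) * i - 2 * M) ∧
      (∃ (y : G) (k i : ℕ) (r : ℤ), y ∈ (S : Subgroup G) ∧ y ∉ T ∧ y * σ * y⁻¹ = σ ^ k ∧ y * y = σ ^ i * t ∧
        (k : ℤ) = 4 * r + 1 ∧ (4 * M : ℤ) ∣ (k : ℤ) * k - 1 ∧ (4 * M : ℤ) ∣ ((k : ℤ) - 1) * i - 2 * M) := by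
    obtain ⟨k, i, h1, h2, h3, h4⟩ := hdata s₀ hs₀ hs₀T
    obtain ⟨k', i', h1', h2', h3', h4'⟩ := hdata _ hρS hρT
    obtain ⟨q, hq⟩ := hflip s₀ hs₀ hs₀T k h1 k' h1'
    obtain ⟨r, hr | hr⟩ := hodd h3
    · exact ⟨⟨_, k', i', q - r - 1, hρS, hρT, h1', h2', by linarith, h4'⟩,
        ⟨s₀, k, i, r, hs₀, hs₀T, h1, h2, hr, h3, h4⟩⟩
    · exact ⟨⟨s₀, k, i, r, hs₀, hs₀T, h1, h2, hr, h4⟩,
        ⟨_, k', i', q - r - 1, hρS, hρT, h1', h2', by linarith, h3', h4'⟩⟩
  obtain ⟨j, hij, hj, ha8⟩ := hthree haa hka3 hda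
  obtain ⟨hM2, hy4⟩ := hone hyy hky1 hsy hdy
  -- transfer
  have hord : ∀ s ∈ (S : Subgroup G), s ∉ T → 2 ^ (3 - 1) < orderOf s := by
    intro s hs hsT
    obtain ⟨k, i, h1, h2, h3, h4⟩ := hdata s hs hsT
    obtain ⟨r, hr | hr⟩ := hodd h3
    · obtain ⟨-, he⟩ := hone h2 hr h3 h4
      by_contra! hle
      have hfin := orderOf_pos s
      have h8 : s ^ (4 * M) = 1 := by
        obtain ⟨c, hc⟩ := S.isPGroup' ⟨s, hs⟩
        have hc' : s ^ 2 ^ c = 1 := congrArg Subtype.val hc
        obtain ⟨e, -, he'⟩ := (Nat.dvd_prime_pow Nat.prime_two).1 (orderOf_dvd_of_pow_eq_one hc')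
        rw [he'] at hle
        refine orderOf_dvd_iff_pow_eq_one.1 (he'.symm ▸ ?_)
        exact (Nat.pow_dvd_pow 2 ((Nat.pow_le_pow_iff_right (le_refl 2)).1 hle)).trans (Dvd.intro _ rfl)
      exact hd.half_ne (he.symm.trans h8)
    · obtain ⟨-, -, -, h8⟩ := hthree h2 hr h4
      rw [h8]; norm_num
  obtain ⟨g, hg⟩ := S3225.result (even_iff_two_dvd.2 (by
    rw [← orderOf_eq_prime (p := 2) (by rw [pow_two]; exact hm.t2) hm.t1]; exact orderOf_dvd_natCard t))
    hidx S T hTS hrel 3 (by norm_num) hord a haS (by rw [ha8]; norm_num)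
  set w := a * a with hw
  set w' := g * w * g⁻¹ with hw'
  have hw'σ : w' ∈ zpowers σ := by
    rw [hw', hw, show g * (a * a) * g⁻¹ = g * a * g⁻¹ * (g * a * g⁻¹) by group]
    exact hm.sq_mem hd hg
  obtain ⟨i', hi'⟩ := (isOfFinOrder_of_finite σ).mem_powers_iff_mem_zpowers.2 hw'σ
  have hi' : σ ^ i' = w' := hi'
  have hi'M : (M : ℤ) ∣ i' := by
    have e : σ ^ 0 = σ ^ (i' * 4) := by
      rw [pow_zero, pow_mul, hi', hw', conj_pow, hw, show a * a = a ^ 2 from (pow_two a).symm, ← pow_mul,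
        show 2 * 4 = orderOf a by rw [ha8], pow_orderOf_eq_one, mul_one, mul_inv_cancel]
    have h := (hmod _ _).1 e
    push_cast at h
    obtain ⟨q, hq⟩ := h
    exact ⟨q, by linarith⟩
  have hyw' : y * w' * y⁻¹ = w' := by
    obtain ⟨e, he⟩ := hi'M
    rw [← hi', ← conj_pow, hky, ← pow_mul, hmod]
    push_cast
    exact ⟨-(ry * e), by rw [hky1, he]; ring⟩
  set y' := g⁻¹ * y * g with hy'
  have hy'w : y' * w = w * y' := by
    rw [hy', show w = g⁻¹ * w' * g by rw [hw']; group, show g⁻¹ * y * g * (g⁻¹ * w' * g) =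
      g⁻¹ * ((y * w' * y⁻¹) * y) * g by group, hyw']
    group
  -- `S` normalises `⟨w⟩`
  have hwT : w ∈ T := hmul haS haS haT haT
  have hwinv : w⁻¹ = σ ^ (i' * 0 + 3 * ia) * t := by
    refine inv_eq_of_mul_eq_one_right ?_
    rw [haa, show σ ^ ia * t * (σ ^ (i' * 0 + 3 * ia) * t) = σ ^ ia * (t * σ ^ (i' * 0 + 3 * ia)) * t by group,
      hm.t_mul (hm.DT (pow_mem hd.mem _)), show σ ^ ia * (σ ^ (i' * 0 + 3 * ia) * t) * t =
        σ ^ ia * σ ^ (i' * 0 + 3 * ia) * (t * t) by group, hm.t2, mul_one, ← pow_add, ← pow_zero σ, hmod, hij]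
    push_cast
    exact ⟨-(j : ℤ), by ring⟩
  have hσw : σ * w = w * σ := by
    rw [haa, ← mul_assoc, ← pow_succ', pow_succ, mul_assoc, mul_assoc, hm.t_mul (hm.DT hd.mem)]
  have hflipT : ∀ d ∈ T, d * w * d⁻¹ = w ∨ d * w * d⁻¹ = w⁻¹ := by
    intro u hu
    obtain ⟨d, hdD, hcase⟩ := hm.mem_cases hu
    have ht0 : t * w * t⁻¹ = w := by rw [hm.t_mul hwT, mul_inv_cancel_right]
    have hdw : d * w * d⁻¹ = w ∨ d * w * d⁻¹ = w⁻¹ := by
      rcases hd.cases d hdD with hp | ⟨-, hinv⟩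
      · obtain ⟨i, rfl⟩ := mem_zpowers_iff.1 hp
        exact Or.inl (by rw [((show Commute σ w from hσw).zpow_left i).eq, mul_inv_cancel_right])
      · refine Or.inr ?_
        rw [hwinv, haa, show d * (σ ^ ia * t) * d⁻¹ = d * σ ^ ia * (t * d⁻¹) by group,
          hm.t_mul (inv_mem (hm.DT hdD)), ← mul_assoc, ← conj_pow, hinv, inv_pow]
        congr 1
        refine inv_eq_of_mul_eq_one_right ?_
        rw [← pow_add, ← pow_zero σ, hmod, hij]
        push_cast
        exact ⟨-(j : ℤ), by ring⟩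
    rcases hcase with rfl | rfl
    · exact hdw
    · rw [show d * t * w * (d * t)⁻¹ = d * (t * w * t⁻¹) * d⁻¹ by group, ht0]; exact hdw
  have hSN : ∀ s ∈ (S : Subgroup G), s * w * s⁻¹ = w ∨ s * w * s⁻¹ = w⁻¹ := by
    intro s hs
    by_cases hsT : s ∈ T
    · exact hflipT s hsT
    · have hu : s * a⁻¹ ∈ T := hmul hs ((S : Subgroup G).inv_mem haS) hsT fun h => haT (inv_mem_iff.1 h)
      rw [show s * w * s⁻¹ = (s * a⁻¹) * w * (s * a⁻¹)⁻¹ by rw [hw]; group]
      exact hflipT _ hu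
  set N := normalizer (zpowers w : Set G) with hNdef
  have hSN' : (S : Subgroup G) ≤ N := fun s hs => mem_normalizer_of_forall fun x hx => by
    obtain ⟨e, rfl⟩ := mem_zpowers_iff.1 hx
    rw [← conj_zpow]
    rcases hSN s hs with h | h <;> rw [h]
    · exact zpow_mem (mem_zpowers w) _
    · exact zpow_mem (inv_mem (mem_zpowers w)) _
  have hy'N : y' ∈ N := mem_normalizer_of_forall fun x hx => by
    obtain ⟨e, rfl⟩ := mem_zpowers_iff.1 hx
    rw [← conj_zpow, hy'w, mul_inv_cancel_right]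
    exact zpow_mem (mem_zpowers w) _
  have hZ2 : IsPGroup 2 (zpowers y') := by
    have : IsPGroup 2 (zpowers y) := S.isPGroup'.to_le (Subgroup.zpowers_le.2 hyS)
    have h2 := this.map (MulAut.conj g⁻¹).toMonoidHom
    rw [MonoidHom.map_zpowers] at h2
    rw [hy']
    rwa [show g⁻¹ * y * g = (MulAut.conj g⁻¹).toMonoidHom y by
      show _ = g⁻¹ * y * g⁻¹⁻¹
      rw [inv_inv]]
  obtain ⟨R, hR⟩ := (hZ2.of_equiv (subgroupOfEquivOfLe (Subgroup.zpowers_le.2 hy'N)).symm).exists_le_sylow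
  obtain ⟨n, hn⟩ := MulAction.exists_smul_eq ↥N R (S.subtype hSN')
  set v := (n : G) * y' * (n : G)⁻¹ with hv
  have hvS : v ∈ (S : Subgroup G) := by
    have h1 : n * ⟨y', hy'N⟩ * n⁻¹ ∈ (S.subtype hSN' : Subgroup ↥N) := by
      rw [← hn, Sylow.coe_subgroup_smul]
      exact ⟨_, hR (mem_subgroupOf.2 (mem_zpowers y')), rfl⟩
    exact mem_subgroupOf.1 h1
  have hvw : v * w = w * v := by
    have hnw : (n : G)⁻¹ * w * (n : G)⁻¹⁻¹ ∈ zpowers w :=
      conj_mem_of_normalizer (N.inv_mem n.2) (mem_zpowers w)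
    obtain ⟨e, he⟩ := mem_zpowers_iff.1 hnw
    calc v * w = (n : G) * (y' * ((n : G)⁻¹ * w * (n : G)⁻¹⁻¹)) * (n : G)⁻¹ := by rw [hv]; group
      _ = (n : G) * (((n : G)⁻¹ * w * (n : G)⁻¹⁻¹) * y') * (n : G)⁻¹ := by
        rw [← he, ((show Commute y' w from hy'w).zpow_right e).eq]
      _ = w * v := by rw [hv]; group
  have hvpow : v ^ (4 * M) ≠ 1 := fun h => by
    rw [hv, conj_pow, conj_eq_one_iff, hy', show g⁻¹ * y * g = g⁻¹ * y * g⁻¹⁻¹ by rw [inv_inv], conj_pow,
      conj_eq_one_iff, hy4] at h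
    exact hd.half_ne h
  refine hvpow ?_
  by_cases hvT : v ∈ T
  · rw [show 4 * M = 2 * (2 * M) by ring, pow_mul, pow_two]
    obtain ⟨d, hdD, hcase⟩ := hm.mem_cases hvT
    have e : v * v = d * d := by
      rcases hcase with e' | e' <;> rw [e']
      exact hm.sq_dt hdD
    rw [e]
    rcases hd.cases d hdD with hp | ⟨h, -⟩
    · obtain ⟨i, rfl⟩ := mem_zpowers_iff.1 hp
      rw [← pow_two, ← pow_mul, show 2 * (2 * M) = orderOf σ by rw [hd.order, hN]; ring, ← zpow_natCast, zpow_comm,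
        zpow_natCast, pow_orderOf_eq_one, one_zpow]
    · rw [h, one_pow]
  · obtain ⟨k, i, h1, h2, h3, h4⟩ := hdata v hvS hvT
    obtain ⟨r, hr | hr⟩ := hodd h3
    · exfalso
      have e : σ ^ (ia + 2 * M) = σ ^ (k * ia) → False := fun e => by
        have h := (hmod _ _).1 e.symm
        push_cast at h
        obtain ⟨q, hq⟩ := h
        rw [hr, hij] at hq
        push_cast at hq
        have hM0 : (M : ℤ) ≠ 0 := by exact_mod_cast hMpos.ne'
        have : (2 : ℤ) = 4 * (q + r * j) := mul_left_cancel₀ hM0 (by linarith)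
        omega
      refine e ?_
      have hcw : v * w * v⁻¹ = σ ^ (k * ia) * (z * t) := by
        rw [haa, show v * (σ ^ ia * t) * v⁻¹ = (v * σ ^ ia * v⁻¹) * (v * t * v⁻¹) by group, ← conj_pow, h1,
          ← pow_mul, hfix v hvS hvT]
      rw [hvw, mul_inv_cancel_right] at hcw
      conv_lhs at hcw => rw [haa]
      rw [← mul_assoc] at hcw
      rw [pow_add, ← hzM, mul_right_cancel hcw, mul_assoc, hd.half_sq, mul_one]
    · obtain ⟨-, -, -, hv8⟩ := hthree h2 hr h4
      obtain ⟨c, hc⟩ := hM2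
      rw [hc, show 4 * (2 * c) = 8 * c by ring, pow_mul, ← hv8, pow_orderOf_eq_one, one_pow]

end Cfsg.Agent.Fus.CentTwoPSL
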