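import Cfsg.Agent.Lib.Fus.RudTransfer.Gl3

/-!
# The involutions of the automorphism group of an elementary group of order eight

Each is central in a subgroup of order eight generated by two involutions.
-/

set_option autoImplicit false
set_option linter.style.haveILetI false
set_option maxRecDepth 100000

namespace Cfsg.Agent.Fus.CentTwoPSL

open Subgroup

/-- A dihedral subgroup of order eight centralised by `h`. -/
structure Eight {X : Type*} [Group X] (h : X) (U : Subgroup X) (a b : X) : Prop where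
  card : Nat.card U = 8
  cent : ∀ u ∈ U, u * h = h * u
  mem : h ∈ U
  a2 : a * a = 1
  b2 : b * b = 1
  ab : (a * b) ^ 4 = 1
  gen : U = closure {a, b}

theorem Eight.map {X Y : Type*} [Group X] [Group Y] (e : X ≃* Y) {h : X} {U : Subgroup X} {a b : X}
    (he : Eight h U a b) : Eight (e h) (U.map e.toMonoidHom) (e a) (e b) := by
  refine ⟨?_, ?_, ⟨h, he.mem, rfl⟩, ?_, ?_, ?_, ?_⟩
  · rw [card_map_of_injective (f := e.toMonoidHom) e.injective]; exact he.card
  · rintro _ ⟨u, hu, rfl⟩
    show e u * e h = e h * e u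
    rw [← map_mul, ← map_mul, he.cent u hu]
  · rw [← map_mul, he.a2, map_one]
  · rw [← map_mul, he.b2, map_one]
  · rw [← map_mul, ← map_pow, he.ab, map_one]
  · rw [he.gen, MonoidHom.map_closure, Set.image_pair]; rfl

namespace GlEight

open Fus.RudTransfer.Gl

theorem upper_mul : ∀ x y z x' y' z' : ZMod 2, ∃ u v w, mul (upper x y z) (upper x' y' z') = upper u v w := by decide
theorem upper_adj : ∀ x y z : ZMod 2, ∃ u v w, adj (upper x y z) = upper u v w := by decide
theorem upper_inj : ∀ x y z x' y' z' : ZMod 2, upper x y z = upper x' y' z' → x = x' ∧ y = y' ∧ z = z' := by decide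
theorem upper_cent : ∀ x y z : ZMod 2, mul (upper x y z) (upper 0 0 1) = mul (upper 0 0 1) (upper x y z) := by decide
theorem upper_words : ∀ x y z : ZMod 2, ∃ i j k : Fin 2,
    upper x y z = mul (mul (if i = 0 then one else upper 1 0 0) (if j = 0 then one else upper 0 1 0))
      (if k = 0 then one else mul (mul (upper 1 0 0) (upper 0 1 0)) (mul (upper 1 0 0) (upper 0 1 0))) := by decide

theorem exists_eight (h : G3) (hh : h * h = 1) (h1 : h ≠ 1) : ∃ U a b, Eight h U a b := by
  classical
  obtain ⟨c, hc, hce⟩ := involution_class _ (det_enc h) (fun e => h1 (enc_injective (e.trans enc_one.symm)))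
    (by rw [← enc_mul, hh, enc_one])
  obtain ⟨k, hk⟩ := exists_enc hc
  let U₀ : Subgroup G3 :=
    { carrier := {g | ∃ x y z, enc g = upper x y z}
      one_mem' := ⟨0, 0, 0, by rw [enc_one]; decide⟩
      mul_mem' := fun {g g'} hg hg' => by
        obtain ⟨x, y, z, e⟩ := hg
        obtain ⟨x', y', z', e'⟩ := hg'
        obtain ⟨u, v, w, h⟩ := upper_mul x y z x' y' z'
        exact ⟨u, v, w, by rw [enc_mul, e, e', h]⟩
      inv_mem' := fun {g} hg => by
        obtain ⟨x, y, z, e⟩ := hg
        obtain ⟨u, v, w, h⟩ := upper_adj x y z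
        exact ⟨u, v, w, by rw [enc_inv, e, h]⟩ }
  obtain ⟨A, hA⟩ := exists_enc (upper_det 1 0 0)
  obtain ⟨B, hB⟩ := exists_enc (upper_det 0 1 0)
  have h8 : Nat.card U₀ = 8 := by
    choose g hg using fun p : ZMod 2 × ZMod 2 × ZMod 2 => exists_enc (upper_det p.1 p.2.1 p.2.2)
    have hbij : Function.Bijective (fun p => (⟨g p, _, _, _, hg p⟩ : U₀)) := by
      refine ⟨fun p q e => ?_, fun u => ?_⟩
      · have e' := congrArg (fun u : U₀ => enc (u : G3)) e
        simp only [hg] at e'
        obtain ⟨h1, h2, h3⟩ := upper_inj _ _ _ _ _ _ e'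
        exact Prod.ext h1 (Prod.ext h2 h3)
      · obtain ⟨x, y, z, e⟩ := u.2
        exact ⟨(x, y, z), Subtype.ext (enc_injective ((hg (x, y, z)).trans e.symm))⟩
    rw [← Nat.card_eq_of_bijective _ hbij, Nat.card_eq_fintype_card]
    rfl
  have hAU : A ∈ U₀ := ⟨_, _, _, hA⟩
  have hBU : B ∈ U₀ := ⟨_, _, _, hB⟩
  have h₀ : Eight (k * h * k⁻¹) U₀ A B := by
    have henc : enc (k * h * k⁻¹) = upper 0 0 1 := by rw [enc_mul, enc_mul, enc_inv, hk, hce]
    refine ⟨h8, fun u hu => ?_, ⟨_, _, _, henc⟩, enc_injective ?_, enc_injective ?_, enc_injective ?_,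
      le_antisymm (fun u hu => ?_) ((Subgroup.closure_le _).2 (Set.insert_subset hAU (Set.singleton_subset_iff.2 hBU)))⟩
    · obtain ⟨x, y, z, e⟩ := hu
      exact enc_injective (by rw [enc_mul u, enc_mul (k * h * k⁻¹), e, henc, upper_cent])
    · rw [enc_mul, hA, enc_one]; decide
    · rw [enc_mul, hB, enc_one]; decide
    · simp only [pow_succ, pow_zero, one_mul, enc_mul, hA, hB, enc_one]; decide
    · obtain ⟨x, y, z, e⟩ := hu
      obtain ⟨i, j, l, hw⟩ := upper_words x y z
      have hAc : A ∈ Subgroup.closure ({A, B} : Set G3) := Subgroup.subset_closure (Set.mem_insert _ _)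
      have hBc : B ∈ Subgroup.closure ({A, B} : Set G3) := Subgroup.subset_closure (Set.mem_insert_of_mem _ rfl)
      have hu' : u = (if i = 0 then 1 else A) * (if j = 0 then 1 else B) * (if l = 0 then 1 else A * B * (A * B)) :=
        enc_injective (by rw [e, hw]; split_ifs <;> simp only [enc_mul, enc_one, hA, hB])
      rw [hu']
      refine mul_mem (mul_mem ?_ ?_) ?_ <;> split_ifs
      exacts [one_mem _, hAc, one_mem _, hBc, one_mem _, mul_mem (mul_mem hAc hBc) (mul_mem hAc hBc)]
  have h₁ := h₀.map (MulAut.conj k⁻¹)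
  rw [show MulAut.conj k⁻¹ (k * h * k⁻¹) = h by
    show k⁻¹ * (k * h * k⁻¹) * k⁻¹⁻¹ = h
    group] at h₁
  exact ⟨_, _, _, h₁⟩

end GlEight

/-- The matrices of the automorphisms. -/
theorem exists_embed {A : Type*} [CommGroup A] [Finite A] (hA : Nat.card A = 8) (hexp : ∀ a : A, a * a = 1) :
    ∃ ψ : MulAut A →* GL (Fin 3) (ZMod 2), Function.Injective ψ := by
  classical
  letI : Module (ZMod 2) (Additive A) := AddCommGroup.zmodModule fun a => by
    rw [two_nsmul]; exact hexp a.toMul
  haveI : Finite (Additive A) := Finite.of_equiv A Additive.ofMul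
  have hfr : Module.finrank (ZMod 2) (Additive A) = 3 := by
    have h := Module.natCard_eq_pow_finrank (K := ZMod 2) (V := Additive A)
    rw [Nat.card_congr Additive.toMul, hA, Nat.card_zmod] at h
    exact (Nat.pow_right_injective le_rfl (show (2 : ℕ) ^ 3 = _ from h)).symm
  let bas := Module.finBasisOfFinrankEq (ZMod 2) (Additive A) hfr
  let ev : MulAut A →* Module.End (ZMod 2) (Additive A) :=
    { toFun := fun f => ((MulEquiv.toAdditive f).toLinearEquiv fun c x =>
        ZMod.map_smul (MulEquiv.toAdditive f) c x : Additive A ≃ₗ[ZMod 2] Additive A).toLinearMap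
      map_one' := rfl
      map_mul' := fun _ _ => rfl }
  let ψ : MulAut A →* GL (Fin 3) (ZMod 2) :=
    ((((LinearMap.toMatrixAlgEquiv bas : _ ≃ₐ[ZMod 2] _) : Module.End (ZMod 2) (Additive A) →*
      Matrix (Fin 3) (Fin 3) (ZMod 2))).comp ev).toHomUnits
  have hψ : Function.Injective ψ := fun f g e => by
    have e1 : ev f = ev g := (LinearMap.toMatrixAlgEquiv bas).injective (congrArg Units.val e)
    exact MulEquiv.ext fun x => congrArg Additive.toMul (LinearMap.congr_fun e1 (Additive.ofMul x))
  exact ⟨ψ, hψ⟩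

theorem card_gl : Nat.card (GL (Fin 3) (ZMod 2)) = 168 := by
  rw [Matrix.card_GL_field, Fin.prod_univ_three, ZMod.card]
  rfl

theorem card_aut_le {A : Type*} [CommGroup A] [Finite A] (hA : Nat.card A = 8) (hexp : ∀ a : A, a * a = 1) :
    Nat.card (MulAut A) ≤ 168 := by
  obtain ⟨ψ, hψ⟩ := exists_embed hA hexp
  exact card_gl ▸ Nat.card_le_card_of_injective ψ hψ

/-- The automorphism group of an elementary group of order eight is `GL(3, 2)`. -/
theorem exists_eight_aut {A : Type*} [CommGroup A] [Finite A] (hA : Nat.card A = 8) (hexp : ∀ a : A, a * a = 1)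
    (h168 : 168 ≤ Nat.card (MulAut A)) (h : MulAut A) (hh : h * h = 1) (h1 : h ≠ 1) : ∃ U a b, Eight h U a b := by
  classical
  obtain ⟨ψ, hψ⟩ := exists_embed hA hexp
  have hbij : Function.Bijective ψ := hψ.bijective_of_nat_card_le (by rw [card_gl]; exact h168)
  let e := MulEquiv.ofBijective ψ hbij
  obtain ⟨U, a, b, hU⟩ := GlEight.exists_eight (e h) (by rw [← map_mul, hh, map_one]) fun h' => h1 (by
    rwa [← map_one e, e.injective.eq_iff] at h')
  have h₁ := hU.map e.symm
  rw [e.symm_apply_apply] at h₁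
  exact ⟨_, _, _, h₁⟩

end Cfsg.Agent.Fus.CentTwoPSL
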