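import Cfsg.Agent.Lib.Fus.CentTwoPSL.Common
import Cfsg.Agent.Lib.Fus.CentTwoPSL.Blocks
import Cfsg.Agent.Lib.Fus.CentTwoPSL.Act
import Cfsg.Agent.Lib.Fus.CentTwoPSL.Gl
import Cfsg.Agent.Lib.Invol.Dihedral

/-!
# The elementary case with the coset of `t` moved

The affine action forces `|V| = 8` and `GL(3,2)` on `V`; the conjugates of `t` stay in one coset and violate
parity.
-/

set_option autoImplicit false
set_option linter.style.haveILetI false

namespace Cfsg.Agent.Fus.CentTwoPSL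

open Subgroup

variable {G : Type*} [Group G] [Finite G] {t : G} {T V P : Subgroup G} {g : G} {Q W : Subgroup G}

theorem elem_moved (hG : ∀ f : G →* ℤˣ, f = 1) (hm : Model t T V) (hTsq : ∀ x ∈ T, x * x = 1)
    (hTcard : Nat.card T = 2 * Nat.card V) {n : ℕ} (hV : Nat.card V = 2 ^ n) (hn : 3 ≤ n)
    (hb : Base t V) (hd : Top t V P g Q W) {n₀ : G} (hn₀V : n₀ ∈ normalizer (V : Set G))
    (hn₀ : n₀ ∈ normalizer (P : Set G)) (hmove : t * (n₀ * t * n₀⁻¹) ∉ Q) : False := by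
  classical
  haveI : Fact (Nat.Prime 2) := ⟨Nat.prime_two⟩
  haveI : Finite (Subgroup G) := Finite.of_injective _ SetLike.coe_injective
  letI : CommGroup V :=
    { (inferInstance : Group V) with mul_comm := fun a b => Subtype.ext (hb.abel a a.2 b b.2) }
  have ha : Aff t W := hd.toDat.aff_of_moved hb hn₀ hmove
  obtain ⟨H, c, hc, hsurj, hker⟩ := hd.crossed hb hn₀V hn₀ hmove
  set N := normalizer (P : Set G) ⊓ normalizer (V : Set G) with hN
  let φ : N →* MulAut V := (actV V).comp (Subgroup.inclusion (inf_le_right : N ≤ normalizer (V : Set G)))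
  have hφ : ∀ (x : N) (v : V), (φ x v : G) = x * v * (x : G)⁻¹ := fun x v => rfl
  have hφ1 : ∀ x : N, φ x = 1 → (x : G) ∈ centralizer (V : Set G) := fun x hx =>
    actV_eq_one (V := V) (n := ⟨(x : G), x.2.2⟩) hx
  have hφ2 : ∀ x : N, (x : G) ∈ centralizer (V : Set G) → φ x = 1 := fun x hx =>
    MulEquiv.ext fun v => Subtype.ext (by
      rw [hφ, MulAut.one_apply, ← mem_centralizer_iff.1 hx v v.2, mul_inv_cancel_right])
  have hPN : P ≤ N := le_inf le_normalizer fun x hx => centralizer_le_normalizer _ (hd.PX hx)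
  -- elements centralising `t` induce a group of odd order
  have hTP : T ≤ P := fun x hx => by
    rcases hm.split x hx with h | h
    · exact hd.VP h
    · have := mul_mem (hd.VP h) hd.tP
      rwa [mul_assoc, hm.t2, mul_one] at this
  set Y := N ⊓ centralizer ({t} : Set G) with hY
  let ψ : Y →* MulAut V := φ.comp (Subgroup.inclusion (inf_le_left : Y ≤ N))
  have hTY : T ≤ Y := le_inf (hTP.trans hPN) hm.TC
  have hψodd : Odd (Nat.card ψ.range) := by
    have h1 : T.subgroupOf Y ≤ ψ.ker := fun x hx => hφ2 _ (hd.PX (hTP hx))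
    obtain ⟨T'⟩ : Nonempty (Sylow 2 ↥(centralizer ({t} : Set G))) := inferInstance
    have h2 : ¬ 2 ∣ T.relIndex (centralizer ({t} : Set G)) := by
      have e1 := (T.subgroupOf (centralizer ({t} : Set G))).card_mul_index
      have e2 := (T' : Subgroup ↥(centralizer ({t} : Set G))).card_mul_index
      rw [Nat.card_congr (subgroupOfEquivOfLe hm.TC).toEquiv] at e1
      rw [hm.card T', ← e1] at e2
      rw [relIndex, ← Nat.eq_of_mul_eq_mul_left Nat.card_pos e2]
      exact T'.not_dvd_index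
    have h3 : ¬ 2 ∣ T.relIndex Y := fun h => h2 (by
      rw [← relIndex_mul_relIndex T Y _ hTY inf_le_right]; exact h.trans (Dvd.intro _ rfl))
    rw [← index_ker]
    exact Nat.not_even_iff_odd.1 fun h => h3 ((even_iff_two_dvd.1 h).trans (index_dvd_of_le h1))
  have hodd : ∀ x : N, (x : G) * t = t * x → φ x * φ x = 1 → φ x = 1 := fun x hx h2 => by
    have hxY : φ x ∈ ψ.range := ⟨⟨x, x.2, mem_centralizer_singleton_iff.2 hx⟩, rfl⟩
    have h : orderOf (φ x) ∣ Nat.card ψ.range := by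
      rw [← orderOf_mk (φ x) hxY]; exact orderOf_dvd_natCard _
    exact orderOf_eq_one_iff.1 (Nat.eq_one_of_dvd_coprimes (Nat.coprime_two_left.2 hψodd)
      (orderOf_dvd_of_pow_eq_one (by rw [pow_two]; exact h2)) h)
  -- the affine group
  obtain ⟨F, hF⟩ := hc.exists_ker
  obtain ⟨d, hdH, hcd, hdtr⟩ := hc.turn
  have hFodd : Odd (Nat.card F) := by
    refine Odd.of_dvd_nat hψodd ?_
    rw [← card_map_of_injective (K := F) H.subtype_injective]
    refine card_dvd_of_le ?_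
    rintro _ ⟨h, hh, rfl⟩
    obtain ⟨y, hy, hyP, e⟩ := hker h h.2 ((hF h).1 hh)
    exact ⟨⟨y, ⟨hyP, y.2⟩, mem_centralizer_singleton_iff.2 hy⟩, e⟩
  have haff : AffGroup H.subtype (fun h : H => c h) F ⟨d, hdH⟩ n :=
    { inj := H.subtype_injective
      mul := fun a b => hc.mul a a.2 b b.2
      surj := fun v => let ⟨h, hh, e⟩ := hc.surj v; ⟨⟨h, hh⟩, e⟩
      ker := hF
      mem := (hF _).2 hcd
      trans := fun v w hv hw => by
        obtain ⟨j, hj⟩ := hdtr v w hv hw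
        exact ⟨j, hj⟩
      odd := hFodd
      expo := fun a => Subtype.ext (hb.elem a a.2)
      cardA := hV
      big := hn }
  obtain ⟨hn3, h168⟩ := haff.main
  have hV8 : Nat.card V = 8 := by rw [hV, hn3]; norm_num
  have hexp : ∀ a : V, a * a = 1 := fun a => Subtype.ext (hb.elem a a.2)
  have hMA : 168 ≤ Nat.card (MulAut V) := h168 ▸ Nat.card_le_card_of_injective _ H.subtype_injective
  have hHtop : ∀ u : MulAut V, ∃ x : N, φ x = u := fun u => by
    have hle : Nat.card (MulAut V) ≤ Nat.card H := (card_aut_le hV8 hexp).trans h168.ge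
    obtain ⟨k, hk, e⟩ := hsurj u (eq_top_of_card_eq H (le_antisymm (card_le_card_group H) hle) ▸ mem_top u)
    exact ⟨⟨k, hk, k.2⟩, e⟩
  -- every element of `tW` is a conjugate of `t` by an element of `N`
  have htrans : ∀ u ∈ W, ∃ k ∈ N, k * t * k⁻¹ = t * u := by
    intro u hu
    by_cases huQ : u ∈ Q
    · obtain ⟨x, hx, e⟩ := hd.cls u huQ
      exact ⟨x⁻¹, hPN (inv_mem hx), by rw [inv_inv, e]⟩
    have hw1 : t * (n₀ * t * n₀⁻¹) ∈ W :=
      (hd.toDat.conj_iff ha hb (conj_mem_of_normalizer hn₀ hd.tP)).1 (_root_.isConj_iff.2 ⟨n₀, rfl⟩)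
    obtain ⟨j, hj⟩ := hd.wtrans _ hw1 hmove u hu huQ
    set k := g ^ j * n₀ with hk
    have hkN : k ∈ N := ⟨mul_mem (pow_mem hd.turn.normP j) hn₀, mul_mem (pow_mem hd.turn.normV j) hn₀V⟩
    set w := g ^ j * (t * (n₀ * t * n₀⁻¹)) * (g ^ j)⁻¹ with hw
    have hkt : k * t * k⁻¹ = t * w := by
      rw [hw, hk, show t * (g ^ j * (t * (n₀ * t * n₀⁻¹)) * (g ^ j)⁻¹) =
        (t * (g ^ j * t)) * (n₀ * t * n₀⁻¹ * (g ^ j)⁻¹) by group,
        show g ^ j * t = t * g ^ j from (Commute.pow_left hd.turn.comm j : Commute (g ^ j) t), ← mul_assoc t t,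
        hm.t2, one_mul]
      group
    obtain ⟨x, hx, e⟩ := hd.cls (k⁻¹ * (w⁻¹ * u) * k) (by
      have := conj_mem_of_normalizer (hd.toDat.Q_normal ((normalizer (P : Set G)).inv_mem hkN.1)) hj
      rwa [inv_inv] at this)
    refine ⟨k * x⁻¹, mul_mem hkN (hPN (inv_mem hx)), ?_⟩
    calc k * x⁻¹ * t * (k * x⁻¹)⁻¹ = k * (x⁻¹ * t * x) * k⁻¹ := by group
      _ = k * t * k⁻¹ * (w⁻¹ * u) := by rw [e]; group
      _ = t * u := by rw [hkt]; group
  -- Sylow subgroups over a group of order eight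
  have hPC : ∀ R : Subgroup G, IsPGroup 2 R → R ≤ centralizer (V : Set G) → P ≤ R → R = P := hd.maximal
  have hpre : ∀ U : Subgroup (MulAut V), Nat.card U = 8 → ∀ R₀ : Subgroup G, IsPGroup 2 R₀ → P ≤ R₀ →
      (∀ r (hr : r ∈ R₀), ∃ hrN : r ∈ N, φ ⟨r, hrN⟩ ∈ U) →
      ∃ R : Subgroup G, R₀ ≤ R ∧ IsPGroup 2 R ∧ P ≤ R ∧ ∃ hRN : R ≤ N,
        (∀ r : R, φ (Subgroup.inclusion hRN r) ∈ U) ∧ (∀ u ∈ U, ∃ r : R, φ (Subgroup.inclusion hRN r) = u) ∧
        (∀ r : R, φ (Subgroup.inclusion hRN r) = 1 → (r : G) ∈ P) ∧ Nat.card R = 8 * Nat.card P := by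
    intro U hU R₀ hR₀ hPR₀ hR₀U
    set N₁ := U.comap φ with hN₁
    let R₁ : Subgroup N₁ := (R₀.subgroupOf N).subgroupOf N₁
    have hR₁ : IsPGroup 2 R₁ :=
      (hR₀.comap_of_injective N.subtype N.subtype_injective).comap_of_injective N₁.subtype N₁.subtype_injective
    obtain ⟨S₁, hS₁⟩ := hR₁.exists_le_sylow
    let f : N₁ →* U := (φ.comp N₁.subtype).codRestrict U fun x => x.2
    have hf : Function.Surjective f := fun u => by
      obtain ⟨x, hx⟩ := hHtop u
      exact ⟨⟨x, show φ x ∈ U from hx ▸ u.2⟩, Subtype.ext hx⟩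
    have htop : (S₁.mapSurjective hf : Subgroup U) = ⊤ :=
      ((S₁.mapSurjective hf).is_maximal' (IsPGroup.of_card (n := 3) (by rw [card_top, hU]; norm_num)) le_top).symm
    set R := ((S₁ : Subgroup N₁).map N₁.subtype).map N.subtype with hR
    have hRN : R ≤ N := map_subtype_le _
    have hR2 : IsPGroup 2 R := (S₁.isPGroup'.map _).map _
    have hle : R₀ ≤ R := fun r hr => by
      obtain ⟨hrN, hrU⟩ := hR₀U r hr
      exact ⟨⟨r, hrN⟩, ⟨⟨⟨r, hrN⟩, hrU⟩, hS₁ hr, rfl⟩, rfl⟩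
    have himg : ∀ u ∈ U, ∃ r : R, φ (Subgroup.inclusion hRN r) = u := fun u hu => by
      obtain ⟨x, hx, e⟩ : (⟨u, hu⟩ : U) ∈ (S₁ : Subgroup N₁).map f := by
        rw [← Sylow.coe_mapSurjective hf S₁, htop]; exact mem_top _
      exact ⟨⟨((x : N) : G), ⟨_, ⟨x, hx, rfl⟩, rfl⟩⟩, congrArg Subtype.val e⟩
    have hmem : ∀ r : R, φ (Subgroup.inclusion hRN r) ∈ U := fun r => by
      obtain ⟨_, ⟨x, -, rfl⟩, e⟩ := r.2
      rw [show Subgroup.inclusion hRN r = (x : N) from Subtype.ext e.symm]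
      exact x.2
    have hk : ∀ r : R, φ (Subgroup.inclusion hRN r) = 1 → (r : G) ∈ P := fun r hr => by
      rw [← hPC (R ⊓ centralizer (V : Set G)) (hR2.to_le inf_le_left) inf_le_right (le_inf (hPR₀.trans hle) hd.PX)]
      exact ⟨r.2, hφ1 _ hr⟩
    refine ⟨R, hle, hR2, hPR₀.trans hle, hRN, hmem, himg, hk, ?_⟩
    let ρ : R →* MulAut V := φ.comp (Subgroup.inclusion hRN)
    have hker : ρ.ker = P.subgroupOf R := by
      ext r
      exact ⟨fun h => hk r h, fun h => hφ2 _ (hd.PX h)⟩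
    have hrange : ρ.range = U :=
      le_antisymm (by rintro _ ⟨r, rfl⟩; exact hmem r) fun u hu => himg u hu
    have e := ρ.ker.card_mul_index
    rw [index_ker, hrange, hU, hker, Nat.card_congr (subgroupOfEquivOfLe (hPR₀.trans hle)).toEquiv] at e
    rw [← e, mul_comm]
  have hT16 : Nat.card T = 16 := by rw [hTcard, hV8]
  have hPW : Nat.card P = 2 * Nat.card W := by rw [hd.card_eq, hd.cardW]; ring
  have hWcomm : ∀ a ∈ W, ∀ b ∈ W, a * b = b * a := fun a h1 b h2 => Dat.W_comm ha hb h1 h2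
  have hWinv : ∀ w ∈ W, t * w * t = w⁻¹ := fun w hw => Dat.W_inv ha hb hw
  have hWt : ∀ w ∈ W, t * w * t ∈ W := fun w hw => hWinv w hw ▸ inv_mem hw
  have hKP : ∀ x ∈ P, IsConj t x ↔ t * x ∈ W := fun x hx => hd.toDat.conj_iff ha hb hx
  -- the conjugates in `N` lie in `tW`
  have hKN : ∀ x ∈ N, IsConj t x → x ∈ P ∧ t * x ∈ W := by
    intro x hxN hxK
    obtain ⟨a, hat⟩ := _root_.isConj_iff.1 hxK
    have hxx : x * x = 1 := hat ▸ conj_sq hm.t2
    have hx1 : orderOf x ∣ 2 := orderOf_dvd_of_pow_eq_one (by rw [pow_two, hxx])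
    set h := φ ⟨x, hxN⟩ with hh
    have hh2 : h * h = 1 := by rw [hh, ← map_mul, show (⟨x, hxN⟩ : N) * ⟨x, hxN⟩ = 1 from Subtype.ext hxx, map_one]
    have hzp : IsPGroup 2 (zpowers x) := fun ⟨y, hy⟩ => ⟨1, Subtype.ext (by
      obtain ⟨i, hi⟩ := mem_zpowers_iff.1 hy
      show y ^ 2 ^ 1 = 1
      rw [pow_one, ← hi, ← zpow_natCast, zpow_comm, zpow_natCast, pow_two, hxx, one_zpow])⟩
    have hxP : zpowers x ≤ normalizer (P : Set G) := zpowers_le.2 hxN.1
    have hJ : IsPGroup 2 (zpowers x ⊔ P : Subgroup G) := hzp.to_sup_of_normal_right' hd.two hxP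
    by_cases h1 : h = 1
    · have hxP' : x ∈ P := by
        rw [← hPC _ hJ (sup_le (zpowers_le.2 (hφ1 _ h1)) hd.PX) le_sup_right]
        exact mem_sup_left (mem_zpowers x)
      exact ⟨hxP', (hKP x hxP').1 hxK⟩
    exfalso
    obtain ⟨U, a', b', hU⟩ := exists_eight_aut hV8 hexp hMA h hh2 h1
    obtain ⟨R, hR₀, hR2, hPR, hRN, hmem, himg, hk, hRcard⟩ := hpre U hU.card (zpowers x ⊔ P) hJ le_sup_right
      (fun r hr => by
        have hJN : zpowers x ⊔ P ≤ N := sup_le (zpowers_le.2 hxN) hPN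
        refine ⟨hJN hr, ?_⟩
        have hle : (zpowers x ⊔ P).subgroupOf N ≤ U.comap φ := by
          rw [subgroupOf_sup (zpowers_le.2 hxN) hPN, sup_le_iff]
          refine ⟨fun y hy => ?_, fun y hy => ?_⟩
          · obtain ⟨i, hi⟩ := mem_zpowers_iff.1 (mem_subgroupOf.1 hy)
            rw [mem_comap, show y = (⟨x, hxN⟩ : N) ^ i from Subtype.ext (by rw [coe_zpow]; exact hi.symm), map_zpow]
            exact zpow_mem hU.mem i
          · rw [mem_comap, hφ2 y (hd.PX (mem_subgroupOf.1 hy))]; exact one_mem _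
        exact hle (mem_subgroupOf.2 hr : (⟨r, hJN hr⟩ : N) ∈ _))
    have hxR : x ∈ R := hR₀ (mem_sup_left (mem_zpowers x))
    let X : Set G := {y | IsConj t y ∧ ∃ hy : y ∈ R, φ (Subgroup.inclusion hRN ⟨y, hy⟩) = h}
    have hXR : ∀ s ∈ R, ∀ y ∈ X, s * y * s⁻¹ ∈ X := by
      rintro s hs y ⟨hyK, hy, hyh⟩
      refine ⟨hyK.trans (_root_.isConj_iff.2 ⟨s, rfl⟩), mul_mem (mul_mem hs hy) (inv_mem hs), ?_⟩
      rw [show Subgroup.inclusion hRN ⟨s * y * s⁻¹, mul_mem (mul_mem hs hy) (inv_mem hs)⟩ =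
        Subgroup.inclusion hRN ⟨s, hs⟩ * Subgroup.inclusion hRN ⟨y, hy⟩ * (Subgroup.inclusion hRN ⟨s, hs⟩)⁻¹
        from Subtype.ext rfl, map_mul, map_mul, map_inv, hyh, hU.cent _ (hmem ⟨s, hs⟩), mul_inv_cancel_right]
    -- they form part of `x` times the inverted subgroup of `W`
    have hxW : x ∈ normalizer (W : Set G) := hd.toDat.W_normal ha hb hxN.1
    have hxi : x⁻¹ = x := inv_eq_of_mul_eq_one_right hxx
    let I : Subgroup G :=
      { carrier := {w | w ∈ W ∧ x * w * x = w⁻¹}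
        one_mem' := ⟨one_mem _, by rw [mul_one, hxx, inv_one]⟩
        mul_mem' := fun {u v} hu hv => ⟨mul_mem hu.1 hv.1, by
          rw [mul_inv_rev, hWcomm v⁻¹ (inv_mem hv.1) u⁻¹ (inv_mem hu.1), ← hu.2, ← hv.2,
            show x * u * x * (x * v * x) = x * u * (x * x) * (v * x) by group, hxx]
          group⟩
        inv_mem' := fun {u} hu => ⟨inv_mem hu.1, by
          rw [inv_inv]
          calc x * u⁻¹ * x = (x * u * x)⁻¹ := by rw [mul_inv_rev, mul_inv_rev, hxi]; group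
            _ = u := by rw [hu.2, inv_inv]⟩ }
    have hIW : I ≤ W := fun w hw => hw.1
    have hXI : X ⊆ (fun w => x * w) '' (I : Set G) := by
      rintro y ⟨hyK, hy, hyh⟩
      obtain ⟨a₁, ha₁⟩ := _root_.isConj_iff.1 hyK
      have hyy : y * y = 1 := ha₁ ▸ conj_sq hm.t2
      have hp : x * y ∈ P := hk ⟨x * y, mul_mem hxR hy⟩ (by
        rw [show Subgroup.inclusion hRN ⟨x * y, mul_mem hxR hy⟩ =
          (⟨x, hxN⟩ : N) * Subgroup.inclusion hRN ⟨y, hy⟩ from Subtype.ext rfl, map_mul, hyh, ← hh, hh2])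
      refine ⟨x * y, ?_, by show x * (x * y) = y; rw [← mul_assoc, hxx, one_mul]⟩
      rcases hd.split _ hp with hW | hW
      · refine ⟨hW, ?_⟩
        rw [mul_inv_rev, hxi, inv_eq_of_mul_eq_one_right hyy, ← mul_assoc, hxx, one_mul]
      · exfalso
        -- `x` commutes with an element of `tW`
        have hu : x * y = t * (t * (x * y * t) * t) := by
          rw [show t * (t * (x * y * t) * t) = (t * t) * (x * y) * (t * t) by group, hm.t2, one_mul, mul_one]
        obtain ⟨k, hkN, hkt⟩ := htrans _ (hWt _ hW)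
        rw [← hu] at hkt
        have hzz : x * y * (x * y) = 1 := by
          rw [← hkt]; exact conj_sq hm.t2
        have hxz : x * (x * y) = x * y * x := by
          calc x * (x * y) = (x * y) * ((x * y) * x) * (x * y) := by
                rw [show (x * y) * ((x * y) * x) * (x * y) = (x * y * (x * y)) * (x * (x * y)) by group, hzz, one_mul]
            _ = (x * y) * x * (y * (x * x) * y) := by group
            _ = x * y * x := by rw [hxx, mul_one, hyy, mul_one]
        have hconj : k⁻¹ * x * k ∈ N := mul_mem (mul_mem (inv_mem hkN) hxN) hkN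
        have hct : k⁻¹ * x * k * t = t * (k⁻¹ * x * k) := by
          rw [← hkt] at hxz
          calc k⁻¹ * x * k * t = k⁻¹ * (x * (k * t * k⁻¹)) * k := by group
            _ = k⁻¹ * (k * t * k⁻¹ * x) * k := by rw [hxz]
            _ = t * (k⁻¹ * x * k) := by group
        have e : φ ⟨k⁻¹ * x * k, hconj⟩ = (φ ⟨k, hkN⟩)⁻¹ * h * φ ⟨k, hkN⟩ := by
          rw [show (⟨k⁻¹ * x * k, hconj⟩ : N) = (⟨k, hkN⟩ : N)⁻¹ * ⟨x, hxN⟩ * ⟨k, hkN⟩ from Subtype.ext rfl,
            map_mul, map_mul, map_inv, hh]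
        have h0 := hodd ⟨k⁻¹ * x * k, hconj⟩ hct (by
          rw [e, show (φ ⟨k, hkN⟩)⁻¹ * h * φ ⟨k, hkN⟩ * ((φ ⟨k, hkN⟩)⁻¹ * h * φ ⟨k, hkN⟩) =
            (φ ⟨k, hkN⟩)⁻¹ * (h * h) * φ ⟨k, hkN⟩ by group, hh2, mul_one, inv_mul_cancel])
        rw [e] at h0
        refine h1 ?_
        calc h = φ ⟨k, hkN⟩ * ((φ ⟨k, hkN⟩)⁻¹ * h * φ ⟨k, hkN⟩) * (φ ⟨k, hkN⟩)⁻¹ := by group
          _ = 1 := by rw [h0, mul_one, mul_inv_cancel]
    have hIlt : 2 * Nat.card I ≤ Nat.card W := by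
      have hne : I ≠ W := fun e => h1 (by
        refine hφ2 _ (mem_centralizer_iff.2 fun v hv => ?_)
        have hvi : v⁻¹ = v := inv_eq_of_mul_eq_one_right (hb.elem v hv)
        have h := ((e ▸ hd.VW hv : v ∈ I)).2
        rw [hvi] at h
        calc v * x = x * v * x * x := by rw [h]
          _ = x * v := by rw [mul_assoc _ x x, hxx, mul_one])
      obtain ⟨i, hi⟩ := card_dvd_of_le hIW
      rw [hi, mul_comm 2]
      refine Nat.mul_le_mul_left _ ?_
      by_contra! hi2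
      refine hne (eq_of_le_of_card_ge hIW ?_)
      rw [hi]
      calc Nat.card I * i ≤ Nat.card I * 1 := Nat.mul_le_mul_left _ (by omega)
        _ = Nat.card I := mul_one _
    obtain ⟨w, hw⟩ := IsPGroup.iff_card.1 (hd.two.to_le hd.WP)
    have hw1 : 1 ≤ w := by
      by_contra! hlt
      have := card_le_of_le hd.VW
      rw [hV8, hw, show w = 0 by omega] at this
      norm_num at this
    have hXne : x ∈ X := ⟨hxK, hxR, rfl⟩
    have hXle : X.ncard ≤ Nat.card I := by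
      refine (Set.ncard_le_ncard hXI (Set.toFinite _)).trans ?_
      rw [Set.ncard_image_of_injective _ (mul_right_injective x), ← Nat.card_coe_set_eq]
      rfl
    by_cases hdiv : 2 ^ (w - 1 + 1) ∣ X.ncard
    · have := Nat.le_of_dvd ((Set.ncard_pos (Set.toFinite _)).2 ⟨x, hXne⟩) hdiv
      rw [Nat.sub_add_cancel hw1, ← hw] at this
      have : 0 < Nat.card I := Nat.card_pos
      omega
    · obtain ⟨y, hy, hyle⟩ := exists_short hR2 hXR hdiv
      have h16 := hm.card_le hy.1 (hR2.to_le inf_le_left) (inf_le_right : R ⊓ centralizer ({y} : Set G) ≤ _)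
      rw [hRcard, hPW, hw] at hyle
      rw [hT16] at h16
      have e : 2 ^ w = 2 * 2 ^ (w - 1) := by rw [← pow_succ', Nat.sub_add_cancel hw1]
      rw [e] at hyle
      have hpos : 0 < 2 ^ (w - 1) := by positivity
      nlinarith [Nat.mul_le_mul_left (2 ^ (w - 1)) h16]
  -- a Sylow 2-subgroup of `G`
  obtain ⟨z, hz⟩ := exists_prime_orderOf_dvd_card' (G := MulAut V) 2 (by
    rw [le_antisymm (card_aut_le hV8 hexp) hMA]; norm_num)
  obtain ⟨U, a, b, hU⟩ := exists_eight_aut hV8 hexp hMA z (by rw [← pow_two, ← hz, pow_orderOf_eq_one])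
    (fun e => by rw [e, orderOf_one] at hz; omega)
  obtain ⟨R, -, hR2, hPR, hRN, hmem, himg, hk, hRcard⟩ := hpre U hU.card P hd.two le_rfl
    (fun r hr => ⟨hPN hr, by rw [hφ2 _ (hd.PX hr)]; exact one_mem _⟩)
  obtain ⟨S, hS⟩ := hR2.exists_le_sylow
  have hKR : ∀ x, IsConj t x ∧ x ∈ R ↔ x ∈ P ∧ t * x ∈ W :=
    fun x => ⟨fun h => hKN x (hRN h.2) h.1, fun h => ⟨(hKP x h.1).2 h.2, hPR h.1⟩⟩
  have htK : ∀ u ∈ W, IsConj t (t * u) ∧ t * u ∈ R := fun u hu => (hKR _).2
    ⟨mul_mem hd.tP (hd.WP hu), by rw [← mul_assoc, hm.t2, one_mul]; exact hu⟩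
  have hSR : (S : Subgroup G) = R := by
    by_contra hne
    haveI : Group.IsNilpotent ↥(S : Subgroup G) := S.isPGroup'.isNilpotent
    have hlt : R.subgroupOf (S : Subgroup G) < ⊤ :=
      lt_top_iff_ne_top.2 fun e => hne (le_antisymm (subgroupOf_eq_top.1 e) hS)
    obtain ⟨s, hs, hsR⟩ := SetLike.exists_of_lt (normalizerCondition_of_isNilpotent _ hlt)
    have hsn : ∀ y ∈ R, (s : G) * y * (s : G)⁻¹ ∈ R := fun y hy =>
      mem_subgroupOf.1 ((Subgroup.mem_normalizer_iff.1 hs ⟨y, hS hy⟩).1 (mem_subgroupOf.2 hy))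
    have him : ∀ u ∈ W, (s : G) * (t * u) * (s : G)⁻¹ ∈ P ∧ t * ((s : G) * (t * u) * (s : G)⁻¹) ∈ W := fun u hu =>
      (hKR _).1 ⟨(htK u hu).1.trans (_root_.isConj_iff.2 ⟨_, rfl⟩), hsn _ (htK u hu).2⟩
    have hts : t * ((s : G) * t * (s : G)⁻¹) ∈ W := by
      have := (him 1 (one_mem _)).2; rwa [mul_one] at this
    have hsW : ∀ u ∈ W, (s : G) * u * (s : G)⁻¹ ∈ W := fun u hu => by
      have := mul_mem (hWt _ hts) (him u hu).2
      rwa [show t * (t * ((s : G) * t * (s : G)⁻¹)) * t * (t * ((s : G) * (t * u) * (s : G)⁻¹)) =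
        (t * t) * ((s : G) * t * (s : G)⁻¹) * (t * t) * ((s : G) * (t * u) * (s : G)⁻¹) by group, hm.t2, one_mul,
        mul_one, show (s : G) * t * (s : G)⁻¹ * ((s : G) * (t * u) * (s : G)⁻¹) =
        (s : G) * ((t * t) * u) * (s : G)⁻¹ by group, hm.t2, one_mul] at this
    have hsP : (s : G) ∈ normalizer (P : Set G) := mem_normalizer_of_forall fun y hy => by
      rcases hd.split y hy with hW | hW
      · exact hd.WP (hsW y hW)
      · have e : (s : G) * y * (s : G)⁻¹ = ((s : G) * (y * t) * (s : G)⁻¹) * ((s : G) * t * (s : G)⁻¹) := by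
          rw [show (s : G) * (y * t) * (s : G)⁻¹ * ((s : G) * t * (s : G)⁻¹) = (s : G) * (y * (t * t)) * (s : G)⁻¹
            by group, hm.t2, mul_one]
        rw [e]
        refine mul_mem (hd.WP (hsW _ hW)) ?_
        have := (him 1 (one_mem _)).1; rwa [mul_one] at this
    have hsV : (s : G) ∈ normalizer (V : Set G) := mem_normalizer_of_forall fun v hv => by
      set w := (s : G) * v * (s : G)⁻¹ with hw
      have hwW : w ∈ W := hsW v (hd.VW hv)
      have hw2 : w⁻¹ = w := inv_eq_of_mul_eq_one_right (conj_sq (hb.elem v hv))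
      refine hd.toDat.W_cent hb hwW ?_
      calc w * t = t * (t * w * t) := by rw [← mul_assoc, ← mul_assoc, hm.t2, one_mul]
        _ = t * w := by rw [hWinv w hwW, hw2]
    set R' := ((S : Subgroup G) ⊓ N) with hR'
    have hR'2 : IsPGroup 2 R' := S.isPGroup'.to_le inf_le_left
    let ρ : R' →* MulAut V := φ.comp (Subgroup.inclusion (inf_le_right : R' ≤ N))
    have hρU : ρ.range = U := by
      refine (eq_of_le_of_card_ge (fun u hu => ?_) ?_).symm
      · obtain ⟨r, e⟩ := himg u hu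
        exact ⟨⟨r, hS r.2, hRN r.2⟩, e⟩
      · rw [hU.card]
        have h2 : IsPGroup 2 ρ.range := by
          rintro ⟨_, x, rfl⟩
          obtain ⟨i, hi⟩ := hR'2 x
          exact ⟨i, Subtype.ext (by rw [SubmonoidClass.coe_pow, ← map_pow, hi, map_one, Subgroup.coe_one])⟩
        obtain ⟨i, hi⟩ := IsPGroup.iff_card.1 h2
        have hdvd := ρ.range.card_subgroup_dvd_card
        rw [le_antisymm (card_aut_le hV8 hexp) hMA, hi] at hdvd
        rw [hi]
        calc 2 ^ i ≤ 2 ^ 3 := Nat.pow_le_pow_right two_pos (by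
              by_contra! h4
              exact absurd (dvd_trans (Nat.pow_dvd_pow 2 h4) hdvd) (by norm_num))
          _ = 8 := by norm_num
    obtain ⟨r, hr⟩ := himg (ρ ⟨s, s.2, hsP, hsV⟩) (hρU ▸ ⟨_, rfl⟩)
    have hsr : (r : G)⁻¹ * s ∈ P := by
      rw [← hPC (R' ⊓ centralizer (V : Set G)) (hR'2.to_le inf_le_left) inf_le_right
        (le_inf (le_inf (hPR.trans hS) hPN) hd.PX)]
      refine ⟨⟨mul_mem ((S : Subgroup G).inv_mem (hS r.2)) s.2, mul_mem (N.inv_mem (hRN r.2)) ⟨hsP, hsV⟩⟩, ?_⟩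
      refine hφ1 ((Subgroup.inclusion hRN r)⁻¹ * ⟨s, hsP, hsV⟩) ?_
      rw [map_mul, map_inv, hr]
      exact inv_mul_cancel _
    refine hsR (mem_subgroupOf.2 ?_)
    have := mul_mem r.2 (hPR hsr)
    rwa [mul_inv_cancel_left] at this
  -- a complement of `t` over `W`
  have hWR : W ≤ R := hd.WP.trans hPR
  letI hWn : (W.subgroupOf R).Normal := ⟨fun w hw r => mem_subgroupOf.2
    (conj_mem_of_normalizer (hd.toDat.W_normal ha hb (hRN r.2).1) (mem_subgroupOf.1 hw))⟩
  let q := QuotientGroup.mk' (W.subgroupOf R)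
  have hq1 : ∀ r : R, q r = 1 ↔ (r : G) ∈ W := fun r => (QuotientGroup.eq_one_iff _).trans mem_subgroupOf
  have hsqW : ∀ r : R, φ (Subgroup.inclusion hRN r) * φ (Subgroup.inclusion hRN r) = 1 → (r : G) * r ∈ W := by
    intro r hr
    have hp : (r : G) * r ∈ P := hk (r * r) (by rw [map_mul, map_mul]; exact hr)
    rcases hd.split _ hp with hW | hW
    · exact hW
    exfalso
    have hK : IsConj t ((r : G) * r) := (hKP _ hp).2 (by
      have := hWt _ hW
      rwa [show t * ((r : G) * r * t) * t = t * ((r : G) * r) * (t * t) by group, hm.t2, mul_one] at this)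
    obtain ⟨c', hc', hcT⟩ := hm.exists_conj hK (hR2.to_le (zpowers_le.2 r.2)) (zpowers_le.2
      (mem_centralizer_singleton_iff.2 (mul_assoc (r : G) r r).symm))
    have h := hTsq _ (hcT r (mem_zpowers (r : G)))
    rw [show c' * (r : G) * c'⁻¹ * (c' * (r : G) * c'⁻¹) = c' * ((r : G) * r) * c'⁻¹ by group, hc'] at h
    exact hm.t1 h
  obtain ⟨a', ha'⟩ := himg a (hU.gen ▸ subset_closure (Set.mem_insert _ _))
  obtain ⟨b', hb'⟩ := himg b (hU.gen ▸ subset_closure (Set.mem_insert_of_mem _ rfl))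
  have haa : q a' * q a' = 1 := by
    rw [← map_mul, hq1]; exact hsqW a' (by rw [ha', hU.a2])
  have hbb : q b' * q b' = 1 := by
    rw [← map_mul, hq1]; exact hsqW b' (by rw [hb', hU.b2])
  have h4 : (q a' * q b') ^ 4 = 1 := by
    have h := hsqW (a' * b' * (a' * b')) (by
      simp only [map_mul, ha', hb']
      rw [← hU.ab]; simp only [pow_succ, pow_zero, one_mul, mul_assoc])
    calc (q a' * q b') ^ 4 = q (a' * b' * (a' * b') * (a' * b' * (a' * b'))) := by
          simp only [map_mul, pow_succ, pow_zero, one_mul, mul_assoc]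
      _ = 1 := (hq1 _).2 h
  have hrel : q a' * (q a' * q b') * (q a')⁻¹ = (q a' * q b')⁻¹ := by
    rw [mul_inv_rev, inv_eq_of_mul_eq_one_right haa, inv_eq_of_mul_eq_one_right hbb, ← mul_assoc, haa, one_mul]
  set A := (Invol.dihedralHom (n := 4) (q a' * q b') (q a') h4 haa hrel).range with hA
  have hA8 : Nat.card A ≤ 8 := by
    refine (Nat.card_le_card_of_surjective _ (MonoidHom.rangeRestrict_surjective _)).trans ?_
    rw [DihedralGroup.nat_card]
  have haA : q a' ∈ A := ⟨DihedralGroup.sr 0, by rw [show (0 : ZMod 4) = ((0 : ℤ) : ZMod 4) by simp,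
    Invol.dihedralHom_sr, zpow_zero, mul_one]⟩
  have hbA : q b' ∈ A := ⟨DihedralGroup.sr 1, by rw [show (1 : ZMod 4) = ((1 : ℤ) : ZMod 4) by simp,
    Invol.dihedralHom_sr, zpow_one, ← mul_assoc, haa, one_mul]⟩
  set M₀ := A.comap q with hM₀
  have hWM₀ : ∀ r : R, (r : G) ∈ W → r ∈ M₀ := fun r hr => by
    show q r ∈ A
    rw [(hq1 r).2 hr]; exact one_mem _
  have hor : ∀ r : R, r ∈ M₀ ∨ r * ⟨t, hPR hd.tP⟩ ∈ M₀ := by
    intro r
    obtain ⟨m, hmM, hmr⟩ : ∃ m ∈ M₀, φ (Subgroup.inclusion hRN m) = φ (Subgroup.inclusion hRN r) := by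
      have hle : U ≤ M₀.map (φ.comp (Subgroup.inclusion hRN)) := by
        rw [hU.gen, closure_le]
        rintro _ (rfl | rfl)
        · exact ⟨a', haA, ha'⟩
        · exact ⟨b', hbA, hb'⟩
      exact hle (hmem r)
    have hp : ((m⁻¹ * r : R) : G) ∈ P := hk _ (by rw [map_mul, map_inv, map_mul, map_inv, hmr, inv_mul_cancel])
    rcases hd.split _ hp with h | h
    · left; have := mul_mem hmM (hWM₀ (m⁻¹ * r) h); rwa [mul_inv_cancel_left] at this
    · right
      have := mul_mem hmM (hWM₀ (m⁻¹ * r * ⟨t, hPR hd.tP⟩) h)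
      rwa [mul_assoc, mul_inv_cancel_left] at this
  have htM₀ : (⟨t, hPR hd.tP⟩ : R) ∉ M₀ := fun h => by
    have htop : A = ⊤ := eq_top_iff.2 fun y _ => by
      obtain ⟨r, rfl⟩ := QuotientGroup.mk'_surjective _ y
      rcases hor r with h' | h'
      · exact h'
      · exact ((mul_mem_cancel_right h).1 h' : r ∈ M₀)
    have e := (W.subgroupOf R).card_mul_index
    rw [Nat.card_congr (subgroupOfEquivOfLe hWR).toEquiv, hRcard, hPW, index_eq_card,
      ← card_top (G := R ⧸ W.subgroupOf R), ← htop] at e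
    have := Nat.card_pos (α := W)
    nlinarith
  set M := M₀.map R.subtype with hM
  have hMR : M ≤ R := map_subtype_le _
  have hrelM : M.relIndex (S : Subgroup G) = 2 := by
    rw [hSR, relIndex, hM, ← comap_subtype, comap_map_eq_self_of_injective R.subtype_injective]
    rw [index_eq_two_iff]
    refine ⟨⟨t, hPR hd.tP⟩, fun r => ?_⟩
    rcases hor r with h | h
    · exact Or.inr ⟨h, fun h' => htM₀ ((mul_mem_cancel_left h).1 h')⟩
    · exact Or.inl ⟨h, fun h' => htM₀ ((mul_mem_cancel_left h').1 h)⟩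
  obtain ⟨e, he, -, hout⟩ := hm.parity hG S
  have hset : conjIn t (S : Subgroup G) \ (M : Set G) = (fun w => t * w) '' (W : Set G) := by
    ext x
    constructor
    · rintro ⟨⟨hxK, hxS⟩, -⟩
      have h := ((hKR x).1 ⟨hxK, hSR ▸ hxS⟩).2
      exact ⟨t * x, h, by show t * (t * x) = x; rw [← mul_assoc, hm.t2, one_mul]⟩
    · rintro ⟨u, hu, rfl⟩
      refine ⟨⟨(htK u hu).1, hSR.symm ▸ (htK u hu).2⟩, ?_⟩
      rintro ⟨r, hr, e'⟩
      refine htM₀ ?_
      have h2 := mul_mem hr (hWM₀ ⟨u⁻¹, hWR (inv_mem hu)⟩ (inv_mem hu))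
      rwa [show r * ⟨u⁻¹, hWR (inv_mem hu)⟩ = (⟨t, hPR hd.tP⟩ : R) from Subtype.ext (by
        simp only [Subgroup.coe_mul]
        rw [show (r : G) = t * u from e', mul_inv_cancel_right])] at h2
  have hd2 := hout M (hMR.trans hS) hrelM
  rw [hset, Set.ncard_image_of_injective _ (mul_right_injective t), ← Nat.card_coe_set_eq] at hd2
  rw [hSR, hRcard, hPW, hT16] at he
  have h2e : 2 ^ e = Nat.card W := by omega
  have h5 : 2 ^ (e + 1) ≤ Nat.card W := Nat.le_of_dvd Nat.card_pos hd2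
  rw [pow_succ, h2e] at h5
  have h6 : 0 < Nat.card W := Nat.card_pos
  omega

end Cfsg.Agent.Fus.CentTwoPSL
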