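import Cfsg.Agent.Lib.Fus.CentTwoPSL.OneClass
import Cfsg.Agent.Lib.Fus.CentTwoPSL.ElemMoved

/-!
# The elementary case

`D` is elementary abelian with a cyclically transitive element of `C(t)`.
-/

set_option autoImplicit false
set_option linter.style.haveILetI false

namespace Cfsg.Agent.Fus.CentTwoPSL

open Subgroup

variable {G : Type*} [Group G] [Finite G] {t : G} {T D : Subgroup G}

theorem Model.card_eq (hm : Model t T D) : Nat.card T = 2 * Nat.card D := by
  have e := (D.subgroupOf T).card_mul_index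
  rw [Nat.card_congr (subgroupOfEquivOfLe hm.DT).toEquiv] at e
  rw [← e, mul_comm]
  congr 1
  rw [index_eq_two_iff]
  refine ⟨⟨t, hm.tT⟩, fun x => ?_⟩
  rcases hm.split x x.2 with h | h
  · exact Or.inr ⟨h, fun h' => hm.tD ((mul_mem_cancel_left h).1 (show (x : G) * t ∈ D from h'))⟩
  · exact Or.inl ⟨h, fun h' => hm.tD ((mul_mem_cancel_left (show (x : G) ∈ D from h')).1 h)⟩

theorem elem_case (hG : ∀ f : G →* ℤˣ, f = 1) (hm : Model t T D) {g : G} (hg : g * t = t * g)
    (he : ElemTurn D g) (S : Sylow 2 G) (hTS : T ≤ (S : Subgroup G)) :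
    Nat.card ↥(S : Subgroup G) = 8 ∧ ∀ x ∈ (S : Subgroup G), x ^ 2 = 1 := by
  classical
  haveI : Fact (Nat.Prime 2) := ⟨Nat.prime_two⟩
  have hTsq : ∀ x ∈ T, x * x = 1 := fun x hx => by
    rcases hm.split x hx with h | h
    · exact he.sq x h
    · have h1 := he.sq _ h
      rwa [show x * t * (x * t) = x * (t * x) * t by group, ← hm.comm hx,
        show x * (x * t) * t = x * x * (t * t) by group, hm.t2, mul_one] at h1
  have habel : ∀ a ∈ T, ∀ b ∈ T, a * b = b * a := fun a ha b hb => by
    rw [← inv_eq_of_mul_eq_one_right (hTsq _ (mul_mem ha hb)), mul_inv_rev, inv_eq_of_mul_eq_one_right (hTsq a ha),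
      inv_eq_of_mul_eq_one_right (hTsq b hb)]
  have hTcard := hm.card_eq
  obtain ⟨n, hn⟩ := IsPGroup.iff_card.1 (hm.two.to_le hm.DT)
  have hn2 : 2 ≤ n := by
    have := he.big
    rw [hn, show 4 = 2 ^ 2 from rfl] at this
    exact (Nat.pow_le_pow_iff_right (le_refl 2)).1 this
  have hsplit' : ∀ x ∈ T, x ∈ D ∨ t * x ∈ D := fun x hx => by
    rcases hm.split x hx with h | h
    · exact Or.inl h
    · exact Or.inr (hm.comm hx ▸ h)
  have htD : ∀ v ∈ D, t * v ∈ T := fun v hv => mul_mem hm.tT (hm.DT hv)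
  have htinv : ∀ x, t * (t * x) = x := fun x => by rw [← mul_assoc, hm.t2, one_mul]
  have hgT : g ∈ normalizer (T : Set G) := mem_normalizer_of_forall fun x hx => by
    rcases hsplit' x hx with h | h
    · exact hm.DT (conj_mem_of_normalizer he.normP h)
    · rw [show g * x * g⁻¹ = g * (t * (t * x)) * g⁻¹ by rw [htinv],
        show g * (t * (t * x)) * g⁻¹ = (g * t) * (t * x) * g⁻¹ by group, hg,
        show t * g * (t * x) * g⁻¹ = t * (g * (t * x) * g⁻¹) by group]
      exact htD _ (conj_mem_of_normalizer he.normP h)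
  have hclsD : ∀ v ∈ D, v ≠ 1 → ∀ w ∈ D, w ≠ 1 → IsConj t v → IsConj t w := fun v hv hv1 w hw hw1 hK => by
    obtain ⟨j, hj⟩ := he.trans v hv hv1 w hw hw1
    exact hK.trans (_root_.isConj_iff.2 ⟨_, hj⟩)
  have hclsT : ∀ v ∈ D, v ≠ 1 → ∀ w ∈ D, w ≠ 1 → IsConj t (t * v) → IsConj t (t * w) := fun v hv hv1 w hw hw1 hK => by
    obtain ⟨j, hj⟩ := he.trans v hv hv1 w hw hw1
    refine hK.trans (_root_.isConj_iff.2 ⟨g ^ j, ?_⟩)
    rw [← hj, show g ^ j * (t * v) * (g ^ j)⁻¹ = (g ^ j * t) * v * (g ^ j)⁻¹ by group,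
      show g ^ j * t = t * g ^ j from (Commute.pow_left hg j : Commute (g ^ j) t)]
    group
  have hnot1 : ¬ IsConj t 1 := fun h => by
    obtain ⟨c, hc⟩ := _root_.isConj_iff.1 h
    exact hm.t1 (conj_eq_one_iff.1 hc)
  obtain ⟨v₀, hv₀, hv₀1⟩ : ∃ v ∈ D, v ≠ 1 := D.bot_or_exists_ne_one.resolve_left fun h => by
    have := he.big; rw [h, card_bot] at this; omega
  have hDncard : ((D : Set G) \ {1}).ncard + 1 = 2 ^ n := by
    rw [Set.ncard_diff_singleton_of_mem (one_mem D), ← Nat.card_coe_set_eq]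
    simp only [SetLike.coe_sort_coe, hn]
    exact Nat.sub_add_cancel Nat.one_le_two_pow
  have hDeven : Even (2 ^ n) := Nat.even_pow.2 ⟨even_two, by omega⟩
  obtain ⟨b, hb, ⟨m, hmodd, htot⟩, hout⟩ := hm.parity hG S
  by_cases hST : T = (S : Subgroup G)
  · -- `T` is a Sylow subgroup
    have hb0 : b = 0 := by
      rw [← hST] at hb
      rcases Nat.eq_zero_or_pos b with h | h
      · exact h
      · have : 2 ≤ 2 ^ b := Nat.le_self_pow h.ne' 2
        have hpos : 0 < Nat.card T := Nat.card_pos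
        nlinarith
    rw [hb0, pow_zero, one_mul, ← hST] at htot
    by_cases hA : IsConj t v₀
    · by_cases hB : IsConj t (t * v₀)
      · -- one class
        have hall : ∀ x ∈ (S : Subgroup G), x ≠ 1 → IsConj t x := fun x hx hx1 => by
          rw [← hST] at hx
          rcases hsplit' x hx with h | h
          · exact hclsD v₀ hv₀ hv₀1 x h hx1 hA
          · by_cases htx : t * x = 1
            · rw [← htinv x, htx, mul_one]
            · rw [← htinv x]
              exact hclsT v₀ hv₀ hv₀1 _ h htx hB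
        rcases eq_or_lt_of_le hn2 with h2 | h3
        · refine ⟨?_, fun x hx => by rw [pow_two]; exact hTsq x (hST ▸ hx)⟩
          rw [← hST, hTcard, hn, ← h2]; norm_num
        · exact (not_one_class S h3 hn (by rw [← hST, hTcard, hn, pow_succ']) (hST ▸ hm.DT) (hST ▸ hm.tT) hm.t1
            (fun x hx => hTsq x (hST ▸ hx)) g hg (hST ▸ hgT) he.trans hall).elim
      · exfalso
        have hset : conjIn t T = insert t ((D : Set G) \ {1}) := by
          ext x
          constructor
          · rintro ⟨hK, hx⟩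
            rcases hsplit' x hx with h | h
            · exact Or.inr ⟨h, fun h1 => hnot1 (by rw [Set.mem_singleton_iff] at h1; rwa [h1] at hK)⟩
            · by_cases htx : t * x = 1
              · exact Or.inl (by rw [← htinv x, htx, mul_one])
              · exact absurd (hclsT _ h htx v₀ hv₀ hv₀1 (by rwa [htinv])) hB
          · rintro (rfl | ⟨h, h1⟩)
            · exact ⟨IsConj.refl _, hm.tT⟩
            · exact ⟨hclsD v₀ hv₀ hv₀1 x h h1 hA, hm.DT h⟩
        rw [hset, Set.ncard_insert_of_notMem (fun h => hm.tD h.1) (Set.toFinite _), hDncard] at htot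
        exact Nat.not_even_iff_odd.2 hmodd (htot ▸ hDeven)
    · exfalso
      by_cases hB : IsConj t (t * v₀)
      · have hset : conjIn t T = (fun v => t * v) '' (D : Set G) := by
          ext x
          constructor
          · rintro ⟨hK, hx⟩
            rcases hsplit' x hx with h | h
            · exact absurd (hclsD x h (fun h1 => hnot1 (h1 ▸ hK)) v₀ hv₀ hv₀1 hK) hA
            · exact ⟨t * x, h, htinv x⟩
          · rintro ⟨v, hv, rfl⟩
            refine ⟨?_, htD v hv⟩
            by_cases hv1 : v = 1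
            · show IsConj t (t * v)
              rw [hv1, mul_one]
            · exact hclsT v₀ hv₀ hv₀1 v hv hv1 hB
        rw [hset, Set.ncard_image_of_injective _ (mul_right_injective t), ← Nat.card_coe_set_eq] at htot
        simp only [SetLike.coe_sort_coe, hn] at htot
        exact Nat.not_even_iff_odd.2 hmodd (htot ▸ hDeven)
      · have hset : conjIn t (S : Subgroup G) \ (D : Set G) = {t} := by
          ext x
          constructor
          · rintro ⟨⟨hK, hx⟩, hxD⟩
            rw [← hST] at hx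
            rcases hsplit' x hx with h | h
            · exact absurd h hxD
            · by_cases htx : t * x = 1
              · show x = t
                rw [← htinv x, htx, mul_one]
              · exact absurd (hclsT _ h htx v₀ hv₀ hv₀1 (by rwa [htinv])) hB
          · rintro rfl
            exact ⟨⟨IsConj.refl _, hST ▸ hm.tT⟩, hm.tD⟩
        have h := hout D (hST ▸ hm.DT) (relIndex_two (hST ▸ hm.DT) (hST ▸ hTcard))
        rw [hset, Set.ncard_singleton, hb0] at h
        norm_num at h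
  exfalso
  -- `z` central in `S`
  haveI : Nontrivial ↥(S : Subgroup G) := by
    refine (Subgroup.nontrivial_iff_ne_bot _).2 fun h => hm.t1 ?_
    exact (mem_bot.1 (h ▸ hTS hm.tT))
  haveI : Nontrivial (center ↥(S : Subgroup G)) := S.isPGroup'.center_nontrivial
  obtain ⟨⟨⟨z, hzS⟩, hzc⟩, hz1⟩ := exists_ne (1 : center ↥(S : Subgroup G))
  have hzS' : ∀ x ∈ (S : Subgroup G), x * z = z * x := fun x hx => congrArg Subtype.val (mem_center_iff.1 hzc ⟨x, hx⟩)
  have hzT : z ∈ T := hm.mem_of_comm S.isPGroup' hTS hzS (hzS' t (hTS hm.tT)).symm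
  have hlt : Nat.card T < Nat.card ↥(S : Subgroup G) := by
    by_contra! h
    exact hST (eq_of_le_of_card_ge hTS h)
  have hzK : ¬ IsConj t z := fun hK =>
    absurd (hm.card_le hK S.isPGroup' fun x hx => mem_centralizer_singleton_iff.2 (hzS' x hx)) (not_le.2 hlt)
  have hzne : z ≠ 1 := fun h => hz1 (Subtype.ext (Subtype.ext h))
  obtain ⟨s, hsS, hsT, hst⟩ := hm.exists_moving S.isPGroup' hTS hST
  have hsn : ∀ x ∈ T, s * x * s⁻¹ ∈ T := fun x hx => conj_mem_of_normalizer hsT hx
  -- the conjugates of `t` in `T` are `tD`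
  have hAno : ∀ v ∈ D, ¬ IsConj t v := by
    intro v hv hK
    have hv1 : v ≠ 1 := fun h => hnot1 (h ▸ hK)
    have hB : ∀ w ∈ D, w ≠ 1 → ¬ IsConj t (t * w) := fun w hw hw1 hK' => by
      rcases hsplit' z hzT with h | h
      · exact hzK (hclsD v hv hv1 z h hzne hK)
      · by_cases htz : t * z = 1
        · exact hzK (by rw [← htinv z, htz, mul_one])
        · exact hzK (htinv z ▸ hclsT w hw hw1 _ h htz hK')
    have him : ∀ w ∈ D, w ≠ 1 → s * w * s⁻¹ = t ∨ (s * w * s⁻¹ ∈ D ∧ s * w * s⁻¹ ≠ 1) := fun w hw hw1 => by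
      have hK1 : IsConj t (s * w * s⁻¹) := (hclsD v hv hv1 w hw hw1 hK).trans (_root_.isConj_iff.2 ⟨s, rfl⟩)
      rcases hsplit' _ (hsn w (hm.DT hw)) with h | h
      · exact Or.inr ⟨h, fun h1 => hnot1 (h1 ▸ hK1)⟩
      · by_cases htx : t * (s * w * s⁻¹) = 1
        · exact Or.inl (by rw [← htinv (s * w * s⁻¹), htx, mul_one])
        · exact absurd (by rwa [htinv]) (hB _ h htx)
    have hsn' : s⁻¹ * t * s ∈ T := by
      have := conj_mem_of_normalizer (inv_mem hsT) hm.tT
      rwa [inv_inv] at this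
    set v₁ := s⁻¹ * t * s with hv₁
    have hK₁ : IsConj t v₁ := _root_.isConj_iff.2 ⟨s⁻¹, by rw [inv_inv]⟩
    have hv₁t : v₁ ≠ t := fun h => hst (by
      calc s * t * s⁻¹ = s * v₁ * s⁻¹ := by rw [h]
        _ = t := by rw [hv₁]; group)
    have hv₁D : v₁ ∈ D := by
      rcases hsplit' _ hsn' with h | h
      · exact h
      · by_cases htx : t * v₁ = 1
        · exact absurd (by rw [← htinv v₁, htx, mul_one]) hv₁t
        · exact absurd (by rwa [htinv]) (hB _ h htx)
    have hv₁1 : v₁ ≠ 1 := fun h => hnot1 (h ▸ hK₁)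
    obtain ⟨w, hw, hw'⟩ : ∃ w ∈ D, w ∉ ({1, v₁} : Set G) := by
      by_contra! hall
      have h1 := Set.ncard_le_ncard (t := ({1, v₁} : Set G)) hall (Set.toFinite _)
      rw [Set.ncard_pair hv₁1.symm, ← Nat.card_coe_set_eq] at h1
      have := he.big
      simp only [SetLike.coe_sort_coe] at h1
      omega
    simp only [Set.mem_insert_iff, Set.mem_singleton_iff, not_or] at hw'
    have hsv : s * v₁ * s⁻¹ = t := by rw [hv₁]; group
    rcases him w hw hw'.1 with h | ⟨h, h1⟩
    · exact hw'.2 (mul_left_cancel (mul_right_cancel (h.trans hsv.symm)))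
    have hvw1 : v₁ * w ≠ 1 := fun h => hw'.2 ((eq_inv_of_mul_eq_one_right h).trans
      (inv_eq_of_mul_eq_one_right (he.sq _ hv₁D)))
    have e : s * (v₁ * w) * s⁻¹ = t * (s * w * s⁻¹) := by
      rw [show s * (v₁ * w) * s⁻¹ = (s * v₁ * s⁻¹) * (s * w * s⁻¹) by group, hsv]
    have hK2 : IsConj t (t * (s * w * s⁻¹)) :=
      e ▸ (hclsD v hv hv1 _ (mul_mem hv₁D hw) hvw1 hK).trans (_root_.isConj_iff.2 ⟨s, rfl⟩)
    exact hB _ h h1 hK2
  have hBall : ∀ v ∈ D, IsConj t (t * v) := by
    intro v hv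
    have hK : IsConj t (s * t * s⁻¹) := _root_.isConj_iff.2 ⟨s, rfl⟩
    rcases hsplit' _ (hsn t hm.tT) with h | h
    · exact absurd hK (hAno _ h)
    · by_cases hv1 : v = 1
      · rw [hv1, mul_one]
      by_cases htx : t * (s * t * s⁻¹) = 1
      · exact absurd (by rw [← htinv (s * t * s⁻¹), htx, mul_one]) hst
      · exact hclsT _ h htx v hv hv1 (by rwa [htinv])
  have hnormD : ∀ x ∈ normalizer (T : Set G), x ∈ normalizer (D : Set G) := fun x hx =>
    mem_normalizer_of_forall fun v hv => by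
      have key : ∀ y ∈ T, IsConj t y → t * y ∈ D := fun y hy hK => by
        rcases hsplit' y hy with h | h
        · exact absurd hK (hAno y h)
        · exact h
      have h1 := key _ (conj_mem_of_normalizer hx (htD v hv)) ((hBall v hv).trans (_root_.isConj_iff.2 ⟨x, rfl⟩))
      have h2 := key _ (conj_mem_of_normalizer hx hm.tT) (_root_.isConj_iff.2 ⟨x, rfl⟩)
      have h3 := mul_mem h2 h1
      rwa [show t * (x * t * x⁻¹) = x * t * x⁻¹ * t from (hm.comm (conj_mem_of_normalizer hx hm.tT)).symm,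
        show x * t * x⁻¹ * t * (t * (x * (t * v) * x⁻¹)) = x * t * x⁻¹ * (t * t) * (x * (t * v) * x⁻¹) by group,
        hm.t2, mul_one, show x * t * x⁻¹ * (x * (t * v) * x⁻¹) = x * ((t * t) * v) * x⁻¹ by group, hm.t2,
        one_mul] at h3
  -- the maximal turned subgroup
  have hTX : T ≤ centralizer (D : Set G) := fun x hx =>
    mem_centralizer_iff.2 fun v hv => habel v (hm.DT hv) x hx
  have hbase : Base t D :=
    { t2 := hm.t2
      tV := hm.tD
      comm := fun v hv => hm.comm (hm.DT hv)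
      abel := fun v hv w hw => habel v (hm.DT hv) w (hm.DT hw)
      elem := he.sq
      big := he.big
      bound := fun x hx _ R hR _ hRx => (hm.card_le hx hR hRx).trans hTcard.le
      apart := hAno }
  obtain ⟨P, g', Q, W, hd⟩ := hbase.exists_top hm.two hm.tT hm.DT hTX ⟨hg, he.normP, hgT, he.trans⟩
  have hTP : T ≤ P := fun x hx => by
    rcases hm.split x hx with h | h
    · exact hd.VP h
    · have := mul_mem (hd.VP h) hd.tP
      rwa [mul_assoc, hm.t2, mul_one] at this
  by_cases hmoved : ∃ k, k ∈ normalizer (D : Set G) ∧ k ∈ normalizer (P : Set G) ∧ t * (k * t * k⁻¹) ∉ Q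
  · obtain ⟨k, hkD, hkP, hk⟩ := hmoved
    rcases eq_or_lt_of_le hn2 with h2 | h3
    · exact hk (hd.fix_four hbase (by rw [hn, ← h2]; norm_num) hkD hkP)
    · exact elem_moved hG hm hTsq hTcard hn h3 hbase hd hkD hkP hk
  push_neg at hmoved
  obtain ⟨R, hPR⟩ := hd.two.exists_le_sylow
  have hRP : (R : Subgroup G) = P := by
    by_contra hne
    haveI : Group.IsNilpotent ↥(R : Subgroup G) := R.isPGroup'.isNilpotent
    have hlt' : P.subgroupOf (R : Subgroup G) < ⊤ :=
      lt_top_iff_ne_top.2 fun e => hne (le_antisymm (subgroupOf_eq_top.1 e) hPR)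
    obtain ⟨k, hk, hkP⟩ := SetLike.exists_of_lt (normalizerCondition_of_isNilpotent _ hlt')
    have hkn : ∀ y ∈ P, (k : G) * y * (k : G)⁻¹ ∈ P := fun y hy =>
      mem_subgroupOf.1 ((Subgroup.mem_normalizer_iff.1 hk ⟨y, hPR hy⟩).1 (mem_subgroupOf.2 hy))
    have hkN : (k : G) ∈ normalizer (P : Set G) := mem_normalizer_of_forall hkn
    have hkD : (k : G) ∈ normalizer (D : Set G) := by
      by_cases hPT : P = T
      · exact hnormD _ (hPT ▸ hkN)
      refine mem_normalizer_of_forall fun v hv => ?_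
      set w := (k : G) * v * (k : G)⁻¹ with hw
      have hwP : w ∈ P := hkn v (hd.VP hv)
      have hcen : ∀ y ∈ P, y * w = w * y := fun y hy => by
        have hy' : (k : G)⁻¹ * y * (k : G)⁻¹⁻¹ ∈ P := conj_mem_of_normalizer (inv_mem hkN) hy
        have hv' := mem_centralizer_iff.1 (hd.PX hy') v hv
        calc y * w = (k : G) * ((k : G)⁻¹ * y * (k : G)⁻¹⁻¹ * v) * (k : G)⁻¹ := by rw [hw]; group
          _ = (k : G) * (v * ((k : G)⁻¹ * y * (k : G)⁻¹⁻¹)) * (k : G)⁻¹ := by rw [hv']
          _ = w * y := by rw [hw]; group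
      rcases hd.toDat.mem_T hbase hwP (hcen t hd.tP).symm with h | h
      · exact h
      exfalso
      apply hPT
      have htc : ∀ y ∈ P, y * t = t * y := fun y hy => by
        have h1 := mem_centralizer_iff.1 (hd.PX hy) _ h
        have h2 := hcen y hy
        calc y * t = w⁻¹ * (w * y) * t := by group
          _ = w⁻¹ * (y * (w * t)) := by rw [← h2]; group
          _ = w⁻¹ * (w * t * y) := by rw [h1]
          _ = t * y := by group
      refine le_antisymm (fun y hy => ?_) hTP
      exact hm.mem_of_comm hd.two hTP hy (htc y hy)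
    obtain ⟨x, hx, hxc⟩ := hd.toDat.exists_mul hbase (hmoved k hkD hkN)
    have hxk : x * k ∈ P := hTP (hm.mem_of_comm R.isPGroup' (hTP.trans hPR) (mul_mem (hPR hx) k.2) hxc)
    exact hkP (mem_subgroupOf.2 ((mul_mem_cancel_left hx).1 hxk))
  obtain ⟨e, hee, ⟨m', hm', htot'⟩, hout'⟩ := hm.parity hG R
  rw [hRP] at hee htot' hout'
  have hQpos : 0 < Nat.card Q := Nat.card_pos
  have he2 : 2 ^ e = Nat.card Q := by
    rw [hd.card_eq, hTcard] at hee
    have hDpos : 0 < Nat.card D := Nat.card_pos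
    apply Nat.eq_of_mul_eq_mul_left (show 0 < 2 * Nat.card D by omega)
    rw [hee]; ring
  have hQt : ∀ x ∈ Q, IsConj t (t * x) := fun x hx => hd.toDat.tcoset hbase hx
  have hWt : ∀ y ∈ P, y ∈ W ∨ t * y ∈ W := fun y hy => by
    rcases hd.split y hy with h | h
    · exact Or.inl h
    · by_cases hyW : y ∈ W
      · exact Or.inl hyW
      refine Or.inr ?_
      have hti : ((W.subgroupOf P).index) = 2 := by
        have e1 := (W.subgroupOf P).card_mul_index
        rw [Nat.card_congr (subgroupOfEquivOfLe hd.WP).toEquiv, hd.card_eq, hd.cardW] at e1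
        apply Nat.eq_of_mul_eq_mul_left (show 0 < Nat.card D * Nat.card Q from Nat.mul_pos Nat.card_pos hQpos)
        rw [e1]; ring
      exact (mul_mem_iff_of_index_two hti (a := ⟨t, hd.tP⟩) (b := ⟨y, hy⟩)).2
        (iff_of_false (fun h' => hd.tW h') fun h' => hyW h')
  have hcardW : ((W : Set G) \ (Q : Set G)).ncard + Nat.card Q = 2 ^ n * Nat.card Q := by
    have h1 := Set.ncard_sdiff_add_ncard_of_subset (show (Q : Set G) ⊆ W from hd.QW) (Set.toFinite _)
    have eQ : (Q : Set G).ncard = Nat.card Q := (Nat.card_coe_set_eq _).symm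
    have eW : (W : Set G).ncard = Nat.card W := (Nat.card_coe_set_eq _).symm
    rw [eQ, eW, hd.cardW, hn] at h1
    exact h1
  have heven : Even (2 ^ n * Nat.card Q) := hDeven.mul_right _
  by_cases hA : ∃ a ∈ W, a ∉ Q ∧ IsConj t a
  · obtain ⟨a, haW, haQ, haK⟩ := hA
    have hset : conjIn t P = (fun x => t * x) '' (Q : Set G) ∪ ((W : Set G) \ Q) := by
      ext x
      constructor
      · rintro ⟨hK, hx⟩
        rcases hWt x hx with h | h
        · exact Or.inr ⟨h, fun hq => hd.toDat.notQ hbase hq hK⟩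
        · by_cases hq : t * x ∈ Q
          · exact Or.inl ⟨t * x, hq, htinv x⟩
          · exact (hd.toDat.not_both hbase haW haK
              (hd.toDat.tW_all hbase h hq haW haQ (by rwa [htinv]))).elim
      · rintro (⟨q, hq, rfl⟩ | ⟨h, hq⟩)
        · exact ⟨hQt q hq, mul_mem hd.tP (hd.QP hq)⟩
        · exact ⟨hd.toDat.W_all hbase haW haQ h hq haK, hd.WP h⟩
    rw [hset, Set.ncard_union_eq (by
        rw [Set.disjoint_left]
        rintro _ ⟨q, hq, rfl⟩ ⟨h, -⟩
        exact hd.tW ((mul_mem_cancel_right (hd.QW hq)).1 h)) (Set.toFinite _) (Set.toFinite _),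
      Set.ncard_image_of_injective _ (mul_right_injective t), ← Nat.card_coe_set_eq, add_comm] at htot'
    simp only [SetLike.coe_sort_coe, hcardW, he2] at htot'
    have : m' = 2 ^ n := Nat.eq_of_mul_eq_mul_left hQpos (by rw [← htot']; ring)
    exact Nat.not_even_iff_odd.2 hm' (this ▸ hDeven)
  push_neg at hA
  by_cases hB : ∃ a ∈ W, a ∉ Q ∧ IsConj t (t * a)
  · obtain ⟨a, haW, haQ, haK⟩ := hB
    have hset : conjIn t P = (fun x => t * x) '' (W : Set G) := by
      ext x
      constructor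
      · rintro ⟨hK, hx⟩
        rcases hWt x hx with h | h
        · exact absurd hK (if hq : x ∈ Q then hd.toDat.notQ hbase hq else hA x h hq)
        · exact ⟨t * x, h, htinv x⟩
      · rintro ⟨w, hw, rfl⟩
        refine ⟨?_, mul_mem hd.tP (hd.WP hw)⟩
        by_cases hq : w ∈ Q
        · exact hQt w hq
        · exact hd.toDat.tW_all hbase haW haQ hw hq haK
    rw [hset, Set.ncard_image_of_injective _ (mul_right_injective t), ← Nat.card_coe_set_eq] at htot'
    simp only [SetLike.coe_sort_coe, hd.cardW, hn, he2] at htot'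
    have : m' = 2 ^ n := Nat.eq_of_mul_eq_mul_left hQpos (by rw [← htot']; ring)
    exact Nat.not_even_iff_odd.2 hm' (this ▸ hDeven)
  push_neg at hB
  have hset : conjIn t P \ (W : Set G) = (fun x => t * x) '' (Q : Set G) := by
    ext x
    constructor
    · rintro ⟨⟨hK, hx⟩, hxW⟩
      rcases hWt x hx with h | h
      · exact absurd h hxW
      · by_cases hq : t * x ∈ Q
        · exact ⟨t * x, hq, htinv x⟩
        · exact absurd (by rwa [htinv]) (hB _ h hq)
    · rintro ⟨q, hq, rfl⟩
      exact ⟨⟨hQt q hq, mul_mem hd.tP (hd.QP hq)⟩, fun h => hd.tW ((mul_mem_cancel_right (hd.QW hq)).1 h)⟩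
  have h := hout' W hd.WP (relIndex_two hd.WP (by rw [hd.card_eq, hd.cardW]; ring))
  rw [hset, Set.ncard_image_of_injective _ (mul_right_injective t), ← Nat.card_coe_set_eq] at h
  have h5 : 2 ^ (e + 1) ≤ Nat.card Q := Nat.le_of_dvd Nat.card_pos h
  rw [pow_succ, he2] at h5
  omega

end Cfsg.Agent.Fus.CentTwoPSL
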