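import Cfsg.Agent.Lib.Fus.CentTwoPSL.DihOne
import Cfsg.Agent.Lib.Fus.CentTwoPSL.DihTwo
import Cfsg.Agent.Lib.Fus.CentTwoPSL.DihBig

/-!
# An involution centraliser `2 × PSL₂(q)` modulo core forces Sylow subgroups elementary of order eight
-/

set_option autoImplicit false
set_option linter.style.haveILetI false

namespace Cfsg.Agent.Fus.CentTwoPSL

open Subgroup

theorem no_index_two {G : Type*} [Group G] [IsSimpleGroup G] (hG : ¬ IsMulCommutative G) (H : Subgroup G) :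
    H.index ≠ 2 := by
  intro h
  haveI := Subgroup.normal_of_index_eq_two h
  rcases (inferInstance : H.Normal).eq_bot_or_eq_top with e | e
  · rw [e, index_bot] at h
    haveI : Fact (Nat.Prime 2) := ⟨Nat.prime_two⟩
    haveI : IsCyclic G := isCyclic_of_prime_card (p := 2) h
    obtain ⟨g, hg⟩ := IsCyclic.exists_generator (α := G)
    refine hG ⟨⟨fun a b => ?_⟩⟩
    obtain ⟨i, rfl⟩ := mem_zpowers_iff.1 (hg a)
    obtain ⟨j, rfl⟩ := mem_zpowers_iff.1 (hg b)
    exact ((Commute.refl g).zpow_zpow i j).eq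
  · rw [e, index_top] at h
    omega

theorem sylow_card_eight {G : Type*} [Group G] [Finite G] [IsSimpleGroup G] (hG : ¬ IsMulCommutative G) (t : G)
    (ht : orderOf t = 2) {F : Type*} [Field F] [Fintype F] (hF : 3 < Fintype.card F)
    (hL : Nonempty (↥(Subgroup.closure {x : (↥(Subgroup.centralizer ({t} : Set G)) ⧸
        Cfsg.oddCore ↥(Subgroup.centralizer ({t} : Set G))) | ∃ k : ℕ, orderOf x = 2 ^ k}) ≃*
      (Multiplicative (ZMod 2) × Matrix.ProjectiveSpecialLinearGroup (Fin 2) F))) (S : Sylow 2 G) :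
    Nat.card ↥(S : Subgroup G) = 8 ∧ ∀ x ∈ (S : Subgroup G), x ^ 2 = 1 := by
  classical
  haveI : Fact (Nat.Prime 2) := ⟨Nat.prime_two⟩
  obtain ⟨T, D, hm, hcases⟩ := exists_model t ht hF hL
  obtain ⟨S₁, hS₁⟩ := hm.two.exists_le_sylow
  suffices h : Nat.card ↥(S₁ : Subgroup G) = 8 ∧ ∀ x ∈ (S₁ : Subgroup G), x ^ 2 = 1 by
    obtain ⟨c, hc⟩ := MulAction.exists_smul_eq G S₁ S
    refine ⟨(Nat.card_congr (Sylow.equiv S S₁).toEquiv).trans h.1, fun x hx => ?_⟩
    rw [← hc, Sylow.coe_subgroup_smul] at hx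
    obtain ⟨y, hy, rfl⟩ := hx
    show (c * y * c⁻¹) ^ 2 = 1
    rw [conj_pow, h.2 y hy, mul_one, mul_inv_cancel]
  have hchar := no_char hG
  rcases hcases with ⟨g, hg, he⟩ | ⟨σ, m, hd, hfours⟩
  · exact elem_case hchar hm hg he S₁ hS₁
  exfalso
  by_cases hTS : T = (S₁ : Subgroup G)
  · exact dih_one hchar hm hd S₁ hTS
  obtain ⟨b, hb, -, -⟩ := hm.parity hchar S₁
  match b, hb with
  | 0, hb => exact hTS (eq_of_le_of_card_ge hS₁ (by rw [hb, pow_zero, one_mul]))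
  | 1, hb => exact dih_two hchar (no_index_two hG) hm hd S₁ hS₁ (by rw [hb, pow_one])
  | b + 2, hb =>
    have h4 : 4 * Nat.card T ≤ Nat.card ↥(S₁ : Subgroup G) := by
      rw [hb, pow_add, show (2 : ℕ) ^ 2 = 4 from rfl]
      exact Nat.mul_le_mul_right _ (Nat.le_mul_of_pos_left 4 (Nat.two_pow_pos b))
    obtain ⟨S', U, hF'⟩ := exists_fourIn hchar hm hd S₁ hS₁ h4
    exact dih_big hchar hm hd hfours hF' (by rw [Nat.card_congr (Sylow.equiv S' S₁).toEquiv]; exact h4)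

end Cfsg.Agent.Fus.CentTwoPSL
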