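import Cfsg.Agent.Lib.Fus.CentTwoPSL.PSLFacts
import Cfsg.Agent.Lib.Grp.Cores
import Cfsg.Prelude

/-!
# The Sylow 2-subgroup of the centraliser of `t`

From `C/O(C) ⊇ 2 × PSL₂(q)` the Sylow 2-subgroup is `T = ⟨t⟩ × D`, with the fusion of `D` inside `C`.
-/

set_option autoImplicit false
set_option linter.style.haveILetI false

namespace Cfsg.Agent.Fus.CentTwoPSL

open Subgroup

/-- The Sylow 2-subgroup of the centraliser of `t`. -/
structure Model {G : Type*} [Group G] (t : G) (T D : Subgroup G) : Prop where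
  t2 : t * t = 1
  t1 : t ≠ 1
  tT : t ∈ T
  TC : T ≤ centralizer ({t} : Set G)
  DT : D ≤ T
  tD : t ∉ D
  split : ∀ x ∈ T, x ∈ D ∨ x * t ∈ D
  two : IsPGroup 2 T
  sylow : ∀ R : Subgroup G, IsPGroup 2 R → R ≤ centralizer ({t} : Set G) →
    ∃ c ∈ centralizer ({t} : Set G), ∀ x ∈ R, c * x * c⁻¹ ∈ T
  card : ∀ T' : Sylow 2 ↥(centralizer ({t} : Set G)),
    Nat.card ↥(T' : Subgroup ↥(centralizer ({t} : Set G))) = Nat.card T
  conjD : ∀ a ∈ D, ∀ b ∈ D, a * a = 1 → a ≠ 1 → b * b = 1 → b ≠ 1 →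
    ∃ c : G, c * t = t * c ∧ c * a * c⁻¹ = b

/-- A 2-subgroup that maps into the image of another is conjugate into it by the kernel of odd order. -/
theorem lift_conj {C Q : Type*} [Group C] [Finite C] [Group Q] (π : C →* Q)
    (hodd : ¬ 2 ∣ Nat.card π.ker) {U U' : Subgroup C} (hU : IsPGroup 2 U) (hU' : IsPGroup 2 U')
    (h : ∀ x ∈ U', π x ∈ U.map π) : ∃ o ∈ π.ker, ∀ x ∈ U', o * x * o⁻¹ ∈ U := by
  haveI : Fact (Nat.Prime 2) := ⟨Nat.prime_two⟩
  set H := (U.map π).comap π with hH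
  have hUH : U ≤ H := le_comap_map π U
  have hU'H : U' ≤ H := h
  have hinf : U ⊓ π.ker = ⊥ := by
    refine Grp.inf_eq_bot_of_coprime ?_
    obtain ⟨k, hk⟩ := IsPGroup.iff_card.1 hU
    rw [hk]
    exact Nat.Coprime.pow_left k ((Nat.prime_two.coprime_iff_not_dvd).2 hodd)
  have hHsup : H = U ⊔ π.ker := comap_map_eq π U
  have hcard : Nat.card H = Nat.card U * Nat.card π.ker := by
    have e := Grp.card_sup_mul_card_inf_normal (H := U) (N := π.ker)
    rw [hinf, card_bot, mul_one, ← hHsup] at e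
    exact e
  have hidx : ¬ 2 ∣ (U.subgroupOf H).index := by
    have e := (U.subgroupOf H).card_mul_index
    rw [Nat.card_congr (subgroupOfEquivOfLe hUH).toEquiv, hcard] at e
    rwa [Nat.eq_of_mul_eq_mul_left Nat.card_pos e]
  let S : Sylow 2 H := (hU.of_equiv (subgroupOfEquivOfLe hUH).symm).toSylow hidx
  obtain ⟨R, hR⟩ := (hU'.of_equiv (subgroupOfEquivOfLe hU'H).symm).exists_le_sylow
  obtain ⟨c, hc⟩ := MulAction.exists_smul_eq ↥H R S
  obtain ⟨u, hu, hπu⟩ := c.2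
  refine ⟨u⁻¹ * c, ?_, fun x hx => ?_⟩
  · rw [MonoidHom.mem_ker, map_mul, map_inv, hπu, inv_mul_cancel]
  · have h1 : c * ⟨x, hU'H hx⟩ * c⁻¹ ∈ (S : Subgroup ↥H) := by
      rw [← hc, Sylow.coe_subgroup_smul]
      exact ⟨_, hR (mem_subgroupOf.2 hx), rfl⟩
    have h2 : (c : C) * x * (c : C)⁻¹ ∈ U := mem_subgroupOf.1 h1
    rw [show u⁻¹ * (c : C) * x * (u⁻¹ * (c : C))⁻¹ = u⁻¹ * ((c : C) * x * (c : C)⁻¹) * u by group]
    exact mul_mem (mul_mem (inv_mem hu) h2) hu

theorem exists_model {G : Type*} [Group G] [Finite G] (t : G) (ht : orderOf t = 2) {F : Type*} [Field F]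
    [Fintype F] (hF : 3 < Fintype.card F)
    (hL : Nonempty (↥(Subgroup.closure {x : (↥(Subgroup.centralizer ({t} : Set G)) ⧸
        Cfsg.oddCore ↥(Subgroup.centralizer ({t} : Set G))) | ∃ k : ℕ, orderOf x = 2 ^ k}) ≃*
      (Multiplicative (ZMod 2) × Matrix.ProjectiveSpecialLinearGroup (Fin 2) F))) :
    ∃ T D : Subgroup G, Model t T D ∧ ((∃ g, g * t = t * g ∧ ElemTurn D g) ∨
      ∃ σ m, DihData D σ m ∧ ∀ τ ∈ D, τ ∉ zpowers σ →
        ∃ g, g * t = t * g ∧ g * σ ^ 2 ^ (m - 2) * g⁻¹ = τ ∧ g * τ * g⁻¹ = σ ^ 2 ^ (m - 2) * τ) := by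
  classical
  haveI : Fact (Nat.Prime 2) := ⟨Nat.prime_two⟩
  haveI := Classical.PSL_isSimple (F := F) (le_refl 2) fun _ => hF
  obtain ⟨e⟩ := hL
  set C := centralizer ({t} : Set G) with hC
  set L := Subgroup.closure {x : ↥C ⧸ Cfsg.oddCore ↥C | ∃ k : ℕ, orderOf x = 2 ^ k} with hLdef
  set π : ↥C →* ↥C ⧸ Cfsg.oddCore ↥C := QuotientGroup.mk' _ with hπ
  have hker : ¬ 2 ∣ Nat.card π.ker := by
    rw [hπ, QuotientGroup.ker_mk']
    exact Grp.pPrimeCore_not_dvd (p := 2)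
  have hinjR : ∀ R : Subgroup ↥C, IsPGroup 2 R → ∀ x ∈ R, π x = 1 → x = 1 := fun R hR x hx h1 => by
    have hk : x ∈ π.ker := h1
    obtain ⟨k, hk2⟩ := hR ⟨x, hx⟩
    have hx2 : x ^ 2 ^ k = 1 := congrArg Subtype.val hk2
    have h2 : orderOf x ∣ Nat.card π.ker := by
      rw [← Subgroup.orderOf_mk x hk]; exact orderOf_dvd_natCard _
    exact orderOf_eq_one_iff.1 (Nat.eq_one_of_dvd_coprimes
      (Nat.Coprime.pow_left k ((Nat.prime_two.coprime_iff_not_dvd).2 hker)) (orderOf_dvd_of_pow_eq_one hx2) h2)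
  have hmemL : ∀ R : Subgroup (↥C ⧸ Cfsg.oddCore ↥C), IsPGroup 2 R → R ≤ L := fun R hR x hx => by
    obtain ⟨k, hk⟩ := hR ⟨x, hx⟩
    obtain ⟨j, -, hj⟩ := (Nat.dvd_prime_pow Nat.prime_two).1
      (orderOf_dvd_of_pow_eq_one (x := x) (congrArg Subtype.val hk))
    exact subset_closure ⟨j, hj⟩
  obtain ⟨T₀⟩ : Nonempty (Sylow 2 ↥C) := inferInstance
  have hT₀L : ∀ x : (T₀ : Subgroup ↥C), π x ∈ L := fun x =>
    hmemL _ (T₀.isPGroup'.map π) ⟨x, x.2, rfl⟩
  let f : ↥(T₀ : Subgroup ↥C) →* Multiplicative (ZMod 2) × Matrix.ProjectiveSpecialLinearGroup (Fin 2) F :=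
    e.toMonoidHom.comp ((π.comp (T₀ : Subgroup ↥C).subtype).codRestrict L hT₀L)
  have hf : ∀ (x : (T₀ : Subgroup ↥C)) y, f x = y ↔ π x = (e.symm y : ↥L) := fun x y => by
    show e _ = y ↔ _
    rw [← e.eq_symm_apply, Subtype.ext_iff]
    rfl
  have hfinj : Function.Injective f := by
    rw [injective_iff_map_eq_one]
    intro x hx
    rw [hf, map_one] at hx
    exact Subtype.ext (hinjR _ T₀.isPGroup' _ x.2 hx)
  have hfR : IsPGroup 2 f.range := by
    rintro ⟨_, x, rfl⟩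
    obtain ⟨k, hk⟩ := T₀.isPGroup' x
    exact ⟨k, Subtype.ext (by
      show f x ^ 2 ^ k = 1
      rw [← map_pow, hk, map_one])⟩
  obtain ⟨P, hP⟩ := (hfR.map (MonoidHom.snd (Multiplicative (ZMod 2))
    (Matrix.ProjectiveSpecialLinearGroup (Fin 2) F))).exists_le_sylow
  set R := (⊤ : Subgroup (Multiplicative (ZMod 2))).prod (P : Subgroup (Matrix.ProjectiveSpecialLinearGroup (Fin 2) F))
    with hR
  have hR2 : IsPGroup 2 R := by
    have h2 : IsPGroup 2 (⊤ : Subgroup (Multiplicative (ZMod 2))) :=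
      IsPGroup.of_card (n := 1) (by rw [Subgroup.card_top, Nat.card_eq_fintype_card]; rfl)
    rintro ⟨⟨a, p⟩, ha, hp⟩
    obtain ⟨i, hi⟩ := h2 ⟨a, ha⟩
    obtain ⟨j, hj⟩ := P.isPGroup' ⟨p, hp⟩
    have hi' : a ^ 2 ^ i = 1 := congrArg Subtype.val hi
    have hj' : p ^ 2 ^ j = 1 := congrArg Subtype.val hj
    refine ⟨i + j, Subtype.ext (Prod.ext ?_ ?_)⟩
    · show a ^ 2 ^ (i + j) = 1
      rw [pow_add, pow_mul, hi', one_pow]
    · show p ^ 2 ^ (i + j) = 1
      rw [pow_add, mul_comm, pow_mul, hj', one_pow]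
  have hrange : f.range = R := by
    refine eq_of_le_of_card_ge (fun y hy => ⟨mem_top _, hP ⟨y, hy, rfl⟩⟩) ?_
    let em : R →* ↥C ⧸ Cfsg.oddCore ↥C := L.subtype.comp (e.symm.toMonoidHom.comp R.subtype)
    have hem : Function.Injective em :=
      L.subtype_injective.comp (e.symm.injective.comp R.subtype_injective)
    have h1 : (T₀ : Subgroup ↥C).map π ≤ em.range := by
      rintro _ ⟨x, hx, rfl⟩
      exact ⟨⟨f ⟨x, hx⟩, ⟨mem_top _, hP ⟨_, ⟨_, rfl⟩, rfl⟩⟩⟩, ((hf ⟨x, hx⟩ _).1 rfl).symm⟩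
    have h2 : IsPGroup 2 em.range := hR2.of_equiv (MonoidHom.ofInjective hem)
    have h3 := (T₀.mapSurjective (QuotientGroup.mk'_surjective _)).is_maximal' h2
      (by rw [Sylow.coe_mapSurjective]; exact h1)
    calc Nat.card R = Nat.card em.range := Nat.card_congr (MonoidHom.ofInjective hem).toEquiv
      _ = Nat.card ((T₀ : Subgroup ↥C).map π) := by rw [h3]; rfl
      _ ≤ Nat.card (T₀ : Subgroup ↥C) :=
        Nat.card_le_card_of_surjective _ (π.subgroupMap_surjective (T₀ : Subgroup ↥C))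
      _ = Nat.card f.range := Nat.card_congr (MonoidHom.ofInjective hfinj).toEquiv
  -- the complement of `t`
  have hex : ∀ p : P, ∃ x : (T₀ : Subgroup ↥C), f x = (1, (p : Matrix.ProjectiveSpecialLinearGroup (Fin 2) F)) :=
    fun p => by
      have : ((1 : Multiplicative (ZMod 2)), (p : Matrix.ProjectiveSpecialLinearGroup (Fin 2) F)) ∈ f.range := by
        rw [hrange]; exact ⟨mem_top _, p.2⟩
      exact this
  choose j hj using hex
  let jh : P →* ↥(T₀ : Subgroup ↥C) := MonoidHom.mk' j fun a b => hfinj (by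
    rw [map_mul, hj, hj, hj, Prod.mk_mul_mk, mul_one, Subgroup.coe_mul])
  let ι : P →* G := (C.subtype.comp (T₀ : Subgroup ↥C).subtype).comp jh
  have hιinj : Function.Injective ι := fun a b h => by
    have h1 : j a = j b := Subtype.ext (Subtype.ext h)
    exact Subtype.ext (congrArg Prod.snd ((hj a).symm.trans ((congrArg f h1).trans (hj b))))
  set T := (T₀ : Subgroup ↥C).map C.subtype with hT
  set D := ι.range with hD
  have hTcard : Nat.card T = Nat.card (T₀ : Subgroup ↥C) := card_map_of_injective C.subtype_injective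
  -- `t` is the involution of the first factor
  set tC : ↥C := ⟨t, mem_centralizer_singleton_iff.2 rfl⟩ with htC
  have ht2 : t * t = 1 := by rw [← pow_two, ← ht, pow_orderOf_eq_one]
  have ht1 : t ≠ 1 := fun h => by rw [h, orderOf_one] at ht; omega
  have htcen : tC ∈ center ↥C := mem_center_iff.2 fun x =>
    Subtype.ext (mem_centralizer_singleton_iff.1 x.2)
  have htT : tC ∈ (T₀ : Subgroup ↥C) := by
    haveI : (zpowers tC).Normal := ⟨fun x hx y => by
      rw [mem_center_iff.1 (zpowers_le.2 htcen hx) y, mul_inv_cancel_right]; exact hx⟩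
    have h2 : IsPGroup 2 (zpowers tC) := IsPGroup.of_card (n := 1) (by
      rw [Nat.card_zpowers, pow_one, ← ht]; exact orderOf_injective C.subtype C.subtype_injective tC |>.symm)
    exact ((Grp.le_pCore inferInstance h2).trans (Grp.pCore_le_sylow T₀)) (mem_zpowers tC)
  have hft : f ⟨tC, htT⟩ = (Multiplicative.ofAdd 1, 1) := by
    have hone : (f ⟨tC, htT⟩).2 = 1 := by
      have hc : (f ⟨tC, htT⟩).2 ∈ center (Matrix.ProjectiveSpecialLinearGroup (Fin 2) F) := by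
        refine mem_center_iff.2 fun p => ?_
        obtain ⟨m, hm⟩ := QuotientGroup.mk'_surjective _ ((e.symm (1, p) : ↥L) : ↥C ⧸ Cfsg.oddCore ↥C)
        have h0 := congrArg π (mem_center_iff.1 htcen m)
        rw [map_mul, map_mul, show π m = _ from hm, (hf ⟨tC, htT⟩ _).1 rfl, ← Subgroup.coe_mul,
          ← Subgroup.coe_mul, ← map_mul, ← map_mul] at h0
        exact congrArg Prod.snd (e.symm.injective (Subtype.ext h0))
      rcases (inferInstance : (center (Matrix.ProjectiveSpecialLinearGroup (Fin 2) F)).Normal).eq_bot_or_eq_top with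
        hb | htop
      · rwa [hb, mem_bot] at hc
      · exfalso
        have h1 := mem_center_iff.1 (htop ▸ mem_top (Classical.slToPSL 2 F (Fus.PSLTwo.mk2 1 1 0 1 (by ring))))
          (Classical.slToPSL 2 F (Fus.PSLTwo.mk2 1 0 1 1 (by ring)))
        rw [← map_mul, ← map_mul, ← inv_mul_eq_one, ← map_inv, ← map_mul] at h1
        obtain ⟨c, hc⟩ := (Classical.slToPSL_eq_one_iff _).1 h1
        have h01 := congrFun (congrFun hc 0) 1
        simp [Matrix.SpecialLinearGroup.coe_mul, Matrix.SpecialLinearGroup.coe_inv, Matrix.adjugate_fin_two,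
          Matrix.mul_apply] at h01
    refine Prod.ext ?_ hone
    have hne : f ⟨tC, htT⟩ ≠ 1 := fun h => ht1 (by
      have h' := hfinj (h.trans (map_one f).symm)
      exact congrArg (fun x : (T₀ : Subgroup ↥C) => ((x : ↥C) : G)) h')
    show (f ⟨tC, htT⟩).1 = Multiplicative.ofAdd 1
    have key : ∀ a : Multiplicative (ZMod 2), a ≠ 1 → a = Multiplicative.ofAdd 1 := fun a => by
      induction a using Multiplicative.rec with
      | ofAdd x =>
        fin_cases x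
        · exact fun h => absurd rfl h
        · exact fun _ => rfl
    exact key _ fun h => hne (Prod.ext h hone)
  -- lifting the conjugations of `PSL₂(q)`
  have hlift : ∀ p : Matrix.ProjectiveSpecialLinearGroup (Fin 2) F, ∃ g : G, g * t = t * g ∧
      ∀ u v : P, p * u * p⁻¹ = v → g * ι u * g⁻¹ = ι v := by
    intro p
    obtain ⟨m, hm⟩ := QuotientGroup.mk'_surjective _ ((e.symm (1, p) : ↥L) : ↥C ⧸ Cfsg.oddCore ↥C)
    let k : P →* ↥C := (T₀ : Subgroup ↥C).subtype.comp jh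
    have hk : ∀ u : P, π (k u) = (e.symm (1, (u : Matrix.ProjectiveSpecialLinearGroup (Fin 2) F)) : ↥L) :=
      fun u => (hf _ _).1 (hj u)
    set U : Subgroup P := ((P : Subgroup (Matrix.ProjectiveSpecialLinearGroup (Fin 2) F)).comap
      (MulAut.conj p).toMonoidHom).comap (P : Subgroup (Matrix.ProjectiveSpecialLinearGroup (Fin 2) F)).subtype with hU
    have hπm : ∀ u v : P, p * u * p⁻¹ = v → π (m * k u * m⁻¹) = π (k v) := fun u v huv => by
      rw [map_mul, map_mul, map_inv, show π m = _ from hm, hk, hk, ← Subgroup.coe_inv, ← Subgroup.coe_mul,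
        ← Subgroup.coe_mul, ← map_inv, ← map_mul, ← map_mul, Prod.inv_mk, Prod.mk_mul_mk, Prod.mk_mul_mk, huv,
        inv_one, mul_one, mul_one]
    have hk2 : ∀ W : Subgroup P, IsPGroup 2 (W.map k) := fun W =>
      T₀.isPGroup'.to_le (by rintro _ ⟨u, -, rfl⟩; exact (jh u).2)
    obtain ⟨o, ho, hoU⟩ := lift_conj π hker (U := (⊤ : Subgroup P).map k)
      (U' := (U.map k).map (MulAut.conj m).toMonoidHom) (hk2 _) ((hk2 _).map _) (by
        rintro _ ⟨_, ⟨u, hu, rfl⟩, rfl⟩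
        exact ⟨k ⟨_, hu⟩, ⟨⟨_, hu⟩, mem_top _, rfl⟩, (hπm u ⟨_, hu⟩ rfl).symm⟩)
    refine ⟨((o * m : ↥C) : G), congrArg Subtype.val (mem_center_iff.1 htcen (o * m)), fun u v huv => ?_⟩
    have hu : u ∈ U := by
      show p * (u : Matrix.ProjectiveSpecialLinearGroup (Fin 2) F) * p⁻¹ ∈
        (P : Subgroup (Matrix.ProjectiveSpecialLinearGroup (Fin 2) F))
      rw [huv]; exact v.2
    obtain ⟨w, -, hw⟩ := hoU _ ⟨_, ⟨u, hu, rfl⟩, rfl⟩
    have hwv : w = v := by
      have h1 : π (k w) = π (k v) := by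
        rw [hw, map_mul, map_mul, map_inv, show π o = 1 from ho, one_mul, inv_one, mul_one]
        exact hπm u v huv
      rw [hk, hk] at h1
      exact Subtype.ext (congrArg Prod.snd (e.symm.injective (Subtype.ext h1)))
    rw [hwv] at hw
    show ((o * m : ↥C) : G) * ((k u : ↥C) : G) * ((o * m : ↥C) : G)⁻¹ = ((k v : ↥C) : G)
    rw [← Subgroup.coe_inv, ← Subgroup.coe_mul, ← Subgroup.coe_mul, hw]
    congr 1
    show o * m * k u * (o * m)⁻¹ = o * (m * k u * m⁻¹) * o⁻¹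
    group
  have hDT : D ≤ T := by
    rintro _ ⟨u, rfl⟩
    exact ⟨_, (jh u).2, rfl⟩
  have htD : t ∉ D := by
    rintro ⟨u, hu⟩
    have h1 : j u = ⟨tC, htT⟩ := Subtype.ext (Subtype.ext hu)
    have h2 := congrArg (fun x => (f x).1) h1
    simp only [hj, hft] at h2
    exact absurd h2 (by
      intro h
      have h3 : (0 : ZMod 2) = 1 := congrArg Multiplicative.toAdd h
      exact zero_ne_one h3)
  have hsplit : ∀ x ∈ T, x ∈ D ∨ x * t ∈ D := by
    rintro _ ⟨y, hy, rfl⟩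
    have hyR : f ⟨y, hy⟩ ∈ R := hrange ▸ ⟨_, rfl⟩
    have key : ∀ a : Multiplicative (ZMod 2), a = 1 ∨ a * Multiplicative.ofAdd 1 = 1 := fun a => by
      induction a using Multiplicative.rec with
      | ofAdd x =>
        fin_cases x
        · exact Or.inl rfl
        · exact Or.inr (congrArg Multiplicative.ofAdd (CharTwo.add_self_eq_zero (1 : ZMod 2)))
    rcases key (f ⟨y, hy⟩).1 with h | h
    · refine Or.inl ⟨⟨_, hyR.2⟩, ?_⟩
      exact congrArg (fun x : (T₀ : Subgroup ↥C) => ((x : ↥C) : G))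
        (hfinj ((hj ⟨_, hyR.2⟩).trans (Prod.ext h.symm rfl)))
    · refine Or.inr ⟨⟨_, hyR.2⟩, ?_⟩
      exact congrArg (fun x : (T₀ : Subgroup ↥C) => ((x : ↥C) : G))
        (hfinj (a₁ := j ⟨_, hyR.2⟩) (a₂ := ⟨y, hy⟩ * ⟨tC, htT⟩) (by
          rw [hj, map_mul, hft]
          exact Prod.ext h.symm (mul_one _).symm))
  obtain ⟨hconj, hcases⟩ := psl_sylow hF P
  have hιcard : Nat.card D = Nat.card (P : Subgroup (Matrix.ProjectiveSpecialLinearGroup (Fin 2) F)) :=
    (Nat.card_congr (MonoidHom.ofInjective hιinj).toEquiv).symm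
  have hpow : ∀ (u : P) (n : ℕ), ι u ^ n = ι (u ^ n) := fun u n => (map_pow ι u n).symm
  refine ⟨T, D, ⟨ht2, ht1, ⟨tC, htT, rfl⟩, map_subtype_le _, hDT, htD, hsplit, T₀.isPGroup'.map _, ?_, ?_, ?_⟩, ?_⟩
  · intro R' hR' hR'C
    obtain ⟨R₁, hR₁⟩ := (hR'.of_equiv (subgroupOfEquivOfLe hR'C).symm).exists_le_sylow
    obtain ⟨c, hc⟩ := MulAction.exists_smul_eq ↥C R₁ T₀
    refine ⟨c, c.2, fun x hx => ⟨c * ⟨x, hR'C hx⟩ * c⁻¹, ?_, rfl⟩⟩
    show c * ⟨x, hR'C hx⟩ * c⁻¹ ∈ (T₀ : Subgroup ↥C)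
    rw [← hc, Sylow.coe_subgroup_smul]
    exact ⟨_, hR₁ (mem_subgroupOf.2 hx), rfl⟩
  · intro T'
    rw [hTcard]
    exact Nat.card_congr (Sylow.equiv T' T₀).toEquiv
  · rintro _ ⟨u, rfl⟩ _ ⟨v, rfl⟩ ha ha1 hb hb1
    have hord : ∀ u : P, ι u * ι u = 1 → ι u ≠ 1 →
        orderOf (u : Matrix.ProjectiveSpecialLinearGroup (Fin 2) F) = 2 := fun u h1 h2 => by
      rw [Subgroup.orderOf_coe, ← orderOf_injective ι hιinj]
      exact orderOf_eq_prime (by rw [pow_two]; exact h1) h2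
    obtain ⟨p, hp⟩ := _root_.isConj_iff.1 (hconj u u.2 v v.2 (hord u ha ha1) (hord v hb hb1))
    obtain ⟨g, hgt, hg⟩ := hlift p
    exact ⟨g, hgt, hg u v hp⟩
  · rcases hcases with ⟨p, hp⟩ | ⟨σ, n, hd, hfour⟩
    · obtain ⟨g, hgt, hg⟩ := hlift p
      refine Or.inl ⟨g, hgt, hιcard ▸ hp.big, ?_, mem_normalizer_of_forall ?_, ?_⟩
      · rintro _ ⟨u, rfl⟩
        rw [← map_mul, show u * u = 1 from Subtype.ext (hp.sq u u.2), map_one]
      · rintro _ ⟨u, rfl⟩
        exact ⟨⟨_, conj_mem_of_normalizer hp.normP u.2⟩, (hg u _ rfl).symm⟩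
      · rintro _ ⟨u, rfl⟩ hu1 _ ⟨v, rfl⟩ hv1
        obtain ⟨i, hi⟩ := hp.trans u u.2 (fun h => hu1 (by rw [show u = 1 from Subtype.ext h, map_one]))
          v v.2 (fun h => hv1 (by rw [show v = 1 from Subtype.ext h, map_one]))
        refine ⟨i, ?_⟩
        have hiter : ∀ (i : ℕ) (u : P), g ^ i * ι u * (g ^ i)⁻¹ =
            ι ⟨_, conj_mem_of_normalizer (pow_mem hp.normP i) u.2⟩ := by
          intro i
          induction i with
          | zero =>
            intro u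
            rw [pow_zero, one_mul, inv_one, mul_one]
            exact congrArg ι (Subtype.ext (by simp))
          | succ i ih =>
            intro u
            rw [pow_succ, show g ^ i * g * ι u * (g ^ i * g)⁻¹ = g ^ i * (g * ι u * g⁻¹) * (g ^ i)⁻¹ by group,
              hg u ⟨_, conj_mem_of_normalizer hp.normP u.2⟩ rfl, ih]
            refine congrArg ι (Subtype.ext ?_)
            show p ^ i * (p * (u : Matrix.ProjectiveSpecialLinearGroup (Fin 2) F) * p⁻¹) * (p ^ i)⁻¹ =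
              p ^ (i + 1) * u * (p ^ (i + 1))⁻¹
            rw [pow_succ]; group
        rw [hiter]
        exact congrArg ι (Subtype.ext hi)
    · have hσc : ι ⟨σ, hd.mem⟩ ^ 2 ^ (n - 2) = ι ⟨σ ^ 2 ^ (n - 2), hd.half_mem⟩ := hpow _ _
      refine Or.inr ⟨ι ⟨σ, hd.mem⟩, n, ⟨hd.three, ⟨_, rfl⟩, ?_, hιcard.trans hd.card, ?_⟩, ?_⟩
      · rw [orderOf_injective ι hιinj, Subgroup.orderOf_mk, hd.order]
      · rintro _ ⟨u, rfl⟩
        rcases hd.cases u u.2 with h | ⟨h1, h2⟩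
        · obtain ⟨i, hi⟩ := h
          refine Or.inl ⟨i, ?_⟩
          show ι ⟨σ, hd.mem⟩ ^ i = ι u
          rw [← map_zpow]
          exact congrArg ι (Subtype.ext hi)
        · refine Or.inr ⟨?_, ?_⟩
          · rw [← map_mul, show u * u = 1 from Subtype.ext h1, map_one]
          · rw [← map_inv, ← map_inv, ← map_mul, ← map_mul]
            exact congrArg ι (Subtype.ext h2)
      · rintro _ ⟨u, rfl⟩ hu
        obtain ⟨p, hp1, hp2⟩ := hfour u u.2 (fun h => hu (by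
          obtain ⟨i, hi⟩ := h
          refine ⟨i, ?_⟩
          show ι ⟨σ, hd.mem⟩ ^ i = ι u
          rw [← map_zpow]
          exact congrArg ι (Subtype.ext hi)))
        obtain ⟨g, hgt, hg⟩ := hlift p
        refine ⟨g, hgt, ?_, ?_⟩
        · rw [hσc]; exact hg _ _ hp1
        · rw [hσc, ← map_mul]; exact hg _ _ hp2

end Cfsg.Agent.Fus.CentTwoPSL
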