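import Cfsg.Agent.Lib.Fus.CentTwoPSL.Semi
import Cfsg.Agent.Lib.Fus.CentTwoPSL.Common
import Cfsg.Agent.Lib.Fus.CentTwoPSL.Act

/-!
# One class on an abelian Sylow 2-subgroup

An odd group transitive on the involutions of an elementary abelian group of order `2 ^ m` is semilinear, so
a point stabiliser has order at most `m`.
-/

set_option autoImplicit false
set_option linter.style.haveILetI false

namespace Cfsg.Agent.Fus.CentTwoPSL

open Subgroup Cfsg.Agent.Recog.HuppertCases

universe u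

theorem stab_le {A : Type u} [CommGroup A] [Finite A] {m : ℕ} (hA : Nat.card A = 2 ^ m) (hm : 1 ≤ m)
    (hexp : ∀ a : A, a * a = 1) {Γ : Type*} [Group Γ] [Finite Γ] (φ : Γ →* MulAut A) (hφ : Function.Injective φ)
    (hodd : Odd (Nat.card Γ)) (htr : ∀ v w : A, v ≠ 1 → w ≠ 1 → ∃ γ, φ γ v = w) {u : A} (hu : u ≠ 1)
    (St : Subgroup Γ) (hfix : ∀ γ ∈ St, φ γ u = u) : Nat.card St ≤ m := by
  classical
  letI : Module (ZMod 2) (Additive A) := AddCommGroup.zmodModule fun a => by
    rw [two_nsmul]; exact hexp a.toMul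
  haveI : Finite (Additive A) := Finite.of_equiv A Additive.ofMul
  haveI : Nontrivial A := Finite.one_lt_card_iff_nontrivial.1 (by rw [hA]; exact Nat.one_lt_two_pow (by omega))
  let f : Γ → (Additive A ≃ₗ[ZMod 2] Additive A) := fun g =>
    (MulEquiv.toAdditive (φ g)).toLinearEquiv fun c x => ZMod.map_smul (MulEquiv.toAdditive (φ g)) c x
  let ρ : Γ →* (Additive A ≃ₗ[ZMod 2] Additive A) :=
    { toFun := f
      map_one' := LinearEquiv.ext fun x => by
        show Additive.ofMul (φ 1 x.toMul) = x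
        rw [map_one]; rfl
      map_mul' := fun a b => LinearEquiv.ext fun x => by
        show Additive.ofMul (φ (a * b) x.toMul) = Additive.ofMul (φ a (φ b x.toMul))
        rw [map_mul]; rfl }
  have hρ : Function.Injective ρ := fun a b h => hφ (MulEquiv.ext fun x => LinearEquiv.congr_fun h (Additive.ofMul x))
  have ht : Trans ρ := fun v w hv hw => htr v.toMul w.toMul hv hw
  obtain ⟨F, _, _, e, hF⟩ := Invol.OddTransitive.semi_of_odd hodd hρ ht
  choose a σ haσ using hF
  have hcardF : Fintype.card F = 2 ^ m := by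
    rw [← Nat.card_eq_fintype_card, ← Nat.card_congr e.toEquiv, Nat.card_congr Additive.toMul, hA]
  haveI : CharP F 2 := by
    obtain ⟨r, hr⟩ := CharP.exists F
    haveI := hr
    obtain ⟨k, hrp, hk⟩ := FiniteField.card F r
    rw [hcardF] at hk
    have h2 : 2 ∣ r ^ (k : ℕ) := hk ▸ dvd_pow_self 2 (by omega)
    have : r = 2 := ((Nat.prime_dvd_prime_iff_eq Nat.prime_two hrp).1 (Nat.prime_two.dvd_of_dvd_pow h2)).symm
    exact this ▸ hr
  letI : Algebra (ZMod 2) F := ZMod.algebra F 2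
  have hfin : Module.finrank (ZMod 2) F = m := by
    have h := Module.natCard_eq_pow_finrank (K := ZMod 2) (V := F)
    rw [Nat.card_eq_fintype_card, hcardF, Nat.card_zmod] at h
    exact (Nat.pow_right_injective le_rfl h).symm
  let s : St → (F ≃ₐ[ZMod 2] F) := fun g => AlgEquiv.ofRingEquiv (f := σ (g : Γ)) fun c =>
    RingHom.congr_fun (RingHom.ext_zmod ((σ (g : Γ)).toRingHom.comp (algebraMap (ZMod 2) F)) (algebraMap (ZMod 2) F)) c
  have hfixe : ∀ g : St, a (g : Γ) * σ (g : Γ) (e (Additive.ofMul u)) = e (Additive.ofMul u) := fun g => by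
    rw [← haσ]
    exact congrArg e (congrArg Additive.ofMul (hfix g g.2))
  have hinj : Function.Injective s := by
    intro g h hgh
    have hσ : σ (g : Γ) = σ (h : Γ) := RingEquiv.ext fun x => congrArg (fun k : F ≃ₐ[ZMod 2] F => k x) hgh
    have ha : a (g : Γ) = a (h : Γ) := by
      have h1 := (hfixe g).trans (hfixe h).symm
      rw [hσ] at h1
      refine mul_right_cancel₀ ?_ h1
      rw [ne_eq, map_eq_zero, AddEquivClass.map_eq_zero_iff]
      exact hu
    refine Subtype.ext (hρ (LinearEquiv.ext fun w => e.injective ?_))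
    rw [haσ, haσ, ha, hσ]
  calc Nat.card St ≤ Nat.card (F ≃ₐ[ZMod 2] F) := Nat.card_le_card_of_injective s hinj
    _ = m := by rw [IsGalois.card_aut_eq_finrank, hfin]

/-- For `|V| ≥ 8` the involutions of an abelian Sylow subgroup `⟨t⟩ × V` are not all conjugate. -/
theorem not_one_class {G : Type*} [Group G] [Finite G] {t : G} (S : Sylow 2 G) {V : Subgroup G} {n : ℕ}
    (hn : 3 ≤ n) (hcard : Nat.card V = 2 ^ n) (hS : Nat.card ↥(S : Subgroup G) = 2 ^ (n + 1))
    (hVS : V ≤ (S : Subgroup G)) (htS : t ∈ (S : Subgroup G)) (ht1 : t ≠ 1)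
    (hsq : ∀ x ∈ (S : Subgroup G), x * x = 1) (g : G) (hgt : g * t = t * g)
    (hgS : g ∈ normalizer ((S : Subgroup G) : Set G))
    (htr : ∀ v ∈ V, v ≠ 1 → ∀ w ∈ V, w ≠ 1 → ∃ j : ℕ, g ^ j * v * (g ^ j)⁻¹ = w)
    (hall : ∀ x ∈ (S : Subgroup G), x ≠ 1 → IsConj t x) : False := by
  classical
  haveI : Fact (Nat.Prime 2) := ⟨Nat.prime_two⟩
  have hab : ∀ a b : ↥(S : Subgroup G), a * b = b * a := fun a b => Subtype.ext (by
    simp only [Subgroup.coe_mul]
    rw [← inv_eq_of_mul_eq_one_right (hsq _ (mul_mem a.2 b.2)), mul_inv_rev, inv_eq_of_mul_eq_one_right (hsq _ a.2),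
      inv_eq_of_mul_eq_one_right (hsq _ b.2)])
  letI : CommGroup ↥(S : Subgroup G) := { (inferInstance : Group ↥(S : Subgroup G)) with mul_comm := hab }
  set N := normalizer ((S : Subgroup G) : Set G) with hN
  set Γ := (actV (S : Subgroup G)).range with hΓ
  have hodd : Odd (Nat.card Γ) := by
    have h1 : ((S : Subgroup G).subgroupOf N) ≤ (actV (S : Subgroup G)).ker := fun x hx => by
      refine MulEquiv.ext fun v => Subtype.ext ?_
      rw [actV_apply]
      show (x : G) * v * (x : G)⁻¹ = v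
      rw [show (x : G) * v = v * x from congrArg Subtype.val (hab ⟨x, hx⟩ v), mul_inv_cancel_right]
    have h2 : ¬ 2 ∣ ((S : Subgroup G).subgroupOf N).index := fun h => S.not_dvd_index (h.trans (by
      rw [← relIndex_mul_index (show (S : Subgroup G) ≤ N from le_normalizer)]
      exact Dvd.intro _ rfl))
    rw [hΓ, ← index_ker]
    exact Nat.not_even_iff_odd.1 fun h => h2 ((even_iff_two_dvd.1 h).trans (index_dvd_of_le h1))
  have hord : ∀ x ∈ (S : Subgroup G), x ≠ 1 → orderOf x = 2 := fun x hx hx1 =>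
    orderOf_eq_prime (by rw [pow_two]; exact hsq x hx) hx1
  have htrΓ : ∀ v w : ↥(S : Subgroup G), v ≠ 1 → w ≠ 1 → ∃ γ : Γ, Γ.subtype γ v = w := by
    intro v w hv hw
    obtain ⟨c, hc⟩ := _root_.isConj_iff.1
      ((hall v v.2 fun h => hv (Subtype.ext h)).symm.trans (hall w w.2 fun h => hw (Subtype.ext h)))
    have hcen : ∀ a : ↥(S : Subgroup G), (a : G) ∈ centralizer ((S : Subgroup G) : Set G) := fun a =>
      mem_centralizer_iff.2 fun b hb => congrArg Subtype.val (hab ⟨b, hb⟩ a)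
    obtain ⟨k, hk, e⟩ := Sylow.conj_eq_normalizer_conj_of_mem_centralizer S (v : G) c⁻¹ (hcen v)
      (by rw [inv_inv, hc]; exact hcen w)
    refine ⟨⟨_, ⟨⟨k⁻¹, inv_mem hk⟩, rfl⟩⟩, Subtype.ext ?_⟩
    show (actV (S : Subgroup G) ⟨k⁻¹, inv_mem hk⟩ v : G) = w
    rw [actV_apply]
    show k⁻¹ * v * k⁻¹⁻¹ = w
    rw [inv_inv, ← e, inv_inv, hc]
  let St : Subgroup Γ :=
    { carrier := {γ | Γ.subtype γ ⟨t, htS⟩ = ⟨t, htS⟩}
      one_mem' := rfl
      mul_mem' := fun {a b} ha hb => by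
        show Γ.subtype (a * b) ⟨t, htS⟩ = ⟨t, htS⟩
        rw [map_mul, MulAut.mul_apply, show Γ.subtype b ⟨t, htS⟩ = ⟨t, htS⟩ from hb]
        exact ha
      inv_mem' := fun {a} ha => by
        show Γ.subtype a⁻¹ ⟨t, htS⟩ = ⟨t, htS⟩
        conv_lhs => rw [← show Γ.subtype a ⟨t, htS⟩ = ⟨t, htS⟩ from ha]
        rw [map_inv, MulAut.inv_apply, MulEquiv.symm_apply_apply] }
  have hle : Nat.card St ≤ n + 1 := stab_le hS (by omega) (fun a => Subtype.ext (hsq a a.2)) Γ.subtype
    Γ.subtype_injective hodd htrΓ (u := ⟨t, htS⟩) (fun h => ht1 (congrArg Subtype.val h)) St fun γ hγ => hγ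
  obtain ⟨v, hv, hv1⟩ : ∃ v ∈ V, v ≠ 1 := V.bot_or_exists_ne_one.resolve_left fun h => by
    rw [h, card_bot] at hcard
    have := Nat.one_lt_two_pow (show n ≠ 0 by omega)
    omega
  choose j hj using fun w : {w : V // w ≠ 1} =>
    htr v hv hv1 w.1 w.1.2 (fun h => w.2 (Subtype.ext h))
  have hmem : ∀ i : ℕ, g ^ i ∈ N := fun i => pow_mem hgS i
  let f : {w : V // w ≠ 1} → St := fun w => ⟨⟨_, ⟨⟨g ^ j w, hmem _⟩, rfl⟩⟩, by
    refine Subtype.ext ?_
    show (actV (S : Subgroup G) ⟨g ^ j w, hmem _⟩ ⟨t, htS⟩ : G) = t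
    rw [actV_apply]
    show g ^ j w * t * (g ^ j w)⁻¹ = t
    rw [show g ^ j w * t = t * g ^ j w from (Commute.pow_left hgt (j w) : Commute (g ^ j w) t), mul_inv_cancel_right]⟩
  have hf : Function.Injective f := fun w w' h => by
    have h1 : (actV (S : Subgroup G) ⟨g ^ j w, hmem _⟩ ⟨v, hVS hv⟩ : G) =
        actV (S : Subgroup G) ⟨g ^ j w', hmem _⟩ ⟨v, hVS hv⟩ :=
      congrArg (fun γ : St => ((Γ.subtype γ.1) ⟨v, hVS hv⟩ : G)) h
    rw [actV_apply, actV_apply] at h1
    exact Subtype.ext (Subtype.ext ((hj w).symm.trans (h1.trans (hj w'))))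
  have h1 := (Nat.card_le_card_of_injective f hf).trans hle
  haveI := Fintype.ofFinite V
  rw [Nat.card_eq_fintype_card, Fintype.card_subtype_compl, Fintype.card_subtype_eq, ← Nat.card_eq_fintype_card,
    hcard] at h1
  have h3 : n + 2 < 2 ^ n := by
    clear h1 hle hcard hS
    induction n, hn using Nat.le_induction with
    | base => norm_num
    | succ k hk ih => rw [pow_succ]; omega
  omega

end Cfsg.Agent.Fus.CentTwoPSL
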