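import Cfsg.Agent.Lib.Fus.PSLTwo
import Cfsg.Agent.Lib.Classical.SLNormal
import Cfsg.Agent.Lib.Fus.CentTwoPSL.Classes

/-!
# The Sylow 2-subgroups of `PSL₂(q)` and their fusion

Elementary abelian with a cyclically transitive normalising element, or dihedral of order at least eight
with every four subgroup fused.
-/

set_option autoImplicit false
set_option linter.style.haveILetI false

namespace Cfsg.Agent.Fus.CentTwoPSL

open Subgroup

/-- An elementary abelian group of order at least four, normalised by `g` permuting its involutions cyclically. -/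
structure ElemTurn {X : Type*} [Group X] (P : Subgroup X) (g : X) : Prop where
  big : 4 ≤ Nat.card P
  sq : ∀ x ∈ P, x * x = 1
  normP : g ∈ normalizer (P : Set X)
  trans : ∀ v ∈ P, v ≠ 1 → ∀ w ∈ P, w ≠ 1 → ∃ j : ℕ, g ^ j * v * (g ^ j)⁻¹ = w

/-- A dihedral group with rotations `⟨σ⟩`, of order `2 ^ m ≥ 8`. -/
structure DihData {X : Type*} [Group X] (P : Subgroup X) (σ : X) (m : ℕ) : Prop where
  three : 3 ≤ m
  mem : σ ∈ P
  order : orderOf σ = 2 ^ (m - 1)
  card : Nat.card P = 2 ^ m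
  cases : ∀ x ∈ P, x ∈ zpowers σ ∨ x * x = 1 ∧ x * σ * x⁻¹ = σ⁻¹

section Dih

variable {X : Type*} [Group X] {P : Subgroup X} {σ : X} {m : ℕ}

theorem DihData.half_sq (h : DihData P σ m) : σ ^ 2 ^ (m - 2) * σ ^ 2 ^ (m - 2) = 1 := by
  rw [← pow_add, ← two_mul, ← pow_succ', show m - 2 + 1 = m - 1 by have := h.three; omega, ← h.order,
    pow_orderOf_eq_one]

theorem DihData.half_ne (h : DihData P σ m) : σ ^ 2 ^ (m - 2) ≠ 1 := fun e => by
  have h1 := Nat.le_of_dvd (by positivity) (orderOf_dvd_of_pow_eq_one e)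
  rw [h.order] at h1
  have := Nat.pow_le_pow_iff_right (le_refl 2) |>.1 h1
  have := h.three
  omega

theorem DihData.half_comm (h : DihData P σ m) {x : X} (hx : x ∈ P) :
    x * σ ^ 2 ^ (m - 2) = σ ^ 2 ^ (m - 2) * x := by
  rcases h.cases x hx with hp | ⟨-, hinv⟩
  · obtain ⟨i, rfl⟩ := mem_zpowers_iff.1 hp
    rw [← zpow_natCast, ← zpow_add, ← zpow_add, add_comm]
  · have e : x * σ ^ 2 ^ (m - 2) * x⁻¹ = σ ^ 2 ^ (m - 2) := by
      rw [← conj_pow, hinv, inv_pow]
      exact inv_eq_of_mul_eq_one_right h.half_sq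
    calc x * σ ^ 2 ^ (m - 2) = x * σ ^ 2 ^ (m - 2) * x⁻¹ * x := by group
      _ = _ := by rw [e]

theorem DihData.half_mem (h : DihData P σ m) : σ ^ 2 ^ (m - 2) ∈ P := pow_mem h.mem _

theorem DihData.eq_half [Finite X] (h : DihData P σ m) {x : X} (hx : x ∈ zpowers σ) (hxx : x * x = 1)
    (hx1 : x ≠ 1) : x = σ ^ 2 ^ (m - 2) := by
  obtain ⟨i, rfl⟩ := (isOfFinOrder_of_finite σ).mem_powers_iff_mem_zpowers.2 hx
  have hd : 2 ^ (m - 1) ∣ 2 * i := by
    rw [← h.order]
    refine orderOf_dvd_of_pow_eq_one ?_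
    rw [two_mul, pow_add]; exact hxx
  rw [show m - 1 = m - 2 + 1 by have := h.three; omega, pow_succ'] at hd
  obtain ⟨j, rfl⟩ := Nat.dvd_of_mul_dvd_mul_left two_pos hd
  rcases Nat.even_or_odd j with ⟨l, rfl⟩ | ⟨l, rfl⟩
  · refine absurd (orderOf_dvd_iff_pow_eq_one.1 ⟨l, ?_⟩) hx1
    rw [h.order, show m - 1 = m - 2 + 1 by have := h.three; omega]; ring
  · show σ ^ (2 ^ (m - 2) * (2 * l + 1)) = _
    rw [mul_add, mul_one, pow_add, show 2 ^ (m - 2) * (2 * l) = orderOf σ * l by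
      rw [h.order, show m - 1 = m - 2 + 1 by have := h.three; omega]; ring, pow_mul, pow_orderOf_eq_one, one_pow,
      one_mul]

/-- A quarter rotation moves every reflection to its product with the central involution. -/
theorem DihData.quarter (h : DihData P σ m) :
    σ ^ 2 ^ (m - 3) * σ ^ 2 ^ (m - 2) * (σ ^ 2 ^ (m - 3))⁻¹ = σ ^ 2 ^ (m - 2) ∧
      ∀ w ∈ P, w ∉ zpowers σ → σ ^ 2 ^ (m - 3) * w * (σ ^ 2 ^ (m - 3))⁻¹ = σ ^ 2 ^ (m - 2) * w := by
  refine ⟨by rw [← pow_add, add_comm, pow_add, mul_inv_cancel_right], fun w hw hn => ?_⟩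
  obtain ⟨hww, hinv⟩ := (h.cases w hw).resolve_left hn
  set s := σ ^ 2 ^ (m - 3) with hs
  have hws : w * s * w⁻¹ = s⁻¹ := by rw [hs, ← conj_pow, hinv, inv_pow]
  have hss : s * s = σ ^ 2 ^ (m - 2) := by
    rw [hs, ← pow_add, ← two_mul, ← pow_succ', show m - 3 + 1 = m - 2 by have := h.three; omega]
  calc s * w * s⁻¹ = s * (w * s * w⁻¹)⁻¹ * w := by group
    _ = s * s * w := by rw [hws, inv_inv]
    _ = _ := by rw [hss]

/-- With one class of involutions every four subgroup of the Sylow subgroup is fused. -/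
theorem DihData.fuse [Finite X] (S : Sylow 2 X) (h : DihData (S : Subgroup X) σ m)
    (one : ∀ a b : X, orderOf a = 2 → orderOf b = 2 → IsConj a b) {τ : X} (hτ : τ ∈ (S : Subgroup X))
    (hn : τ ∉ zpowers σ) :
    ∃ g : X, g * σ ^ 2 ^ (m - 2) * g⁻¹ = τ ∧ g * τ * g⁻¹ = σ ^ 2 ^ (m - 2) * τ := by
  classical
  haveI : Fact (Nat.Prime 2) := ⟨Nat.prime_two⟩
  set z := σ ^ 2 ^ (m - 2) with hz
  obtain ⟨hst, hsw⟩ := h.quarter
  rw [← hz] at hst hsw
  set s := σ ^ 2 ^ (m - 3)
  have hττ : τ * τ = 1 := ((h.cases τ hτ).resolve_left hn).1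
  have hτ1 : τ ≠ 1 := fun e => hn (e ▸ one_mem _)
  have hzc : z * τ = τ * z := (h.half_comm hτ).symm
  obtain ⟨g, hg⟩ := isConj_iff.1 (one z τ
    (orderOf_eq_prime (by rw [pow_two]; exact h.half_sq) h.half_ne) (orderOf_eq_prime (by rw [pow_two]; exact hττ) hτ1))
  set C := centralizer ({z} : Set X) with hC
  have hSC : (S : Subgroup X) ≤ C := fun x hx => mem_centralizer_singleton_iff.2 (h.half_comm hx)
  set U := (closure ({z, τ} : Set X)).map (MulAut.conj g⁻¹).toMonoidHom with hU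
  have hUS : closure ({z, τ} : Set X) ≤ (S : Subgroup X) := (closure_le _).2 fun x hx => by
    rcases hx with rfl | rfl
    exacts [h.half_mem, hτ]
  have hUC : U ≤ C := by
    rw [hU, map_le_iff_le_comap, closure_le]
    intro x hx
    refine mem_centralizer_singleton_iff.2 ?_
    show g⁻¹ * x * g⁻¹⁻¹ * z = z * (g⁻¹ * x * g⁻¹⁻¹)
    have hxc : x * τ = τ * x := by rcases hx with rfl | rfl; exacts [hzc, rfl]
    calc g⁻¹ * x * g⁻¹⁻¹ * z = g⁻¹ * (x * (g * z * g⁻¹)) * g := by group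
      _ = g⁻¹ * ((g * z * g⁻¹) * x) * g := by rw [hg, hxc]
      _ = z * (g⁻¹ * x * g⁻¹⁻¹) := by group
  have hU2 : IsPGroup 2 U := (S.isPGroup'.to_le hUS).map _
  obtain ⟨R, hR⟩ := (hU2.of_equiv (subgroupOfEquivOfLe hUC).symm).exists_le_sylow
  obtain ⟨c, hc⟩ := MulAction.exists_smul_eq ↥C R (S.subtype hSC)
  set k := (c : X) * g⁻¹ with hk
  have hkS : ∀ y ∈ closure ({z, τ} : Set X), k * y * k⁻¹ ∈ (S : Subgroup X) := fun y hy => by
    have hyC : g⁻¹ * y * g⁻¹⁻¹ ∈ C := hUC ⟨y, hy, rfl⟩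
    have h1 : c * ⟨_, hyC⟩ * c⁻¹ ∈ (S.subtype hSC : Subgroup ↥C) := by
      rw [← hc, Sylow.coe_subgroup_smul]
      exact ⟨_, hR (mem_subgroupOf.2 (show g⁻¹ * y * g⁻¹⁻¹ ∈ U from ⟨y, hy, rfl⟩)), rfl⟩
    have h2 : (c : X) * (g⁻¹ * y * g⁻¹⁻¹) * (c : X)⁻¹ ∈ (S : Subgroup X) := mem_subgroupOf.1 h1
    rw [hk, show (c : X) * g⁻¹ * y * ((c : X) * g⁻¹)⁻¹ = (c : X) * (g⁻¹ * y * g⁻¹⁻¹) * (c : X)⁻¹ by group]
    exact h2
  have hkτ : k * τ * k⁻¹ = z := by
    rw [hk, ← hg, show (c : X) * g⁻¹ * (g * z * g⁻¹) * ((c : X) * g⁻¹)⁻¹ = (c : X) * z * (c : X)⁻¹ by group,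
      mem_centralizer_singleton_iff.1 c.2, mul_inv_cancel_right]
  set w := k * z * k⁻¹ with hw
  have hwσ : w ∉ zpowers σ := fun hmem => by
    have e : w = z := h.eq_half hmem (by
      rw [hw, show k * z * k⁻¹ * (k * z * k⁻¹) = k * (z * z) * k⁻¹ by group, h.half_sq]; group) (by
      rw [hw, ne_eq, conj_eq_one_iff]; exact h.half_ne)
    have e2 : k * z * k⁻¹ = k * τ * k⁻¹ := e.trans hkτ.symm
    exact hn ((mul_left_cancel (mul_right_cancel e2)) ▸ pow_mem (mem_zpowers σ) _)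
  have hsw' := hsw w (hkS _ (subset_closure (by simp))) hwσ
  set b := k⁻¹ * s * k with hb
  have hbτ : b * τ * b⁻¹ = τ := by
    calc b * τ * b⁻¹ = k⁻¹ * (s * (k * τ * k⁻¹) * s⁻¹) * k := by rw [hb]; group
      _ = k⁻¹ * (k * τ * k⁻¹) * k := by rw [hkτ, hst]
      _ = τ := by group
  have hbt : b * z * b⁻¹ = z * τ := by
    calc b * z * b⁻¹ = k⁻¹ * (s * w * s⁻¹) * k := by rw [hb, hw]; group
      _ = k⁻¹ * ((k * τ * k⁻¹) * (k * z * k⁻¹)) * k := by rw [hsw', hw, hkτ]
      _ = τ * z := by group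
      _ = z * τ := hzc.symm
  have hsτ := hsw τ hτ hn
  refine ⟨s * b, ?_, ?_⟩
  · rw [show s * b * z * (s * b)⁻¹ = s * (b * z * b⁻¹) * s⁻¹ by group, hbt,
      show s * (z * τ) * s⁻¹ = (s * z * s⁻¹) * (s * τ * s⁻¹) by group, hst, hsτ,
      ← mul_assoc, h.half_sq, one_mul]
  · rw [show s * b * τ * (s * b)⁻¹ = s * (b * τ * b⁻¹) * s⁻¹ by group, hbτ, hsτ]

/-- In a four-group Sylow subgroup, one class of involutions gives an element of order three on it. -/
theorem exists_turn_four [Finite X] (S : Sylow 2 X) (h4 : Nat.card (S : Subgroup X) = 4)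
    (hsq : ∀ x ∈ (S : Subgroup X), x * x = 1) (one : ∀ a b : X, orderOf a = 2 → orderOf b = 2 → IsConj a b) :
    ∃ g, ElemTurn (S : Subgroup X) g := by
  classical
  haveI : Fact (Nat.Prime 2) := ⟨Nat.prime_two⟩
  have hab : ∀ a ∈ (S : Subgroup X), ∀ b ∈ (S : Subgroup X), a * b = b * a := fun a ha b hb => by
    rw [← inv_eq_of_mul_eq_one_right (hsq _ (mul_mem ha hb)), mul_inv_rev, inv_eq_of_mul_eq_one_right (hsq a ha),
      inv_eq_of_mul_eq_one_right (hsq b hb)]
  have hcen : ∀ a ∈ (S : Subgroup X), a ∈ centralizer ((S : Subgroup X) : Set X) := fun a ha =>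
    mem_centralizer_iff.2 fun b hb => hab b hb a ha
  have burn : ∀ a ∈ (S : Subgroup X), ∀ b ∈ (S : Subgroup X), a ≠ 1 → b ≠ 1 →
      ∃ n ∈ normalizer ((S : Subgroup X) : Set X), n * a * n⁻¹ = b := by
    intro a ha b hb ha1 hb1
    obtain ⟨c, hc⟩ := _root_.isConj_iff.1 (one a b (orderOf_eq_prime (by rw [pow_two]; exact hsq a ha) ha1)
      (orderOf_eq_prime (by rw [pow_two]; exact hsq b hb) hb1))
    obtain ⟨n, hn, e⟩ := Sylow.conj_eq_normalizer_conj_of_mem_centralizer S a c⁻¹ (hcen a ha)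
      (by rw [inv_inv, hc]; exact hcen b hb)
    exact ⟨n⁻¹, inv_mem hn, by rw [inv_inv, ← e, inv_inv, hc]⟩
  haveI : Nontrivial (S : Subgroup X) := Finite.one_lt_card_iff_nontrivial.1 (by omega)
  obtain ⟨⟨a, ha⟩, ha1'⟩ := exists_ne (1 : (S : Subgroup X))
  have ha1 : a ≠ 1 := fun e => ha1' (Subtype.ext e)
  obtain ⟨b, hb, hb'⟩ : ∃ b ∈ (S : Subgroup X), b ∉ ({1, a} : Set X) := by
    by_contra! hall
    have h1 := Set.ncard_le_ncard (t := ({1, a} : Set X)) hall (Set.toFinite _)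
    rw [Set.ncard_pair ha1.symm, ← Nat.card_coe_set_eq] at h1
    simp only [SetLike.coe_sort_coe, h4] at h1
    omega
  simp only [Set.mem_insert_iff, Set.mem_singleton_iff, not_or] at hb'
  obtain ⟨hb1, hba⟩ := hb'
  have hab1 : a * b ≠ 1 := fun e => hba ((eq_inv_of_mul_eq_one_right e).trans (inv_eq_of_mul_eq_one_right (hsq a ha)))
  have hd1 : a * b ≠ a := fun e => hb1 (mul_eq_left.1 e)
  have hd2 : a * b ≠ b := fun e => ha1 (mul_eq_right.1 e)
  have hset : ∀ x ∈ (S : Subgroup X), x = 1 ∨ x = a ∨ x = b ∨ x = a * b := by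
    have h := Set.eq_of_subset_of_ncard_le (s := ({1, a, b, a * b} : Set X)) (t := ((S : Subgroup X) : Set X))
      (by
        intro x hx
        simp only [Set.mem_insert_iff, Set.mem_singleton_iff] at hx
        rcases hx with rfl | rfl | rfl | rfl
        exacts [one_mem _, ha, hb, mul_mem ha hb]) (by
        rw [← Nat.card_coe_set_eq]
        simp only [SetLike.coe_sort_coe, h4]
        rw [Set.ncard_insert_of_notMem (by simp [ha1.symm, Ne.symm hb1, hab1.symm]),
          Set.ncard_insert_of_notMem (by simp [Ne.symm hba, hd1.symm]),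
          Set.ncard_pair hd2.symm])
    intro x hx
    have hx' : x ∈ ({1, a, b, a * b} : Set X) := h ▸ hx
    simpa [Set.mem_insert_iff, Set.mem_singleton_iff] using hx'
  have key : ∀ n ∈ normalizer ((S : Subgroup X) : Set X), ∀ v ∈ (S : Subgroup X), v ≠ 1 →
      n * v * n⁻¹ ∈ (S : Subgroup X) ∧ n * v * n⁻¹ ≠ 1 := fun n hn v hv hv1 =>
    ⟨conj_mem_of_normalizer hn hv, fun e => hv1 (conj_eq_one_iff.1 e)⟩
  have inj : ∀ n v w : X, n * v * n⁻¹ = n * w * n⁻¹ → v = w := fun n v w e => mul_left_cancel (mul_right_cancel e)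
  obtain ⟨g, hg, hga, hgb⟩ : ∃ g ∈ normalizer ((S : Subgroup X) : Set X), g * a * g⁻¹ = b ∧ g * b * g⁻¹ = a * b := by
    obtain ⟨n, hn, hna⟩ := burn a ha b hb ha1 hb1
    rcases hset _ (key n hn b hb hb1).1 with e | e | e | e
    · exact absurd e (key n hn b hb hb1).2
    · obtain ⟨k, hk, hka⟩ := burn a ha (a * b) (mul_mem ha hb) ha1 hab1
      rcases hset _ (key k hk b hb hb1).1 with e' | e' | e' | e'
      · exact absurd e' (key k hk b hb hb1).2
      · refine ⟨k⁻¹, inv_mem hk, ?_, ?_⟩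
        · rw [← e']; group
        · have h2 : k * (a * b) * k⁻¹ = b := by
            rw [show k * (a * b) * k⁻¹ = (k * a * k⁻¹) * (k * b * k⁻¹) by group, hka, e', hab (a * b) (mul_mem ha hb) a ha,
              ← mul_assoc, hsq a ha, one_mul]
          calc k⁻¹ * b * k⁻¹⁻¹ = k⁻¹ * (k * (a * b) * k⁻¹) * k := by rw [h2, inv_inv]
            _ = a * b := by group
      · refine ⟨k * n, mul_mem hk hn, ?_, ?_⟩
        · rw [show k * n * a * (k * n)⁻¹ = k * (n * a * n⁻¹) * k⁻¹ by group, hna, e']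
        · rw [show k * n * b * (k * n)⁻¹ = k * (n * b * n⁻¹) * k⁻¹ by group, e, hka]
      · exact absurd (inj k _ _ (e'.trans hka.symm)) hba
    · exact absurd (inj n _ _ (e.trans hna.symm)) hba
    · exact ⟨n, hn, hna, e⟩
  have hgc : g * (a * b) * g⁻¹ = a := by
    rw [show g * (a * b) * g⁻¹ = (g * a * g⁻¹) * (g * b * g⁻¹) by group, hga, hgb, hab b hb (a * b) (mul_mem ha hb),
      mul_assoc, hsq b hb, mul_one]
  have p1 : ∀ v, g ^ 1 * v * (g ^ 1)⁻¹ = g * v * g⁻¹ := fun v => by rw [pow_one]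
  have p2 : ∀ v, g ^ 2 * v * (g ^ 2)⁻¹ = g * (g * v * g⁻¹) * g⁻¹ := fun v => by rw [pow_two]; group
  have p0 : ∀ v, g ^ 0 * v * (g ^ 0)⁻¹ = v := fun v => by simp
  have qa : g ^ 2 * a * (g ^ 2)⁻¹ = a * b := by rw [p2, hga, hgb]
  have qb : g ^ 2 * b * (g ^ 2)⁻¹ = a := by rw [p2, hgb, hgc]
  have qc : g ^ 2 * (a * b) * (g ^ 2)⁻¹ = b := by rw [p2, hgc, hga]
  refine ⟨g, h4.ge, hsq, hg, fun v hv hv1 w hw hw1 => ?_⟩
  rcases hset v hv with rfl | rfl | rfl | rfl
  · exact absurd rfl hv1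
  all_goals rcases hset w hw with rfl | rfl | rfl | rfl
  all_goals first
    | exact absurd rfl hw1
    | exact ⟨0, p0 _⟩
    | exact ⟨1, (p1 _).trans hga⟩
    | exact ⟨1, (p1 _).trans hgb⟩
    | exact ⟨1, (p1 _).trans hgc⟩
    | exact ⟨2, qa⟩
    | exact ⟨2, qb⟩
    | exact ⟨2, qc⟩

end Dih

open Matrix in
/-- The Sylow 2-subgroups of `PSL₂(q)`, `q > 3`: their fusion. -/
theorem psl_sylow {F : Type*} [Field F] [Fintype F] (hF : 3 < Fintype.card F)
    (P : Sylow 2 (Matrix.ProjectiveSpecialLinearGroup (Fin 2) F)) :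
    (∀ a ∈ (P : Subgroup (Matrix.ProjectiveSpecialLinearGroup (Fin 2) F)),
      ∀ b ∈ (P : Subgroup (Matrix.ProjectiveSpecialLinearGroup (Fin 2) F)),
        orderOf a = 2 → orderOf b = 2 → IsConj a b) ∧
      ((∃ g, ElemTurn (P : Subgroup (Matrix.ProjectiveSpecialLinearGroup (Fin 2) F)) g) ∨
        ∃ σ m, DihData (P : Subgroup (Matrix.ProjectiveSpecialLinearGroup (Fin 2) F)) σ m ∧
          ∀ τ ∈ (P : Subgroup (Matrix.ProjectiveSpecialLinearGroup (Fin 2) F)), τ ∉ zpowers σ →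
            ∃ g, g * σ ^ 2 ^ (m - 2) * g⁻¹ = τ ∧ g * τ * g⁻¹ = σ ^ 2 ^ (m - 2) * τ) := by
  classical
  haveI : Fact (Nat.Prime 2) := ⟨Nat.prime_two⟩
  set π := Classical.slToPSL 2 F with hπ
  have hcard := Classical.natCard_PSL_mul (F := F) 2 (by norm_num)
  rw [Fus.PSLTwo.natCard_SL_two, Classical.natCard_units_field] at hcard
  rcases Nat.mod_two_eq_zero_or_one (Fintype.card F) with heven | hodd
  · -- characteristic two
    haveI : CharP F 2 := by
      refine ringChar.of_eq ?_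
      exact FiniteField.even_card_iff_char_two.2 heven
    have h2 : (2 : F) = 0 := CharTwo.two_eq_zero
    let u : Multiplicative F →* Matrix.SpecialLinearGroup (Fin 2) F :=
      { toFun := fun x => Fus.PSLTwo.mk2 1 x.toAdd 0 1 (by ring)
        map_one' := Subtype.ext (by ext i j; fin_cases i <;> fin_cases j <;> simp [Fus.PSLTwo.mk2])
        map_mul' := fun x y => Subtype.ext (by
          ext i j; fin_cases i <;> fin_cases j <;>
            simp [Matrix.SpecialLinearGroup.coe_mul, Matrix.mul_apply, add_comm]) }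
    have hu : ∀ x : Multiplicative F, (u x : Matrix (Fin 2) (Fin 2) F) = !![1, x.toAdd; 0, 1] := fun x => rfl
    set f := π.comp u with hf
    have hinj : Function.Injective f := by
      rw [injective_iff_map_eq_one]
      intro x hx
      obtain ⟨c, hc⟩ := (Classical.slToPSL_eq_one_iff (u x)).1 hx
      have h01 := congrFun (congrFun hc 0) 1
      simp [hu] at h01
      exact h01
    obtain ⟨r, hr⟩ : ∃ r, Fintype.card F = 2 ^ r := by
      obtain ⟨r, -, hr⟩ := FiniteField.card F 2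
      exact ⟨r, hr⟩
    have hr2 : 2 ≤ r := by
      by_contra! hlt
      interval_cases r <;> simp_all
    have hRcard : Nat.card f.range = 2 ^ r := by
      rw [← Nat.card_congr (MonoidHom.ofInjective hinj).toEquiv, ← hr, Nat.card_eq_fintype_card]
      exact Fintype.card_congr Multiplicative.toAdd
    have hg : Nat.gcd 2 (Fintype.card F - 1) = 1 := by
      rw [Nat.gcd_rec, show (Fintype.card F - 1) % 2 = 1 by omega, Nat.gcd_one_left]
    rw [hg, one_mul, hr] at hcard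
    have hodd' : Odd ((2 ^ r - 1) * (2 ^ r + 1)) := by
      have he : Even (2 ^ r) := (Nat.even_pow.2 ⟨even_two, by omega⟩)
      exact (Nat.Even.sub_odd Nat.one_le_two_pow he odd_one).mul (he.add_odd odd_one)
    let P₀ : Sylow 2 (Matrix.ProjectiveSpecialLinearGroup (Fin 2) F) := Sylow.ofCard f.range (by
      rw [hRcard, hcard, Nat.factorization_mul (by positivity) hodd'.pos.ne', Finsupp.add_apply,
        Nat.prime_two.factorization_pow, Finsupp.single_eq_same,
        Nat.factorization_eq_zero_of_not_dvd (fun h => (Nat.not_even_iff_odd.2 hodd') (even_iff_two_dvd.2 h)),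
        add_zero])
    obtain ⟨a, ha⟩ := IsCyclic.exists_generator (α := Fˣ)
    set h := π (Fus.PSLTwo.mk2 (a : F) 0 0 ((a⁻¹ : Fˣ) : F) (by simp)) with hh
    have hconj : ∀ x : F, h * f (Multiplicative.ofAdd x) * h⁻¹ = f (Multiplicative.ofAdd ((a : F) * a * x)) := by
      intro x
      rw [mul_inv_eq_iff_eq_mul, hh, hf, MonoidHom.comp_apply, MonoidHom.comp_apply, ← map_mul, ← map_mul]
      congr 1
      refine Subtype.ext ?_
      ext i j
      fin_cases i <;> fin_cases j <;>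
        simp [hu, Matrix.SpecialLinearGroup.coe_mul, Matrix.mul_apply]
      field_simp
    have hiter : ∀ (j : ℕ) (x : F), h ^ j * f (Multiplicative.ofAdd x) * (h ^ j)⁻¹ =
        f (Multiplicative.ofAdd ((a : F) ^ (2 * j) * x)) := by
      intro j
      induction j with
      | zero => intro x; simp
      | succ j ih =>
        intro x
        rw [pow_succ, show h ^ j * h * f (Multiplicative.ofAdd x) * (h ^ j * h)⁻¹ =
          h ^ j * (h * f (Multiplicative.ofAdd x) * h⁻¹) * (h ^ j)⁻¹ by group, hconj, ih]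
        congr 2
        ring
    have htrans : ∀ x y : F, x ≠ 0 → y ≠ 0 →
        ∃ j : ℕ, h ^ j * f (Multiplicative.ofAdd x) * (h ^ j)⁻¹ = f (Multiplicative.ofAdd y) := by
      intro x y hx hy
      obtain ⟨k, hk⟩ := (isOfFinOrder_of_finite a).mem_powers_iff_mem_zpowers.2 (ha (Units.mk0 (y / x) (div_ne_zero hy hx)))
      have hk' : (a : F) ^ k = y / x := by
        rw [← Units.val_pow_eq_pow_val]
        exact congrArg Units.val hk
      refine ⟨k * (Fintype.card F / 2), ?_⟩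
      have hh2 : 2 * (Fintype.card F / 2) = Fintype.card F := by omega
      rw [hiter, show 2 * (k * (Fintype.card F / 2)) = Fintype.card F * k by
        rw [mul_left_comm, hh2, mul_comm], pow_mul, FiniteField.pow_card, hk',
        div_mul_cancel₀ _ hx]
    have hmem : ∀ y, y ∈ (P₀ : Subgroup (Matrix.ProjectiveSpecialLinearGroup (Fin 2) F)) ↔
        ∃ x, f (Multiplicative.ofAdd x) = y := fun y => by
      rw [Sylow.coe_ofCard]
      exact ⟨fun ⟨x, hx⟩ => ⟨x.toAdd, hx⟩, fun ⟨x, hx⟩ => ⟨_, hx⟩⟩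
    have hne : ∀ x : F, f (Multiplicative.ofAdd x) ≠ 1 → x ≠ 0 := fun x hx e => hx (by rw [e]; exact map_one f)
    -- transport to the given Sylow subgroup
    obtain ⟨c, hc⟩ := MulAction.exists_smul_eq (Matrix.ProjectiveSpecialLinearGroup (Fin 2) F) P₀ P
    have hP : ∀ y, y ∈ (P : Subgroup (Matrix.ProjectiveSpecialLinearGroup (Fin 2) F)) ↔
        ∃ x, c * f (Multiplicative.ofAdd x) * c⁻¹ = y := fun y => by
      rw [← hc, Sylow.coe_subgroup_smul]
      constructor
      · rintro ⟨z, hz, rfl⟩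
        obtain ⟨x, rfl⟩ := (hmem z).1 hz
        exact ⟨x, rfl⟩
      · rintro ⟨x, rfl⟩
        exact ⟨_, (hmem _).2 ⟨x, rfl⟩, rfl⟩
    have hord : ∀ x, c * f (Multiplicative.ofAdd x) * c⁻¹ ≠ 1 → x ≠ 0 := fun x hx =>
      hne x fun e => hx (by rw [e, mul_one, mul_inv_cancel])
    have htr : ∀ v ∈ (P : Subgroup (Matrix.ProjectiveSpecialLinearGroup (Fin 2) F)), v ≠ 1 →
        ∀ w ∈ (P : Subgroup (Matrix.ProjectiveSpecialLinearGroup (Fin 2) F)), w ≠ 1 →
          ∃ j : ℕ, (c * h * c⁻¹) ^ j * v * ((c * h * c⁻¹) ^ j)⁻¹ = w := by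
      intro v hv hv1 w hw hw1
      obtain ⟨x, rfl⟩ := (hP v).1 hv
      obtain ⟨y, rfl⟩ := (hP w).1 hw
      obtain ⟨j, hj⟩ := htrans x y (hord x hv1) (hord y hw1)
      refine ⟨j, ?_⟩
      rw [conj_pow, ← hj]
      group
    refine ⟨fun v hv w hw hv2 hw2 => ?_, Or.inl ⟨c * h * c⁻¹, ?_, ?_, mem_normalizer_of_forall ?_, htr⟩⟩
    · obtain ⟨j, hj⟩ := htr v hv (fun e => by simp [e] at hv2) w hw (fun e => by simp [e] at hw2)
      exact _root_.isConj_iff.2 ⟨_, hj⟩
    · have e : Nat.card (P : Subgroup (Matrix.ProjectiveSpecialLinearGroup (Fin 2) F)) = 2 ^ r := by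
        rw [Nat.card_congr (Sylow.equiv P P₀).toEquiv, Sylow.coe_ofCard, hRcard]
      rw [e]
      calc 4 = 2 ^ 2 := rfl
        _ ≤ 2 ^ r := Nat.pow_le_pow_right two_pos hr2
    · intro y hy
      obtain ⟨x, rfl⟩ := (hP y).1 hy
      rw [show c * f (Multiplicative.ofAdd x) * c⁻¹ * (c * f (Multiplicative.ofAdd x) * c⁻¹) =
        c * (f (Multiplicative.ofAdd x) * f (Multiplicative.ofAdd x)) * c⁻¹ by group, ← map_mul, ← ofAdd_add,
        CharTwo.add_self_eq_zero, ofAdd_zero, map_one, mul_one, mul_inv_cancel]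
    · intro y hy
      obtain ⟨x, rfl⟩ := (hP y).1 hy
      refine (hP _).2 ⟨(a : F) * a * x, ?_⟩
      rw [← hconj]
      group
  · -- odd characteristic
    have one : ∀ a b : Matrix.ProjectiveSpecialLinearGroup (Fin 2) F, orderOf a = 2 → orderOf b = 2 → IsConj a b :=
      fun a b ha hb => Fus.PSLTwo.involutions_conj hodd ha hb
    refine ⟨fun a _ b _ => one a b, ?_⟩
    obtain ⟨k, ⟨e⟩, -⟩ := Fus.PSLTwo.exists_sylow_dihedral hodd P
    have hPcard : Nat.card (P : Subgroup (Matrix.ProjectiveSpecialLinearGroup (Fin 2) F)) = 2 ^ (k + 1) := by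
      rw [Nat.card_congr e.toEquiv, DihedralGroup.nat_card, pow_succ']
    have hk1 : 1 ≤ k := by
      by_contra! hlt
      have h0 : k = 0 := by omega
      rw [h0] at hPcard
      have hg : Nat.gcd 2 (Fintype.card F - 1) = 2 := Nat.gcd_eq_left (by omega)
      rw [hg] at hcard
      have h8 : 8 ∣ (Fintype.card F - 1) * (Fintype.card F + 1) := by
        obtain ⟨i, hi⟩ : ∃ i, Fintype.card F = 2 * i + 1 := ⟨Fintype.card F / 2, by omega⟩
        rw [hi, Nat.add_sub_cancel, show 2 * i * (2 * i + 1 + 1) = 4 * (i * (i + 1)) by ring]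
        exact Nat.mul_dvd_mul_left 4 (even_iff_two_dvd.1 (Nat.even_mul_succ_self i))
      obtain ⟨z, hz⟩ := h8
      rw [hz] at hcard
      have h4 : 2 ^ 2 ∣ Nat.card (Matrix.ProjectiveSpecialLinearGroup (Fin 2) F) := by
        refine ⟨Fintype.card F * z, ?_⟩
        rw [show Fintype.card F * (8 * z) = 2 ^ 2 * (Fintype.card F * z) * 2 by ring] at hcard
        omega
      have h := P.pow_dvd_card_of_pow_dvd_card h4
      rw [hPcard] at h
      norm_num at h
    rcases (show k = 1 ∨ 2 ≤ k by omega) with h1 | h2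
    · subst h1
      obtain ⟨g, hg⟩ := exists_turn_four P (by rw [hPcard]; norm_num) (fun x hx => by
        have h : ∀ d : DihedralGroup (2 ^ 1), d * d = 1 := by decide
        exact congrArg Subtype.val (e.injective (by rw [map_mul, map_one]; exact h _) :
          (⟨x, hx⟩ : (P : Subgroup (Matrix.ProjectiveSpecialLinearGroup (Fin 2) F))) * ⟨x, hx⟩ = 1)) one
      exact Or.inl ⟨g, hg⟩
    · set σ := ((e.symm (DihedralGroup.r 1) : (P : Subgroup (Matrix.ProjectiveSpecialLinearGroup (Fin 2) F))) :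
        Matrix.ProjectiveSpecialLinearGroup (Fin 2) F) with hσ
      have hd : DihData (P : Subgroup (Matrix.ProjectiveSpecialLinearGroup (Fin 2) F)) σ (k + 1) := by
        refine ⟨by omega, (e.symm _).2, ?_, hPcard, fun x hx => ?_⟩
        · rw [hσ, Subgroup.orderOf_coe, MulEquiv.orderOf_eq,
            DihedralGroup.orderOf_r_one, Nat.add_sub_cancel]
        · obtain ⟨d, hd⟩ : ∃ d, ((e.symm d : (P : Subgroup (Matrix.ProjectiveSpecialLinearGroup (Fin 2) F))) :
              Matrix.ProjectiveSpecialLinearGroup (Fin 2) F) = x := ⟨e ⟨x, hx⟩, by simp⟩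
          subst hd
          rcases d with i | i
          · left
            refine ⟨(i.val : ℤ), ?_⟩
            show σ ^ (i.val : ℤ) = _
            rw [zpow_natCast, hσ, ← SubmonoidClass.coe_pow, ← map_pow, DihedralGroup.r_one_pow,
              ZMod.natCast_zmod_val]
          · right
            refine ⟨?_, ?_⟩
            · rw [← Subgroup.coe_mul, ← map_mul, DihedralGroup.sr_mul_self, map_one, Subgroup.coe_one]
            · rw [hσ, ← Subgroup.coe_mul, ← Subgroup.coe_inv, ← Subgroup.coe_mul, ← Subgroup.coe_inv, ← map_inv,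
                ← map_mul, ← map_mul, ← map_inv]
              congr 2
              simp [DihedralGroup.inv_sr, DihedralGroup.inv_r, DihedralGroup.sr_mul_r, DihedralGroup.sr_mul_sr]
      exact Or.inr ⟨σ, k + 1, hd, fun τ hτ hn => hd.fuse P one hτ hn⟩

end Cfsg.Agent.Fus.CentTwoPSL
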