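import Cfsg.Agent.Lib.Invol.OddTransitive.Main

/-!
# An odd group of automorphisms of an elementary abelian 2-group containing a cyclic transitive subgroup

Such a group normalises the cyclic subgroup and exceeds it by a divisor of the dimension.
-/

set_option autoImplicit false
set_option linter.style.haveILetI false

namespace Cfsg.Agent.Fus.CentTwoPSL

open Subgroup Cfsg.Agent.Recog.HuppertCases

universe u

theorem pow_gap (g : ℕ) (hg : 1 ≤ g) : ∀ m, 2 ≤ m → m * (2 ^ g - 1) + 1 < 2 ^ (g * m) := by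
  intro m hm
  have h2 : 2 ≤ 2 ^ g := Nat.le_self_pow (by omega) 2
  induction m, hm using Nat.le_induction with
  | base =>
    rw [pow_mul]
    obtain ⟨r, hr⟩ := Nat.exists_eq_add_of_le h2
    rw [hr, show 2 + r - 1 = 1 + r by omega]
    nlinarith
  | succ m hm ih =>
    rw [Nat.mul_succ, pow_add, Nat.succ_mul]
    have := Nat.mul_le_mul_left (2 ^ (g * m)) h2
    have : 1 ≤ m := by omega
    nlinarith [Nat.le_mul_of_pos_left (2 ^ g - 1) (show 0 < m by omega)]

/-- The structure of such a group. -/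
theorem semi_facts {A : Type u} [CommGroup A] [Finite A] {n : ℕ} (hA : Nat.card A = 2 ^ n) (hn : 2 ≤ n)
    (hexp : ∀ a : A, a * a = 1) {Γ : Type*} [Group Γ] [Finite Γ] (φ : Γ →* MulAut A) (hφ : Function.Injective φ)
    (hodd : Odd (Nat.card Γ)) (d : Γ) (hd : ∀ v w : A, v ≠ 1 → w ≠ 1 → ∃ j : ℕ, φ (d ^ j) v = w) :
    (Subgroup.zpowers d).Normal ∧ Nat.card (Subgroup.zpowers d) = 2 ^ n - 1 ∧
      (∃ e, Nat.card Γ = (2 ^ n - 1) * e ∧ e ∣ n) ∧ commutator Γ ≤ Subgroup.zpowers d := by
  classical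
  letI : Module (ZMod 2) (Additive A) := AddCommGroup.zmodModule fun a => by
    rw [two_nsmul]; exact hexp a.toMul
  haveI : Finite (Additive A) := Finite.of_equiv A Additive.ofMul
  haveI : Nontrivial A := Finite.one_lt_card_iff_nontrivial.1 (by rw [hA]; exact Nat.one_lt_two_pow (by omega))
  let f : Γ → (Additive A ≃ₗ[ZMod 2] Additive A) := fun g =>
    (MulEquiv.toAdditive (φ g)).toLinearEquiv fun c x => ZMod.map_smul (MulEquiv.toAdditive (φ g)) c x
  have hf : ∀ (g : Γ) (x : A), f g (Additive.ofMul x) = Additive.ofMul (φ g x) := fun g x => rfl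
  let ρ : Γ →* (Additive A ≃ₗ[ZMod 2] Additive A) :=
    { toFun := f
      map_one' := LinearEquiv.ext fun x => by
        show Additive.ofMul (φ 1 x.toMul) = x
        rw [map_one]; rfl
      map_mul' := fun a b => LinearEquiv.ext fun x => by
        show Additive.ofMul (φ (a * b) x.toMul) = Additive.ofMul (φ a (φ b x.toMul))
        rw [map_mul]; rfl }
  have hρ : Function.Injective ρ := fun a b h => hφ (MulEquiv.ext fun x => LinearEquiv.congr_fun h (Additive.ofMul x))
  have ht : Trans ρ := fun v w hv hw => by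
    obtain ⟨j, hj⟩ := hd v.toMul w.toMul hv hw
    exact ⟨d ^ j, hj⟩
  obtain ⟨F, _, _, e, hF⟩ := Invol.OddTransitive.semi_of_odd hodd hρ ht
  choose a σ haσ using hF
  have hcardF : Fintype.card F = 2 ^ n := by
    rw [← Nat.card_eq_fintype_card, ← Nat.card_congr e.toEquiv, Nat.card_congr Additive.toMul, hA]
  haveI : CharP F 2 := by
    obtain ⟨r, hr⟩ := CharP.exists F
    haveI := hr
    obtain ⟨m, hrp, hm⟩ := FiniteField.card F r
    rw [hcardF] at hm
    have h2 : 2 ∣ r ^ (m : ℕ) := hm ▸ dvd_pow_self 2 (by omega)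
    have : r = 2 := ((Nat.prime_dvd_prime_iff_eq Nat.prime_two hrp).1 (Nat.prime_two.dvd_of_dvd_pow h2)).symm
    exact this ▸ hr
  letI : Algebra (ZMod 2) F := ZMod.algebra F 2
  have hfin : Module.finrank (ZMod 2) F = n := by
    have h := Module.natCard_eq_pow_finrank (K := ZMod 2) (V := F)
    rw [Nat.card_eq_fintype_card, hcardF, Nat.card_zmod] at h
    exact (Nat.pow_right_injective le_rfl h).symm
  have ha0 : ∀ g, a g ≠ 0 := by
    intro g h
    obtain ⟨v, hv⟩ := exists_ne (0 : Additive A)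
    have := haσ g v
    rw [h, zero_mul, AddEquivClass.map_eq_zero_iff, LinearEquiv.map_eq_zero_iff] at this
    exact hv this
  have huniq : ∀ g (a' : F) (σ' : F ≃+* F), (∀ v, e (ρ g v) = a' * σ' (e v)) → a' = a g ∧ σ' = σ g := by
    intro g a' σ' h
    have h1 := (h (e.symm 1)).symm.trans (haσ g (e.symm 1))
    simp only [AddEquiv.apply_symm_apply, map_one, mul_one] at h1
    refine ⟨h1, RingEquiv.ext fun x => ?_⟩
    have h2 := (h (e.symm x)).symm.trans (haσ g (e.symm x))
    simp only [AddEquiv.apply_symm_apply] at h2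
    rw [h1] at h2
    exact mul_left_cancel₀ (ha0 g) h2
  have hmul : ∀ g h, a (g * h) = a g * σ g (a h) ∧ σ (g * h) = σ g * σ h := by
    intro g h
    obtain ⟨h1, h2⟩ := huniq (g * h) (a g * σ g (a h)) (σ g * σ h) (fun v => by
      rw [map_mul ρ, LinearEquiv.mul_apply, haσ, haσ, map_mul, mul_assoc]
      rfl)
    exact ⟨h1.symm, h2.symm⟩
  have hone : a 1 = 1 ∧ σ 1 = 1 := by
    obtain ⟨h1, h2⟩ := huniq 1 1 1 (fun v => by rw [map_one ρ, one_mul]; rfl)
    exact ⟨h1.symm, h2.symm⟩
  let s : Γ →* (F ≃ₐ[ZMod 2] F) :=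
    { toFun := fun g => AlgEquiv.ofRingEquiv (f := σ g) fun c =>
        RingHom.congr_fun (RingHom.ext_zmod ((σ g).toRingHom.comp (algebraMap (ZMod 2) F)) (algebraMap (ZMod 2) F)) c
      map_one' := AlgEquiv.ext fun x => by show σ 1 x = x; rw [hone.2]; rfl
      map_mul' := fun g h => AlgEquiv.ext fun x => by show σ (g * h) x = σ g (σ h x); rw [(hmul g h).2]; rfl }
  have hsσ : ∀ g x, s g x = σ g x := fun g x => rfl
  have hker : ∀ g, g ∈ s.ker → σ g = 1 := fun g hg => RingEquiv.ext fun x => by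
    rw [← hsσ, show s g = 1 from hg]; rfl
  have hcardAut : Nat.card (F ≃ₐ[ZMod 2] F) = n := by rw [IsGalois.card_aut_eq_finrank, hfin]
  let l : s.ker →* Fˣ :=
    { toFun := fun g => Units.mk0 (a g) (ha0 g)
      map_one' := Units.ext hone.1
      map_mul' := fun g h => Units.ext (by
        show a ((g : Γ) * h) = a g * a h
        rw [(hmul _ _).1, hker _ g.2, RingAut.one_apply]) }
  have hl : Function.Injective l := by
    intro g h hgh
    refine Subtype.ext (hρ (LinearEquiv.ext fun w => e.injective ?_))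
    rw [haσ, haσ, hker _ g.2, hker _ h.2, show a (g : Γ) = a (h : Γ) from congrArg Units.val hgh]
  haveI hcyc : IsCyclic s.ker := isCyclic_of_injective l hl
  have hkcard : Nat.card s.ker ∣ 2 ^ n - 1 := by
    rw [show 2 ^ n - 1 = Nat.card Fˣ by rw [Nat.card_units, Nat.card_eq_fintype_card, hcardF]]
    exact card_dvd_of_injective l hl
  -- the order of the transitive element
  have hordd : orderOf d = 2 ^ n - 1 := by
    obtain ⟨v, hv⟩ := exists_ne (1 : A)
    have hstab : ∀ j : ℕ, φ (d ^ j) v = v → d ^ j = 1 := fun j hj => hφ (MulEquiv.ext fun w => by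
      rw [map_one, MulAut.one_apply]
      by_cases hw : w = 1
      · rw [hw, map_one]
      obtain ⟨i, hi⟩ := hd v w hv hw
      rw [← hi, ← MulAut.mul_apply, ← map_mul, ← pow_add, add_comm, pow_add, map_mul, MulAut.mul_apply, hj])
    let F₀ : Subgroup.zpowers d → {w : A // w ≠ 1} := fun g => ⟨φ g.1 v, fun h => hv (by
      simpa using congrArg (φ g.1).symm h)⟩
    have hbij : Function.Bijective F₀ := by
      refine ⟨fun g h e => ?_, fun w => ?_⟩
      · have e' : φ g.1 v = φ h.1 v := congrArg Subtype.val e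
        obtain ⟨j, hj⟩ := (mem_powers_iff_mem_zpowers.2 (mul_mem (inv_mem h.2) g.2) : _ ∈ Submonoid.powers d)
        have hj' : d ^ j = h.1⁻¹ * g.1 := hj
        refine Subtype.ext (inv_mul_eq_one.1 (hj'.symm.trans (hstab j ?_))).symm
        rw [hj', map_mul, MulAut.mul_apply, e', map_inv, MulAut.inv_apply, MulEquiv.symm_apply_apply]
      · obtain ⟨j, hj⟩ := hd v w.1 hv w.2
        exact ⟨⟨d ^ j, pow_mem (mem_zpowers d) j⟩, Subtype.ext hj⟩
    rw [← Nat.card_zpowers, Nat.card_eq_of_bijective F₀ hbij]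
    have := Fintype.ofFinite A
    rw [Nat.card_eq_fintype_card, Fintype.card_subtype_compl, Fintype.card_subtype_eq, ← Nat.card_eq_fintype_card, hA]
  -- the transitive element is a scalar
  have hdk : d ∈ s.ker := by
    by_contra hdk
    obtain ⟨i, hi⟩ := (FiniteField.bijective_frobeniusAlgEquivOfAlgebraic_pow (ZMod 2) F).2 (s d)
    set fr := FiniteField.frobeniusAlgEquivOfAlgebraic (ZMod 2) F
    have hi' : fr ^ (i : ℕ) = s d := hi
    have hfrn : fr ^ n = 1 := by
      rw [← hfin, ← FiniteField.orderOf_frobeniusAlgEquivOfAlgebraic (K := ZMod 2) (L := F), pow_orderOf_eq_one]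
    have hi0 : 0 < (i : ℕ) := Nat.pos_of_ne_zero fun h => hdk (by rw [MonoidHom.mem_ker, ← hi', h, pow_zero])
    set g := Nat.gcd i n with hg
    have hgpos : 0 < g := Nat.gcd_pos_of_pos_left _ hi0
    have hgn : g ∣ n := Nat.gcd_dvd_right _ _
    obtain ⟨m, hm⟩ := hgn
    have hm2 : 2 ≤ m := by
      have hglt : g < n := lt_of_le_of_lt (Nat.le_of_dvd hi0 (Nat.gcd_dvd_left _ _)) (hfin ▸ i.2)
      rcases m with _ | _ | m
      · omega
      · omega
      · omega
    have hdm : d ^ m ∈ s.ker := by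
      rw [MonoidHom.mem_ker, map_pow, ← hi', ← pow_mul]
      obtain ⟨c, hc⟩ : n ∣ (i : ℕ) * m := by
        obtain ⟨c, hc⟩ : g ∣ (i : ℕ) := Nat.gcd_dvd_left _ _
        exact ⟨c, by rw [hc, hm]; ring⟩
      rw [hc, pow_mul, hfrn, one_pow]
    have hfixb : σ d (a (d ^ m)) = a (d ^ m) := by
      have h1 := (hmul d (d ^ m)).1
      have h2 := (hmul (d ^ m) d).1
      rw [hker _ hdm, RingAut.one_apply, ← pow_succ, pow_succ', h1, mul_comm (a (d ^ m))] at h2
      exact mul_left_cancel₀ (ha0 d) h2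
    set b := Units.mk0 (a (d ^ m)) (ha0 _) with hb
    have hb1 : b ^ (2 ^ (i : ℕ) - 1) = 1 := by
      have h1 : (fr ^ (i : ℕ)) (a (d ^ m)) = a (d ^ m) := by rw [hi', hsσ]; exact hfixb
      rw [AlgEquiv.coe_pow, FiniteField.coe_frobeniusAlgEquivOfAlgebraic_iterate, ZMod.card] at h1
      have h2 : b ^ (2 ^ (i : ℕ)) = b := Units.ext h1
      apply mul_right_cancel (b := b)
      rw [← pow_succ, Nat.sub_add_cancel Nat.one_le_two_pow, h2, one_mul]
    have hb2 : b ^ (2 ^ n - 1) = 1 := by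
      rw [show 2 ^ n - 1 = Nat.card Fˣ by rw [Nat.card_units, Nat.card_eq_fintype_card, hcardF]]
      exact pow_card_eq_one'
    have hb3 : b ^ (2 ^ g - 1) = 1 := by
      rw [hg, ← Nat.pow_sub_one_gcd_pow_sub_one]
      exact pow_gcd_eq_one.2 ⟨hb1, hb2⟩
    have hdone : (d ^ m) ^ (2 ^ g - 1) = 1 := by
      have h1 : l (⟨d ^ m, hdm⟩ ^ (2 ^ g - 1)) = 1 := by rw [map_pow]; exact hb3
      exact congrArg Subtype.val (hl (h1.trans (map_one l).symm))
    rw [← pow_mul] at hdone
    have hle := Nat.le_of_dvd (Nat.mul_pos (by omega) (Nat.sub_pos_of_lt (Nat.one_lt_two_pow (by omega))))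
      (orderOf_dvd_of_pow_eq_one hdone)
    rw [hordd, hm] at hle
    have := pow_gap g hgpos m hm2
    omega
  have heq : Subgroup.zpowers d = s.ker := by
    refine eq_of_le_of_card_ge (zpowers_le.2 hdk) ?_
    rw [Nat.card_zpowers, hordd]
    exact Nat.le_of_dvd (Nat.sub_pos_of_lt (Nat.one_lt_two_pow (by omega))) hkcard
  have hcD : Nat.card (Subgroup.zpowers d) = 2 ^ n - 1 := by rw [Nat.card_zpowers, hordd]
  refine ⟨heq ▸ inferInstance, hcD, ⟨Nat.card s.range, ?_, ?_⟩, ?_⟩
  · rw [← hcD, heq, Subgroup.card_eq_card_quotient_mul_card_subgroup s.ker,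
      Nat.card_congr (QuotientGroup.quotientKerEquivRange s).toEquiv, mul_comm]
  · rw [← hcardAut]; exact s.range.card_subgroup_dvd_card
  · rw [heq, _root_.commutator_def, Subgroup.commutator_le]
    intro x _ y _
    rw [MonoidHom.mem_ker, map_commutatorElement, commutatorElement_eq_one_iff_mul_comm]
    obtain ⟨i, hi⟩ := (FiniteField.bijective_frobeniusAlgEquivOfAlgebraic_pow (ZMod 2) F).2 (s x)
    obtain ⟨j, hj⟩ := (FiniteField.bijective_frobeniusAlgEquivOfAlgebraic_pow (ZMod 2) F).2 (s y)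
    rw [← hi, ← hj]
    exact Commute.pow_pow_self _ _ _

end Cfsg.Agent.Fus.CentTwoPSL
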